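import Cfsg.Agent.Lib.Recog.U33Unique.Perm

/-!
A group generated by the affine Borel group and a swap on `28 = 1 + 27` points with the closure
property is one fixed subgroup of the symmetric group.
-/

set_option autoImplicit false

namespace CfsgLib.Recog.U33Unique

open CfsgLib.Recognition.PSU33

/-- The points. -/
abbrev Pt := Option H3

/-- Left translation. -/
def leftPerm (g : H3) : Equiv.Perm Pt := Equiv.optionCongr (Equiv.mulLeft g)

/-- The powers of the torus generator. -/
def alphaPerm (k : ZMod 8) : Equiv.Perm Pt := Equiv.optionCongr (H3.actAut k).toEquiv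

theorem leftPerm_none (g : H3) : leftPerm g none = none := rfl

theorem leftPerm_some (g v : H3) : leftPerm g (some v) = some (g * v) := rfl

theorem alphaPerm_none (k : ZMod 8) : alphaPerm k none = none := rfl

theorem alphaPerm_some (k : ZMod 8) (v : H3) : alphaPerm k (some v) = some (H3.act k v) := rfl

theorem alphaPerm_pow (n : ℕ) : alphaPerm 1 ^ n = alphaPerm n := by
  induction n with
  | zero => ext (_ | v) <;> simp [alphaPerm_none, alphaPerm_some, H3.act_zero]
  | succ n ih =>
    rw [pow_succ', ih]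
    refine Equiv.ext fun x => ?_
    rcases x with _ | v
    · rfl
    · simp only [Equiv.Perm.mul_apply, alphaPerm_some, ← H3.act_add, Nat.cast_succ, add_comm]

/-- Decoding. -/
def dec (n : ℕ) : H3 := ⟨(n / 9 : ℕ), (n / 3 : ℕ), n⟩

theorem dec_enc : ∀ g : H3, dec (enc g) = g := by decide +kernel

theorem enc_lt : ∀ g : H3, enc g < 27 := by decide +kernel

theorem enc_inj {g h : H3} (e : enc g = enc h) : g = h := by
  rw [← dec_enc g, e, dec_enc]

theorem encO_inj {x y : Pt} (e : encO x = encO y) : x = y := by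
  rcases x with _ | g <;> rcases y with _ | h <;> simp only [encO] at e
  · rfl
  · exact absurd e (enc_lt h).ne'
  · exact absurd e (enc_lt g).ne
  · rw [enc_inj e]

theorem enc_mul : ∀ g h : H3, enc (g * h) = mulN (enc g) (enc h) := by decide +kernel

theorem enc_act : ∀ (k : Fin 8) (g : H3), enc (H3.act ((k : ℕ) : ZMod 8) g) = actN k (enc g) := by
  decide +kernel

theorem enc_act' (k : ZMod 8) (g : H3) : enc (H3.act k g) = actN k.val (enc g) := by
  rw [← enc_act ⟨k.val, ZMod.val_lt k⟩, ZMod.natCast_zmod_val]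

theorem dlog_spec : ∀ g : H3, g.a ≠ 0 ∨ g.b ≠ 0 →
    ∃ (i : Fin 3) (t : Fin 8), H3.act ((t : ℕ) : ZMod 8) (rep i) = g ∧
      dlogN (enc g) = 8 * i + t ∧ 3 ≤ enc g := by
  decide +kernel

theorem central_cases : ∀ g : H3, g.a = 0 → g.b = 0 → g = 1 ∨ g = H3.z ∨ g = H3.act 1 H3.z := by
  decide +kernel

theorem act_z : ∀ k : ZMod 8, k.val % 2 = 1 → H3.act k H3.z = H3.act 1 H3.z := by decide +kernel

theorem rep_not_fixed : ∀ (j : ZMod 8) (i : Fin 3), H3.act j (rep i) ≠ 1 ∧
    ((H3.act j (rep i)).a ≠ 0 ∨ (H3.act j (rep i)).b ≠ 0) := by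
  decide +kernel

theorem act_one_eq : ∀ k : ZMod 8, H3.act k 1 = 1 := by decide +kernel

theorem central_act : ∀ (k : ZMod 8) (g : H3), g.a = 0 → g.b = 0 →
    (H3.act k g).a = 0 ∧ (H3.act k g).b = 0 := by
  decide +kernel

theorem act_eq_rep : ∀ (k : ZMod 8) (i i' : Fin 3), H3.act k (rep i) = rep i' → k = 0 ∧ i = i' := by
  decide +kernel

theorem rep_enc : ∀ i : Fin 3, enc (rep i) = 3 + i := by decide +kernel

theorem zmod_val_cast : ∀ (a c t : ZMod 8), ((a.val + c.val * t.val) % 8 : ℕ) = (a + c * t).val := by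
  decide +kernel

/-- The base map. -/
def f0 (g : H3) : H3 := dec (mapN 5 3 16 10 (enc g))

theorem enc_f0 : ∀ g : H3, enc (f0 g) = mapN 5 3 16 10 (enc g) := by decide +kernel

/-- The base swap. -/
def swapMap : Pt → Pt
  | none => some 1
  | some g => if g = 1 then none else some (f0 g)

theorem swapMap_injective : Function.Injective swapMap := by
  unfold Function.Injective
  decide +kernel

/-- The base swap, as a permutation. -/
noncomputable def swap0 : Equiv.Perm Pt :=
  Equiv.ofBijective swapMap (Finite.injective_iff_bijective.1 swapMap_injective)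

/-- The model group. -/
noncomputable def model : Subgroup (Equiv.Perm Pt) :=
  Subgroup.closure (Set.range leftPerm ∪ {alphaPerm 1, swap0})

/-- The data making a faithful action isomorphic to the model. -/
structure Frame (G : Type*) [Group G] where
  θ : G →* Equiv.Perm Pt
  θ_inj : Function.Injective θ
  u : H3 → G
  θ_u : ∀ g, θ (u g) = leftPerm g
  s : G
  θ_s : θ s = alphaPerm 1
  w : G
  w_none : θ w none = some 1
  w_one : θ w (some 1) = none
  w_z : θ w (some H3.z) = some H3.z
  c : ZMod 8
  c_odd : c.val % 2 = 1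
  w_alpha : ∀ x, θ w (alphaPerm 1 x) = alphaPerm c (θ w x)
  j : ZMod 8
  w_sq : ∀ x, θ w (θ w x) = alphaPerm j x
  close : ∀ v v' : H3, θ w (some v) = some v' →
    ∃ (h0 : H3) (k : ZMod 8), ∀ x : H3,
      θ w (leftPerm v (θ w (some x))) = leftPerm v' (θ w (some (h0 * H3.act k x)))
  gen : Subgroup.closure (Set.range u ∪ {s, w}) = ⊤

namespace Frame

variable {G : Type*} [Group G] (D : Frame G)

theorem w_act (k : ZMod 8) (x : Pt) : D.θ D.w (alphaPerm k x) = alphaPerm (D.c * k) (D.θ D.w x) := by
  rw [← ZMod.natCast_zmod_val k]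
  induction k.val generalizing x with
  | zero =>
    rw [Nat.cast_zero, mul_zero, ← Nat.cast_zero (R := ZMod 8), ← alphaPerm_pow, pow_zero,
      Equiv.Perm.one_apply, Equiv.Perm.one_apply]
  | succ n ih =>
    have h1 : ∀ (a b : ZMod 8) (y : Pt), alphaPerm (a + b) y = alphaPerm a (alphaPerm b y) := by
      rintro a b (_ | y)
      · rfl
      · simp only [alphaPerm_some, H3.act_add]
    rw [Nat.cast_succ, mul_add, mul_one, h1, h1, ih, D.w_alpha]

/-- The map of `H3` read from `w`. -/
noncomputable def f (g : H3) : H3 := (D.θ D.w (some g)).getD 1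

theorem f_spec {g : H3} (hg : g ≠ 1) : D.θ D.w (some g) = some (D.f g) ∧ D.f g ≠ 1 := by
  cases h : D.θ D.w (some g) with
  | none =>
    rw [← D.w_one] at h
    exact absurd (Option.some_injective _ ((D.θ D.w).injective h)) hg
  | some v =>
    have hf : D.f g = v := by rw [f, h]; rfl
    refine ⟨by rw [hf], fun e => ?_⟩
    rw [← hf, e, ← D.w_none] at h
    exact Option.some_ne_none _ ((D.θ D.w).injective h)

theorem f_act (k : ZMod 8) {g : H3} (hg : g ≠ 1) : D.f (H3.act k g) = H3.act (D.c * k) (D.f g) := by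
  have h := D.w_act k (some g)
  rw [alphaPerm_some, (D.f_spec hg).1, alphaPerm_some] at h
  rw [f, h]; rfl

theorem f_sq {g : H3} (hg : g ≠ 1) : D.f (D.f g) = H3.act D.j g := by
  have h := D.w_sq (some g)
  rw [(D.f_spec hg).1, alphaPerm_some] at h
  rw [f, h]; rfl

theorem f_z : D.f H3.z = H3.z := by rw [f, D.w_z]; rfl

theorem f_z_inv : D.f (H3.act 1 H3.z) = H3.act 1 H3.z := by
  rw [D.f_act 1 (by decide), f_z, mul_one, act_z _ D.c_odd]

theorem f_noncentral (i : Fin 3) : (D.f (rep i)).a ≠ 0 ∨ (D.f (rep i)).b ≠ 0 := by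
  have hne : rep i ≠ 1 := by simpa [H3.act_zero] using (rep_not_fixed 0 i).1
  by_contra h
  push Not at h
  have hfix : ∀ g : H3, g ≠ 1 → g.a = 0 → g.b = 0 → D.f g = g := by
    intro g hg ha hb
    rcases central_cases g ha hb with rfl | rfl | rfl
    · exact absurd rfl hg
    · exact D.f_z
    · exact D.f_z_inv
  have h2 := hfix _ (D.f_spec hne).2 h.1 h.2
  rw [D.f_sq hne] at h2
  rcases (rep_not_fixed D.j i).2 with e | e
  · exact e (h2 ▸ h.1)
  · exact e (h2 ▸ h.2)

theorem exists_code : ∃ (o : Fin 3 → Fin 3) (kk : Fin 3 → ZMod 8),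
    (∀ i, D.f (rep i) = H3.act (kk i) (rep (o i))) ∧
    (∀ i, o (o i) = i ∧ D.c * kk i + kk (o i) = D.j) ∧
    ∀ g : H3, g ≠ 1 → enc (D.f g) =
      mapN D.c.val (8 * (o 0).val + (kk 0).val) (8 * (o 1).val + (kk 1).val)
        (8 * (o 2).val + (kk 2).val) (enc g) := by
  have h : ∀ i, ∃ (o : Fin 3) (t : ZMod 8), D.f (rep i) = H3.act t (rep o) := fun i => by
    obtain ⟨o, t, ht, -, -⟩ := dlog_spec _ (D.f_noncentral i)
    exact ⟨o, _, ht.symm⟩
  choose o kk hk using h
  refine ⟨o, kk, hk, fun i => ?_, fun g hg => ?_⟩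
  · have hne : ∀ i, rep i ≠ 1 := fun i => by simpa [H3.act_zero] using (rep_not_fixed 0 i).1
    have e := D.f_sq (hne i)
    rw [hk, D.f_act _ (hne _), hk, ← H3.act_add] at e
    have e' := congrArg (H3.act (-D.j)) e
    rw [← H3.act_add, H3.act_neg_act] at e'
    obtain ⟨e1, e2⟩ := act_eq_rep _ _ _ e'
    exact ⟨e2, by linear_combination e1⟩
  · by_cases hc : g.a = 0 ∧ g.b = 0
    · rcases central_cases g hc.1 hc.2 with rfl | rfl | rfl
      · exact absurd rfl hg
      · rw [D.f_z]; rfl
      · rw [D.f_z_inv]; rfl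
    · obtain ⟨i, t, rfl, hd, h3⟩ := dlog_spec g (not_and_or.1 hc)
      rw [D.f_act _ (by simpa [H3.act_zero] using (rep_not_fixed 0 i).1), hk, ← H3.act_add,
        enc_act', mapN, if_neg (by omega), hd]
      simp only
      have ht : ((t : ℕ) : ZMod 8).val = t := ZMod.val_natCast_of_lt t.2
      have hm : ∀ m : Fin 3 → ℕ, (if 8 * (i : ℕ) + t < 8 then m 0 else
          if 8 * (i : ℕ) + t < 16 then m 1 else m 2) = m i := by
        intro m
        have := t.2
        fin_cases i <;> simp <;> omega
      rw [hm fun l => 8 * (o l).val + (kk l).val, rep_enc]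
      have := ZMod.val_lt (kk i)
      have hz := zmod_val_cast (kk i) D.c ((t : ℕ) : ZMod 8)
      rw [ht] at hz
      rw [show (8 * (o i).val + (kk i).val) % 8 = (kk i).val by omega,
        show (8 * (i : ℕ) + t) % 8 = t by omega, show (8 * (o i).val + (kk i).val) / 8 = (o i).val by omega,
        hz, add_comm (D.c * _)]

theorem exists_shift : ∃ i : ℕ, ∀ g : H3, g ≠ 1 → D.f g = f0 (H3.act (i : ZMod 8) g) := by
  obtain ⟨o, kk, -, ho, hcode⟩ := D.exists_code
  set m0 := 8 * (o 0).val + (kk 0).val with hm0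
  set m1 := 8 * (o 1).val + (kk 1).val with hm1
  set m2 := 8 * (o 2).val + (kk 2).val with hm2
  have hlt : ∀ i, 8 * (o i).val + (kk i).val < 24 := fun i => by
    have := (o i).2; have := ZMod.val_lt (kk i); omega
  have hms : ∀ i : Fin 3, [m0, m1, m2].getD i 0 = 8 * (o i).val + (kk i).val := by
    intro i; fin_cases i <;> rfl
  have hok : ∀ (n : ℕ) (i : Fin 3), i.val < n → n ≤ 3 →
      okN D.c.val D.j.val ([m0, m1, m2].take n) i = true := by
    intro n i hi hn
    have hget : ([m0, m1, m2].take n).getD i 0 = 8 * (o i).val + (kk i).val := by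
      rw [← hms, List.getD_eq_getElem?_getD, List.getD_eq_getElem?_getD, List.getElem?_take, if_pos hi]
    unfold okN
    simp only [hget]
    have := ZMod.val_lt (kk i)
    simp only [show (8 * (o i).val + (kk i).val) / 8 = (o i).val by omega,
      show (8 * (o i).val + (kk i).val) % 8 = (kk i).val by omega]
    split_ifs with hl
    · have hget' : ([m0, m1, m2].take n)[(o i).val] = 8 * (o (o i)).val + (kk (o i)).val := by
        rw [← hms, List.getD_eq_getElem?_getD, List.getElem_take, List.getElem?_eq_getElem]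
        rfl
      rw [hget', (ho i).1]
      have := ZMod.val_lt (kk (o i))
      have hsum : (D.c.val * (kk i).val + (kk (o i)).val) % 8 = D.j.val := by
        rw [← (ho i).2, add_comm (D.c * _), ← zmod_val_cast, add_comm]
      simp only [Bool.and_eq_true, beq_iff_eq]
      exact ⟨by omega, by
        rw [show (8 * i.val + (kk (o i)).val) % 8 = (kk (o i)).val by omega, hsum]⟩
    · rfl
  have hclose : ∀ v : H3, v ≠ 1 →
      closeN (mapN D.c.val m0 m1 m2) (enc v) = true := by
    intro v hv
    obtain ⟨h0, k, hk⟩ := D.close v _ (D.f_spec hv).1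
    set F := mapN D.c.val m0 m1 m2
    have hw : ∀ x : Pt, encO (D.θ D.w x) = swapN F (encO x) := by
      rintro (_ | g)
      · rw [D.w_none]; rfl
      · by_cases hg : g = 1
        · subst hg
          rw [D.w_one]; rfl
        · rw [(D.f_spec hg).1]
          show enc (D.f g) = swapN F (enc g)
          have h1 := enc_lt g
          have h2 : enc g ≠ 0 := fun e => hg (enc_inj (e.trans rfl))
          rw [swapN, if_neg h1.ne, if_neg h2, hcode g hg]
    have hl : ∀ (a : H3) (x : Pt), encO (leftPerm a x) = leftN (enc a) (encO x) := by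
      rintro a (_ | g)
      · rfl
      · show enc (a * g) = leftN (enc a) (enc g)
        rw [leftN, if_neg (enc_lt g).ne, enc_mul]
    have hx : ∀ x : H3, swapN F (leftN (enc v) (swapN F (enc x))) =
        leftN (F (enc v)) (swapN F (mulN (enc h0) (actN k.val (enc x)))) := by
      intro x
      have e := congrArg encO (hk x)
      rw [hw, hl, hw, hl, hw, hcode v hv] at e
      rw [← enc_act', ← enc_mul]
      exact e
    unfold closeN
    refine List.any_eq_true.2 ⟨enc h0, List.mem_range.2 (enc_lt h0), Bool.and_eq_true_iff.2 ⟨?_, ?_⟩⟩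
    · have := hx 1
      rw [← enc_act', act_one_eq, ← enc_mul, mul_one] at this
      exact beq_iff_eq.2 this
    · refine List.any_eq_true.2 ⟨k.val, List.mem_range.2 (ZMod.val_lt k), List.all_eq_true.2 fun n hn => ?_⟩
      have hn' : enc (dec n) = n := by
        have : ∀ n ∈ List.range 27, enc (dec n) = n := by decide +kernel
        exact this n hn
      have := hx (dec n)
      rw [hn'] at this
      exact beq_iff_eq.2 this
  have hc : D.c.val ∈ [1, 3, 5, 7] := by
    have := ZMod.val_lt D.c
    have := D.c_odd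
    simp only [List.mem_cons, List.not_mem_nil, or_false]
    omega
  have h := checkN_eq
  unfold checkN at h
  rw [List.all_eq_true] at h
  have h := List.all_eq_true.1 (h _ hc) _ (List.mem_range.2 (ZMod.val_lt D.j))
  have h := List.all_eq_true.1 h _ (List.mem_range.2 (hlt 0))
  rw [show okN D.c.val D.j.val [m0] 0 = true from hok 1 0 (by decide) (by decide), Bool.not_true,
    Bool.false_or] at h
  have h := List.all_eq_true.1 h _ (List.mem_range.2 (hlt 1))
  rw [show okN D.c.val D.j.val [m0, m1] 0 = true from hok 2 0 (by decide) (by decide),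
    show okN D.c.val D.j.val [m0, m1] 1 = true from hok 2 1 (by decide) (by decide)]  at h
  simp only [Bool.and_self, Bool.not_true, Bool.false_or] at h
  have h := List.all_eq_true.1 h _ (List.mem_range.2 (hlt 2))
  rw [show okN D.c.val D.j.val [m0, m1, m2] 0 = true from hok 3 0 (by decide) le_rfl,
    show okN D.c.val D.j.val [m0, m1, m2] 1 = true from hok 3 1 (by decide) le_rfl,
    show okN D.c.val D.j.val [m0, m1, m2] 2 = true from hok 3 2 (by decide) le_rfl]  at h
  simp only [Bool.and_self, Bool.not_true, Bool.false_or] at h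
  rw [show closeN (mapN D.c.val m0 m1 m2) 1 = true from hclose H3.z (by decide),
    show closeN (mapN D.c.val m0 m1 m2) 3 = true from hclose H3.x2 (by decide)] at h
  simp only [Bool.and_self, Bool.not_true, Bool.false_or] at h
  obtain ⟨i, hi, hall⟩ := List.any_eq_true.1 h
  refine ⟨i, fun g hg => enc_inj ?_⟩
  have h2 : enc g ≠ 0 := fun e => hg (enc_inj (e.trans rfl))
  have h1 := enc_lt g
  have h3 := beq_iff_eq.1 (List.all_eq_true.1 hall (enc g - 1) (List.mem_range.2 (by omega)))
  rw [show enc g - 1 + 1 = enc g by omega] at h3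
  rw [hcode g hg, h3, enc_f0, enc_act']
  have : i < 8 := by
    simp only [List.mem_cons, List.not_mem_nil, or_false] at hi
    omega
  rw [ZMod.val_natCast_of_lt this]

theorem exists_swap : ∃ i : ℕ, D.θ D.w = swap0 * alphaPerm 1 ^ i := by
  obtain ⟨i, hi⟩ := D.exists_shift
  refine ⟨i, Equiv.ext fun x => ?_⟩
  rw [Equiv.Perm.mul_apply, alphaPerm_pow]
  show D.θ D.w x = swapMap (alphaPerm i x)
  rcases x with _ | g
  · rw [alphaPerm_none, D.w_none]; rfl
  · rw [alphaPerm_some]
    by_cases hg : g = 1
    · subst hg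
      rw [act_one_eq, D.w_one]; rfl
    · have h : H3.act (i : ZMod 8) g ≠ 1 := fun e => hg (by
        rw [← H3.act_neg_act i g, e, act_one_eq])
      simp only [swapMap, if_neg h, (D.f_spec hg).1, hi g hg]

theorem range_eq : D.θ.range = model := by
  obtain ⟨i, hi⟩ := D.exists_swap
  rw [MonoidHom.range_eq_map, ← D.gen, MonoidHom.map_closure, Set.image_union, Set.image_pair,
    D.θ_s, hi, ← Set.range_comp, show (D.θ : G → Equiv.Perm Pt) ∘ D.u = leftPerm from funext D.θ_u]
  have hle : ∀ (w w' : Equiv.Perm Pt) (_ : ∃ n : ℤ, w' = w * alphaPerm 1 ^ n),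
      Subgroup.closure (Set.range leftPerm ∪ {alphaPerm 1, w'}) ≤
        Subgroup.closure (Set.range leftPerm ∪ {alphaPerm 1, w}) := by
    rintro w w' ⟨n, rfl⟩
    rw [Subgroup.closure_le]
    rintro y (hy | rfl | rfl)
    · exact Subgroup.subset_closure (Or.inl hy)
    · exact Subgroup.subset_closure (Or.inr (Or.inl rfl))
    · exact mul_mem (Subgroup.subset_closure (Or.inr (Or.inr rfl)))
        (zpow_mem (Subgroup.subset_closure (Set.mem_union_right _ (Set.mem_insert _ _))) _)
  refine le_antisymm (hle _ _ ⟨i, by rw [zpow_natCast]⟩) (hle _ _ ⟨-(i : ℤ), ?_⟩)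
  rw [mul_assoc, zpow_neg, zpow_natCast, mul_inv_cancel, mul_one]

/-- The isomorphism with the model. -/
noncomputable def equivModel : G ≃* model :=
  (MonoidHom.ofInjective D.θ_inj).trans (MulEquiv.subgroupCongr D.range_eq)

end Frame

end CfsgLib.Recog.U33Unique
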