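import Cfsg.Agent.Lib.Recog.U33Unique.Three
import Cfsg.Agent.Lib.Recog.U33Unique.PermModel

/-!
The Borel subgroup `3^{1+2} : 8` of a simple group of order 6048 without elements of order 9, in the
normal form of the model.
-/

set_option autoImplicit false

noncomputable section

namespace CfsgLib.Recog.U33Unique

open CfsgLib.Recognition.PSU33 Subgroup

/-- The endomorphism of `H3` of the normal shape with second image `q`. -/
def endo (q g : H3) : H3 :=
  (⟨1, 1, 2⟩ : H3) ^ g.a.val * q ^ g.b.val * (⟨0, 0, 2⟩ : H3) ^ g.c.val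

/-- The conditions satisfied by a Borel torus element. -/
def GoodEndo (q : H3) : Prop :=
  endo q (H3.x2 * H3.x1) = endo q H3.x2 * endo q H3.x1 ∧
    ∀ g : H3, (g.a ≠ 0 ∨ g.b ≠ 0) →
      ((endo q g * g⁻¹).a ≠ 0 ∨ (endo q g * g⁻¹).b ≠ 0) ∧
      ((endo q (endo q g) * g⁻¹).a ≠ 0 ∨ (endo q (endo q g) * g⁻¹).b ≠ 0)

instance (q : H3) : Decidable (GoodEndo q) := by unfold GoodEndo; infer_instance

/-- The change of coordinates. -/
def change (q g : H3) : H3 :=
  if q.a = 1 then (⟨1, 0, -q.c⟩ : H3) ^ g.a.val * (⟨1, 2, 1⟩ : H3) ^ g.b.val * (⟨0, 0, 2⟩ : H3) ^ g.c.val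
  else (⟨1, 0, q.c + 2⟩ : H3) ^ g.a.val * (⟨0, 1, q.c + 2⟩ : H3) ^ g.b.val * (⟨0, 0, 1⟩ : H3) ^ g.c.val

/-- The power used in the change of coordinates. -/
def changePow (q : H3) : ℕ := if q.a = 1 then 5 else 1

theorem change_mul : ∀ q : H3, GoodEndo q → ∀ g h : H3, change q (g * h) = change q g * change q h := by
  decide +kernel

theorem change_inj : ∀ q : H3, GoodEndo q → ∀ g : H3, change q g = 1 → g = 1 := by decide +kernel

theorem change_spec : ∀ q : H3, GoodEndo q →
    ∀ g : H3, (endo q)^[changePow q] (change q g) = change q (H3.act 1 g) := by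
  decide +kernel

theorem endo_four : ∀ q : H3, GoodEndo q → (endo q)^[4] H3.x1 ≠ H3.x1 := by decide +kernel

theorem act_z_one : H3.act 1 H3.z = H3.z⁻¹ := H3.central_conj

theorem fix_surj : ∀ h0 : H3, ∃ h : H3, H3.act 1 h * h0 = h := by decide +kernel

theorem center_coords : ∀ g : H3, g * H3.x1 = H3.x1 * g → g * H3.x2 = H3.x2 * g →
    g.a = 0 ∧ g.b = 0 := by
  decide +kernel

theorem act_four_fixed : ∀ v : H3, H3.act 4 v = v → v = 1 ∨ v = H3.z ∨ v = H3.z⁻¹ := by decide +kernel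

universe u

variable {G : Type u} [Group G] [Fintype G] [IsSimpleGroup G]

/-- The Borel data. -/
structure BorelData (P : Sylow 3 G) where
  φ : H3 →* G
  φ_inj : Function.Injective φ
  φ_range : φ.range = (P : Subgroup G)
  s : G
  s_mem : s ∈ normalizer ((P : Subgroup G) : Set G)
  ord_s : orderOf s = 8
  s_conj : ∀ h, s * φ h * s⁻¹ = φ (H3.act 1 h)

theorem card_sylow_eq (hG : Nat.card G = 6048) [Fact (Nat.Prime 3)] (P : Sylow 3 G) :
    Nat.card (P : Subgroup G) = 27 :=
  (Small.card_sylow_of_card_eq (k := 3) (m := 224) (by rw [hG]; norm_num) (by norm_num) P).trans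
    (by norm_num)

theorem card_normalizer_three (hG : Nat.card G = 6048) (hno9 : ∀ g : G, orderOf g ≠ 9)
    [Fact (Nat.Prime 3)] (P : Sylow 3 G) :
    Nat.card (normalizer ((P : Subgroup G) : Set G)) = 216 := by
  have h := Small.card_normalizer_mul_card_sylow P
  rw [card_sylow_three hG hno9, hG] at h
  omega

omit [IsSimpleGroup G] in
theorem iterate_conj {s : G} {φ : H3 → G} {E : H3 → H3} (h : ∀ g, s * φ g * s⁻¹ = φ (E g)) (n : ℕ) :
    ∀ g, s ^ n * φ g * (s ^ n)⁻¹ = φ (E^[n] g) := by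
  induction n with
  | zero => intro g; simp
  | succ n ih =>
    intro g
    rw [Function.iterate_succ_apply, ← ih, ← h, pow_succ]
    simp [mul_assoc]

omit [Fintype G] [IsSimpleGroup G] in
/-- In class two, inverting both arguments fixes a commutator. -/
theorem comm_inv_inv {a b c : G} (hc : b * a = a * b * c) (ha : Commute c a) (hb : Commute c b) :
    b⁻¹ * a⁻¹ = a⁻¹ * b⁻¹ * c := by
  have h1 : a * b = b * a * c⁻¹ := by rw [hc, mul_inv_cancel_right]
  have h2 : (a * b)⁻¹ = c * (b * a)⁻¹ := by rw [h1, mul_inv_rev, inv_inv]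
  rw [mul_inv_rev, mul_inv_rev] at h2
  rw [h2, ← mul_assoc]
  rw [(ha.inv_right).eq, mul_assoc, (hb.inv_right).eq, ← mul_assoc]

omit [Fintype G] [IsSimpleGroup G] in
theorem pow_comm_rule {a b c : G} (hc : b * a = a * b * c) (ha : Commute c a) (hb : Commute c b)
    (n m : ℕ) : b ^ n * a ^ m = a ^ m * b ^ n * c ^ (n * m) := by
  have one : ∀ m : ℕ, b * a ^ m = a ^ m * b * c ^ m := by
    intro m
    induction m with
    | zero => simp
    | succ m ih =>
      rw [pow_succ, ← mul_assoc, ih, mul_assoc, (ha.pow_left m).eq, ← mul_assoc, mul_assoc (a ^ m) b a,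
        hc, pow_succ' c]
      simp [mul_assoc]
  induction n with
  | zero => simp
  | succ n ih =>
    rw [pow_succ', mul_assoc, ih, ← mul_assoc, ← mul_assoc, one m, Nat.succ_mul, pow_add,
      mul_assoc (a ^ m * b), ((hb.pow_left m).pow_right n).eq, (Commute.pow_pow (Commute.refl c) (n * m) m).eq]
    simp [mul_assoc, pow_succ']

set_option maxHeartbeats 2000000 in
theorem exists_borel (hG : Nat.card G = 6048) (hno9 : ∀ g : G, orderOf g ≠ 9) [Fact (Nat.Prime 3)]
    (P : Sylow 3 G) : Nonempty (BorelData P) := by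
  classical
  have hP := card_sylow_eq hG P
  obtain ⟨L⟩ := exists_local hG hno9 (P : Subgroup G) hP
  set Z := zpowers L.z with hZdef
  have hZ3 : Nat.card Z = 3 := by rw [hZdef, Nat.card_zpowers, L.ord_z]
  have hZP : Z ≤ (P : Subgroup G) := zpowers_le.2 L.z_mem
  have hZc : ∀ w ∈ Z, ∀ q ∈ (P : Subgroup G), w * q = q * w := fun w hw q hq => by
    obtain ⟨i, rfl⟩ := mem_zpowers_iff.1 hw
    exact ((show Commute L.z q from L.z_comm q hq).zpow_left i).eq
  have hcen : ∀ w ∈ (P : Subgroup G), (∀ q ∈ (P : Subgroup G), q * w = w * q) → w ∈ Z := by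
    intro w hw hc
    by_contra hwz
    have := card_le_of_le (show (P : Subgroup G) ≤ centralizer ({w} : Set G) from fun q hq =>
      mem_centralizer_singleton_iff.2 (hc q hq))
    rw [(L.noncentral w hw hwz).2, hP] at this
    omega
  set N := normalizer ((P : Subgroup G) : Set G) with hNdef
  have hN := card_normalizer_three hG hno9 P
  have hPN : ∀ n ∈ N, ∀ q, q ∈ (P : Subgroup G) ↔ n * q * n⁻¹ ∈ (P : Subgroup G) := fun n hn q =>
    mem_normalizer_iff.1 hn q
  have hNz : ∀ n ∈ N, n * L.z * n⁻¹ ∈ Z := by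
    intro n hn
    refine hcen _ ((hPN n hn _).1 L.z_mem) fun q hq => ?_
    have h := L.z_comm (n⁻¹ * q * n) (by
      have := (hPN n⁻¹ (inv_mem hn) q).1 hq
      simpa using this)
    calc q * (n * L.z * n⁻¹) = n * ((n⁻¹ * q * n) * L.z) * n⁻¹ := by simp [mul_assoc]
      _ = n * (L.z * (n⁻¹ * q * n)) * n⁻¹ := by rw [h]
      _ = n * L.z * n⁻¹ * q := by simp [mul_assoc]
  have hz3 : L.z ^ 3 = 1 := by
    have := pow_orderOf_eq_one L.z
    rwa [L.ord_z] at this
  have hz1 : L.z ≠ 1 := fun e => by have := L.ord_z; rw [e, orderOf_one] at this; omega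
  have hNz2 : ∀ n ∈ N, n * L.z * n⁻¹ = L.z ∨ n * L.z * n⁻¹ = L.z⁻¹ := by
    intro n hn
    obtain ⟨i, hi⟩ := mem_powers_iff_mem_zpowers.2 (hNz n hn)
    simp only at hi
    rw [← pow_mod_orderOf, L.ord_z] at hi
    have := Nat.mod_lt i (show 3 > 0 by norm_num)
    interval_cases i % 3
    · rw [pow_zero] at hi
      exact absurd (conj_eq_one_iff.1 hi.symm) hz1
    · left; rw [← hi, pow_one]
    · right
      rw [← hi]
      exact eq_inv_of_mul_eq_one_right (by rw [← pow_succ']; exact hz3)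
  -- commutators of `P` lie in `Z`
  have hcomm : ∀ q ∈ (P : Subgroup G), ∀ r ∈ (P : Subgroup G), q⁻¹ * r⁻¹ * q * r ∈ Z := by
    intro q hq r hr
    set Z' := Z.subgroupOf (P : Subgroup G) with hZ'
    have : Z'.Normal := ⟨fun w hw g => by
      rw [mem_subgroupOf] at hw ⊢
      simp only [Subgroup.coe_mul, InvMemClass.coe_inv]
      rwa [← hZc _ hw _ g.2, mul_inv_cancel_right]⟩
    have hidx : Nat.card ((P : Subgroup G) ⧸ Z') = 3 ^ 2 := by
      have := Z'.card_mul_index
      rw [Nat.card_congr (subgroupOfEquivOfLe hZP).toEquiv, hZ3, hP] at this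
      rw [← index_eq_card]
      omega
    have hcm := IsPGroup.commutative_of_card_eq_prime_sq hidx
    have h := hcm (QuotientGroup.mk (⟨q, hq⟩ : (P : Subgroup G)))
      (QuotientGroup.mk (⟨r, hr⟩ : (P : Subgroup G)) : (P : Subgroup G) ⧸ Z')
    rw [← QuotientGroup.mk_mul, ← QuotientGroup.mk_mul, eq_comm, QuotientGroup.eq, mem_subgroupOf] at h
    simpa [mul_assoc] using h
  -- a noncentral element and a nontrivial commutator
  obtain ⟨a, haP, haZ⟩ : ∃ a ∈ (P : Subgroup G), a ∉ Z := by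
    by_contra h
    push Not at h
    have := card_le_of_le (show (P : Subgroup G) ≤ Z from h)
    rw [hP, hZ3] at this
    omega
  obtain ⟨r, hrP, hra⟩ : ∃ r ∈ (P : Subgroup G), r * a ≠ a * r := by
    by_contra h
    push Not at h
    exact haZ (hcen a haP h)
  -- involutions of `N`
  have hfix : ∀ u ∈ N, u ≠ 1 → u ^ 8 = 1 → ∀ y ∈ (P : Subgroup G), y ∉ Z → u * y * u⁻¹ ≠ y := by
    intro u hu hu1 hu8 y hy hyZ h
    have : u ∈ (P : Subgroup G) := (L.noncentral y hy hyZ).1
      (mem_centralizer_singleton_iff.2 (mul_inv_eq_iff_eq_mul.1 h))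
    have h27 := orderOf_dvd_natCard (⟨u, this⟩ : (P : Subgroup G))
    rw [Subgroup.orderOf_mk, hP] at h27
    have h1 := Nat.dvd_gcd h27 (orderOf_dvd_iff_pow_eq_one.2 hu8)
    norm_num at h1
    exact hu1 h1
  have hcoset : ∀ u ∈ N, u ≠ 1 → u ^ 8 = 1 → ∀ y ∈ (P : Subgroup G), y ∉ Z →
      u * y * u⁻¹ * y⁻¹ ∉ Z := by
    have inv_case : ∀ u ∈ N, u ≠ 1 → u ^ 2 = 1 → ∀ y ∈ (P : Subgroup G), y ∉ Z →
        u * y * u⁻¹ * y⁻¹ ∉ Z := by
      intro u hu hu1 hu2 y hy hyZ hw
      have hu8 : u ^ 8 = 1 := by rw [show (8 : ℕ) = 2 * 4 from rfl, pow_mul, hu2, one_pow]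
      set w := u * y * u⁻¹ * y⁻¹ with hwdef
      have he : u * y * u⁻¹ = w * y := by rw [hwdef, inv_mul_cancel_right]
      have huu : u * u = 1 := by rw [← pow_two, hu2]
      have hw3 : w ^ 3 = 1 := by
        have := orderOf_dvd_natCard (⟨w, hw⟩ : Z)
        rw [Subgroup.orderOf_mk, hZ3] at this
        exact orderOf_dvd_iff_pow_eq_one.1 this
      -- `u` inverts or fixes `w`
      have hback : u * w * u⁻¹ * w = 1 := by
        have h2 : u * (u * y * u⁻¹) * u⁻¹ = y := by
          calc u * (u * y * u⁻¹) * u⁻¹ = (u * u) * y * (u * u)⁻¹ := by simp [mul_assoc]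
            _ = y := by rw [huu]; simp
        rw [he, show u * (w * y) * u⁻¹ = (u * w * u⁻¹) * (u * y * u⁻¹) by simp [mul_assoc], he,
          ← mul_assoc] at h2
        exact mul_right_cancel (h2.trans (one_mul y).symm)
      have hyw : w * y ∈ (P : Subgroup G) := mul_mem (hZP hw) hy
      have hyw2 : w⁻¹ * y ∉ Z := fun h => hyZ (by
        have := mul_mem hw h
        rwa [mul_inv_cancel_left] at this)
      refine hfix u hu hu1 hu8 (w⁻¹ * y) (mul_mem (inv_mem (hZP hw)) hy) hyw2 ?_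
      have h1 : u * w * u⁻¹ = w⁻¹ := mul_eq_one_iff_eq_inv.1 hback
      have h2 : u * w⁻¹ * u⁻¹ = w := by rw [← conj_inv, h1, inv_inv]
      calc u * (w⁻¹ * y) * u⁻¹ = (u * w⁻¹ * u⁻¹) * (u * y * u⁻¹) := by simp [mul_assoc]
        _ = w * (w * y) := congrArg₂ (· * ·) h2 he
        _ = w ^ 2 * y := by rw [pow_two, ← mul_assoc]
        _ = w⁻¹ * y := by
          rw [show w ^ 2 = w⁻¹ from eq_inv_of_mul_eq_one_right (by rw [← pow_succ']; exact hw3)]
    intro u hu hu1 hu8 y hy hyZ hw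
    have hiter : ∀ i : ℕ, (u ^ i) * y * (u ^ i)⁻¹ * y⁻¹ ∈ Z := by
      intro i
      induction i with
      | zero => simp
      | succ i ih =>
        have hn : ∀ v ∈ Z, u * v * u⁻¹ ∈ Z := fun v hv => by
          obtain ⟨k, rfl⟩ := mem_zpowers_iff.1 hv
          rw [← conj_zpow]
          exact zpow_mem (hNz u hu) k
        have e : u ^ (i + 1) * y * (u ^ (i + 1))⁻¹ * y⁻¹ =
            (u * (u ^ i * y * (u ^ i)⁻¹ * y⁻¹) * u⁻¹) * (u * y * u⁻¹ * y⁻¹) := by
          simp [pow_succ', mul_assoc]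
        rw [e]
        exact mul_mem (hn _ ih) hw
    obtain ⟨i, hi1, hi2⟩ : ∃ i : ℕ, u ^ i ≠ 1 ∧ (u ^ i) ^ 2 = 1 := by
      by_cases h4 : u ^ 4 = 1
      · by_cases h2 : u ^ 2 = 1
        · exact ⟨1, by rwa [pow_one], by rwa [pow_one]⟩
        · exact ⟨2, h2, by rw [← pow_mul]; exact h4⟩
      · exact ⟨4, h4, by rw [← pow_mul]; exact hu8⟩
    exact inv_case _ (pow_mem hu i) hi1 hi2 y hy hyZ (hiter i)
  -- an element of order a power of two inverting `z`
  have : Fact (Nat.Prime 2) := ⟨Nat.prime_two⟩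
  obtain ⟨S⟩ := (inferInstance : Nonempty (Sylow 2 N))
  have hS : Nat.card (S : Subgroup N) = 8 := by
    simpa using Small.card_sylow_of_card_eq (k := 3) (m := 27) (by rw [hN]; norm_num) (by norm_num) S
  obtain ⟨s, hsN, hs8, hsz⟩ : ∃ s ∈ N, s ^ 8 = 1 ∧ s * L.z * s⁻¹ = L.z⁻¹ := by
    by_contra h
    push Not at h
    have h8 : ∀ u ∈ (S : Subgroup N).map N.subtype, u ∈ centralizer ({L.z} : Set G) := by
      rintro _ ⟨u, hu, rfl⟩
      rw [mem_centralizer_singleton_iff]
      have hu8 : (u : G) ^ 8 = 1 := by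
        have := orderOf_dvd_natCard (⟨u, hu⟩ : (S : Subgroup N))
        rw [Subgroup.orderOf_mk, hS] at this
        rw [← SubmonoidClass.coe_pow, orderOf_dvd_iff_pow_eq_one.1 this, OneMemClass.coe_one]
      rcases hNz2 u u.2 with e | e
      · exact mul_inv_eq_iff_eq_mul.1 e
      · exact absurd e (h u u.2 hu8)
    have h1 := card_dvd_of_le (show (S : Subgroup N).map N.subtype ≤ _ from h8)
    rw [card_map_of_injective (Subgroup.subtype_injective _), hS] at h1
    have := h1.trans L.cz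
    norm_num at this
  have hs1 : s ≠ 1 := fun e => by
    rw [e] at hsz
    simp only [one_mul, inv_one, mul_one] at hsz
    have : L.z ^ 2 = 1 := by rw [pow_two]; nth_rw 2 [hsz]; rw [mul_inv_cancel]
    have := orderOf_dvd_iff_pow_eq_one.2 this
    rw [L.ord_z] at this
    norm_num at this
  -- an involution inverts `P/Z`, so `s` is not one
  have hs2 : s ^ 2 ≠ 1 := by
    intro h
    have hinv : ∀ y ∈ (P : Subgroup G), s * y * s⁻¹ * y ∈ Z := by
      intro y hy
      by_cases hyZ : y ∈ Z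
      · refine mul_mem ?_ hyZ
        obtain ⟨i, rfl⟩ := mem_zpowers_iff.1 hyZ
        rw [← conj_zpow, hsz]
        exact zpow_mem (inv_mem (mem_zpowers _)) i
      · by_contra hnot
        have hyP' : s * y * s⁻¹ ∈ (P : Subgroup G) := (hPN s hsN y).1 hy
        refine hcoset s hsN hs1 hs8 _ (mul_mem hyP' hy) hnot ?_
        have e : s * (s * y * s⁻¹ * y) * s⁻¹ = y * (s * y * s⁻¹) := by
          have hss : s * s = 1 := by rw [← pow_two, h]
          calc s * (s * y * s⁻¹ * y) * s⁻¹ = (s * s) * y * (s⁻¹ * (y * s⁻¹)) := by simp [mul_assoc]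
            _ = y * (s * y * s⁻¹) := by
              rw [hss, one_mul, inv_eq_of_mul_eq_one_right hss]; simp [mul_assoc]
        rw [e]
        have h1 := hcomm _ (inv_mem hy) _ (inv_mem hyP')
        simpa [mul_assoc] using h1
    set c := a⁻¹ * r⁻¹ * a * r with hc
    have hcZ : c ∈ Z := hcomm a haP r hrP
    have hc1 : c ≠ 1 := fun e => hra (by
      have : a * r = r * a := by
        have h2 : (r * a)⁻¹ * (a * r) = 1 := by rw [← e, hc]; simp [mul_assoc]
        exact (inv_mul_eq_one.1 h2).symm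
      exact this.symm)
    obtain ⟨w, hw, hwe⟩ : ∃ w ∈ Z, s * a * s⁻¹ = w * a⁻¹ :=
      ⟨_, hinv a haP, by rw [mul_inv_cancel_right]⟩
    obtain ⟨w', hw', hwe'⟩ : ∃ w' ∈ Z, s * r * s⁻¹ = w' * r⁻¹ :=
      ⟨_, hinv r hrP, by rw [mul_inv_cancel_right]⟩
    -- `a * r = r * a * c`
    have hcr : a * r = r * a * c := by simp [hc, mul_assoc]
    have hcr' : a⁻¹ * r⁻¹ = r⁻¹ * a⁻¹ * c := comm_inv_inv hcr
      (show Commute c r from hZc c hcZ r hrP) (show Commute c a from hZc c hcZ a haP)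
    have hsc : s * c * s⁻¹ = c := by
      have e : (s * a * s⁻¹) * (s * r * s⁻¹) = (s * r * s⁻¹) * (s * a * s⁻¹) * (s * c * s⁻¹) := by
        rw [show (s * a * s⁻¹) * (s * r * s⁻¹) = s * (a * r) * s⁻¹ by simp [mul_assoc], hcr]
        simp [mul_assoc]
      rw [hwe, hwe'] at e
      have l1 : w * a⁻¹ * (w' * r⁻¹) = (w * w') * (a⁻¹ * r⁻¹) := by
        rw [mul_assoc w, ← mul_assoc a⁻¹, ← hZc w' hw' a⁻¹ (inv_mem haP)]; simp [mul_assoc]
      have l2 : w' * r⁻¹ * (w * a⁻¹) = (w * w') * (r⁻¹ * a⁻¹) := by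
        rw [mul_assoc w', ← mul_assoc r⁻¹, ← hZc w hw r⁻¹ (inv_mem hrP), ← mul_assoc, ← mul_assoc,
          hZc w' hw' w (hZP hw)]
        simp [mul_assoc]
      rw [l1, l2, hcr', ← mul_assoc (w * w')] at e
      exact (mul_left_cancel e).symm
    have hzc' : s * L.z * s⁻¹ = L.z := by
      obtain ⟨i, hi⟩ := mem_zpowers_iff.1
        ((Small.eq_zpowers_of_mem hZ3 hcZ hc1) ▸ mem_zpowers L.z : L.z ∈ zpowers c)
      rw [← hi, ← conj_zpow, hsc]
    rw [hsz] at hzc'
    have : L.z ^ 2 = 1 := by rw [pow_two]; nth_rw 1 [← hzc']; rw [inv_mul_cancel]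
    have := orderOf_dvd_iff_pow_eq_one.2 this
    rw [L.ord_z] at this
    norm_num at this
  -- coordinates
  set a1 := s * a * s⁻¹ with ha1
  have ha1P : a1 ∈ (P : Subgroup G) := (hPN s hsN a).1 haP
  have ha3 : a ^ 3 = 1 := by
    rw [← exponent_three hno9 hP haP (fun e => haZ (e ▸ one_mem _)), pow_orderOf_eq_one]
  have hsZ : ∀ v ∈ Z, s * v * s⁻¹ ∈ Z := fun v hv => by
    obtain ⟨k, rfl⟩ := mem_zpowers_iff.1 hv
    rw [← conj_zpow]
    exact zpow_mem (hNz s hsN) k
  have ha1ni : ∀ i : ℕ, (a ^ i)⁻¹ * a1 ∉ Z := by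
    intro i hi
    rw [← Nat.mod_add_div i 3, pow_add, pow_mul, ha3, one_pow, mul_one] at hi
    have hlt := Nat.mod_lt i (show 3 > 0 by norm_num)
    interval_cases i % 3
    · rw [pow_zero, inv_one, one_mul] at hi
      refine haZ ?_
      have e : a = s⁻¹ * a1 * s := by rw [ha1]; simp [mul_assoc]
      obtain ⟨k, hk⟩ := mem_zpowers_iff.1 hi
      have h1 := hNz s⁻¹ (inv_mem hsN)
      rw [inv_inv] at h1
      rw [e, ← hk]
      have : s⁻¹ * L.z ^ k * s = (s⁻¹ * L.z * s) ^ k := by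
        have := conj_zpow (i := k) (a := s⁻¹) (b := L.z)
        rw [inv_inv] at this
        exact this.symm
      rw [this]
      exact zpow_mem h1 k
    · rw [pow_one] at hi
      refine hcoset s hsN hs1 hs8 a haP haZ ?_
      rw [← ha1]
      have h2 : a1 * a⁻¹ = a⁻¹ * a1 := by
        have e := hZc _ hi a haP
        rw [mul_inv_cancel_left] at e
        calc a1 * a⁻¹ = (a⁻¹ * a1 * a) * a⁻¹ := by rw [e]
          _ = a⁻¹ * a1 := by rw [mul_inv_cancel_right]
      rwa [h2]
    · refine hcoset (s ^ 2) (pow_mem hsN 2) hs2 (by rw [← pow_mul, mul_comm, pow_mul, hs8, one_pow]) a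
        haP haZ ?_
      set v := (a ^ 2)⁻¹ * a1 with hv
      have e : a1 = a ^ 2 * v := by rw [hv, mul_inv_cancel_left]
      have hs2a : s ^ 2 * a * (s ^ 2)⁻¹ = a1 ^ 2 * (s * v * s⁻¹) := by
        calc s ^ 2 * a * (s ^ 2)⁻¹ = s * a1 * s⁻¹ := by simp [ha1, pow_two, mul_assoc]
          _ = s * (a ^ 2 * v) * s⁻¹ := by rw [← e]
          _ = a1 ^ 2 * (s * v * s⁻¹) := by rw [ha1, conj_pow]; simp [mul_assoc]
      have h4 : a1 ^ 2 = a * v ^ 2 := by
        have hc : Commute (a ^ 2) v := ((show Commute v a from hZc v hi a haP).symm).pow_left 2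
        rw [e, hc.mul_pow, ← pow_mul, show 2 * 2 = 3 + 1 from rfl, pow_succ, ha3, one_mul]
      rw [hs2a, h4]
      have h5 : v ^ 2 * (s * v * s⁻¹) ∈ Z := mul_mem (pow_mem hi 2) (hsZ v hi)
      rwa [mul_assoc a, ← hZc _ h5 a haP, mul_inv_cancel_right]
  set b0 := a⁻¹ * a1 with hb0
  set c := b0⁻¹ * a⁻¹ * b0 * a with hcdef
  have hb0P : b0 ∈ (P : Subgroup G) := mul_mem (inv_mem haP) ha1P
  have hcZ : c ∈ Z := hcomm b0 hb0P a haP
  have hcP := hZP hcZ
  set b := b0 * c with hb
  have hbP : b ∈ (P : Subgroup G) := mul_mem hb0P hcP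
  have hca : Commute c a := hZc c hcZ a haP
  have hcb : Commute c b := hZc c hcZ b hbP
  have hrel : b * a = a * b * c := by
    have h0 : b0 * a = a * b0 * c := by simp [hcdef, mul_assoc]
    rw [hb, mul_assoc b0, hca.eq, ← mul_assoc, h0]
    simp [mul_assoc]
  have hc3 : c ^ 3 = 1 := by
    have := orderOf_dvd_natCard (⟨c, hcZ⟩ : Z)
    rw [Subgroup.orderOf_mk, hZ3] at this
    exact orderOf_dvd_iff_pow_eq_one.1 this
  have hb3 : b ^ 3 = 1 := by
    by_cases e : b = 1
    · rw [e, one_pow]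
    · rw [← exponent_three hno9 hP hbP e, pow_orderOf_eq_one]
  have hval : ∀ {x : G}, x ^ 3 = 1 → ∀ i j : ZMod 3, x ^ (i + j).val = x ^ i.val * x ^ j.val := by
    intro x hx i j
    rw [ZMod.val_add, ← pow_add]
    conv_rhs => rw [← Nat.mod_add_div (i.val + j.val) 3, pow_add, pow_mul, hx, one_pow, mul_one]
  let φ : H3 →* G := MonoidHom.mk' (fun g => a ^ g.a.val * b ^ g.b.val * c ^ g.c.val) (by
    intro g h
    simp only [H3.mul_def]
    rw [hval ha3, hval hb3, hval hc3, hval hc3, ZMod.val_mul]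
    have hmod : c ^ (g.b.val * h.a.val % 3) = c ^ (g.b.val * h.a.val) := by
      conv_rhs => rw [← Nat.mod_add_div (g.b.val * h.a.val) 3, pow_add, pow_mul, hc3, one_pow, mul_one]
    rw [hmod]
    have r := pow_comm_rule hrel hca hcb g.b.val h.a.val
    set i := g.a.val
    set j := g.b.val
    set k := g.c.val
    set m := h.a.val
    set n := h.b.val
    set l := h.c.val
    have c1 : Commute (c ^ k) (a ^ m * b ^ n) :=
      ((hca.pow_left k).pow_right m).mul_right ((hcb.pow_left k).pow_right n)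
    have c2 : Commute (c ^ (j * m)) (b ^ n) := (hcb.pow_left (j * m)).pow_right n
    symm
    calc a ^ i * b ^ j * c ^ k * (a ^ m * b ^ n * c ^ l)
        = a ^ i * b ^ j * (c ^ k * (a ^ m * b ^ n)) * c ^ l := by simp only [mul_assoc]
      _ = a ^ i * b ^ j * (a ^ m * b ^ n * c ^ k) * c ^ l := by rw [c1.eq]
      _ = a ^ i * (b ^ j * a ^ m) * b ^ n * (c ^ k * c ^ l) := by simp only [mul_assoc]
      _ = a ^ i * a ^ m * b ^ j * (c ^ (j * m) * b ^ n) * (c ^ k * c ^ l) := by
          rw [r]; simp only [mul_assoc]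
      _ = a ^ i * a ^ m * (b ^ j * b ^ n) * (c ^ (j * m) * (c ^ k * c ^ l)) := by
          rw [c2.eq]; simp only [mul_assoc]
      _ = _ := by
          rw [← pow_add c, ← pow_add c, ← pow_add c, add_comm (j * m)])
  have hφ_apply : ∀ g : H3, φ g = a ^ g.a.val * b ^ g.b.val * c ^ g.c.val := fun g => rfl
  have hφx1 : φ H3.x1 = a := by simp [hφ_apply, H3.x1, ZMod.val_one]
  have hφx2 : φ H3.x2 = b := by simp [hφ_apply, H3.x2, ZMod.val_one]
  have hφz : φ H3.z = c := by simp [hφ_apply, H3.z, ZMod.val_one]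
  have hc1 : c ≠ 1 := by
    intro e
    have hbC : b ∈ centralizer ({a} : Set G) := by
      rw [mem_centralizer_singleton_iff, hrel, e, mul_one]
    let f : Fin 3 × Z → centralizer ({a} : Set G) := fun p =>
      ⟨a ^ (p.1 : ℕ) * p.2, mul_mem (pow_mem (mem_centralizer_singleton_iff.2 rfl) _)
        (mem_centralizer_singleton_iff.2 (hZc p.2 p.2.2 a haP))⟩
    have hf : Function.Bijective f := by
      refine Function.Injective.bijective_of_nat_card_le ?_ ?_
      · rintro ⟨i, v⟩ ⟨j, w⟩ e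
        have e' : a ^ (i : ℕ) * v = a ^ (j : ℕ) * w := congrArg Subtype.val e
        have hij : i = j := by
          by_contra hij
          refine haZ ?_
          have hm : (a ^ (j : ℕ))⁻¹ * a ^ (i : ℕ) ∈ Z := by
            rw [show (a ^ (j : ℕ))⁻¹ * a ^ (i : ℕ) = w * (v : G)⁻¹ by
              rw [eq_mul_inv_iff_mul_eq, mul_assoc, e', inv_mul_cancel_left]]
            exact mul_mem w.2 (inv_mem v.2)
          rw [inv_eq_of_mul_eq_one_right (show a ^ (j : ℕ) * a ^ (2 * (j : ℕ)) = 1 by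
            rw [← pow_add, show (j : ℕ) + 2 * (j : ℕ) = 3 * j by ring, pow_mul, ha3, one_pow]),
            ← pow_add, ← Nat.mod_add_div (2 * (j : ℕ) + i) 3, pow_add, pow_mul, ha3, one_pow,
            mul_one] at hm
          have hne : (2 * (j : ℕ) + i) % 3 ≠ 0 := fun h => hij (Fin.ext (by omega))
          have hlt := Nat.mod_lt (2 * (j : ℕ) + i) (show 3 > 0 by norm_num)
          interval_cases h : (2 * (j : ℕ) + i) % 3
          · exact absurd rfl hne
          · simpa using hm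
          · have := pow_mem hm 2
            rwa [← pow_mul, show 2 * 2 = 3 + 1 from rfl, pow_succ, ha3, one_mul] at this
        subst hij
        exact Prod.ext rfl (Subtype.ext (mul_left_cancel e'))
      · rw [Nat.card_prod, Nat.card_fin, hZ3, (L.noncentral a haP haZ).2]
    obtain ⟨⟨i, v⟩, hv⟩ := hf.2 ⟨b, hbC⟩
    have hv' : a ^ (i : ℕ) * v = b0 := by
      have := congrArg Subtype.val hv
      simpa [f, hb, e] using this
    refine ha1ni ((i : ℕ) + 1) ?_
    rw [show a1 = a * b0 by rw [hb0, mul_inv_cancel_left], ← hv', pow_succ', mul_inv_rev, mul_assoc,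
      inv_mul_cancel_left, inv_mul_cancel_left]
    exact v.2
  have hφinj : Function.Injective φ := by
    rw [injective_iff_map_eq_one]
    intro g hg
    rw [hφ_apply] at hg
    have hmem : a ^ g.a.val * b ^ g.b.val ∈ Z := by
      rw [mul_eq_one_iff_eq_inv.1 hg]
      exact inv_mem (pow_mem hcZ _)
    have hga : g.b.val = 0 := by
      by_contra h0
      have hlt := ZMod.val_lt g.b
      -- then `b` would centralise `a`
      have hab : Commute (a ^ g.a.val * b ^ g.b.val) a := (hZc _ hmem a haP)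
      have h1 : Commute (b ^ g.b.val) a := by
        have := ((Commute.refl a).pow_left g.a.val).inv_left.mul_left hab
        rwa [inv_mul_cancel_left] at this
      have h2 : Commute b a := by
        have hb' : b = (b ^ g.b.val) ^ g.b.val := by
          rcases (show g.b.val = 1 ∨ g.b.val = 2 by omega) with e | e <;> rw [e]
          · simp
          · rw [← pow_mul, show 2 * 2 = 3 + 1 from rfl, pow_succ, hb3, one_mul]
        rw [hb']; exact h1.pow_left _
      refine hc1 (mul_left_cancel (a := a * b) ?_)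
      rw [← hrel, mul_one, h2.eq]
    rw [hga, pow_zero, mul_one] at hmem hg
    have hgb : g.a.val = 0 := by
      by_contra h0
      have hlt := ZMod.val_lt g.a
      refine haZ ?_
      rcases (show g.a.val = 1 ∨ g.a.val = 2 by omega) with e | e <;> rw [e] at hmem
      · simpa using hmem
      · have := pow_mem hmem 2
        rwa [← pow_mul, show 2 * 2 = 3 + 1 from rfl, pow_succ, ha3, one_mul] at this
    rw [hgb, pow_zero, one_mul] at hg
    have hgc : g.c.val = 0 := by
      have hlt := ZMod.val_lt g.c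
      have := orderOf_dvd_iff_pow_eq_one.2 hg
      rw [orderOf_eq_prime hc3 hc1] at this
      omega
    exact H3.ext ((ZMod.val_eq_zero _).1 hgb) ((ZMod.val_eq_zero _).1 hga) ((ZMod.val_eq_zero _).1 hgc)
  have hrange : φ.range = (P : Subgroup G) := by
    refine eq_of_le_of_card_ge ?_ ?_
    · rintro _ ⟨g, rfl⟩
      rw [hφ_apply]
      exact mul_mem (mul_mem (pow_mem haP _) (pow_mem hbP _)) (pow_mem hcP _)
    · rw [hP, ← Nat.card_congr (MonoidHom.ofInjective hφinj).toEquiv, H3.card_eq]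
  obtain ⟨q, hq⟩ : ∃ q : H3, φ q = s * b * s⁻¹ := by
    show _ ∈ φ.range
    rw [hrange]; exact (hPN s hsN b).1 hbP
  have hscc : s * c * s⁻¹ = c ^ 2 := by
    obtain ⟨i, hi⟩ := mem_zpowers_iff.1 hcZ
    rw [← hi, ← conj_zpow, hsz, inv_zpow, hi]
    exact inv_eq_of_mul_eq_one_right (by rw [← pow_succ']; exact hc3)
  have he : ∀ g : H3, s * φ g * s⁻¹ = φ (endo q g) := by
    intro g
    have e1 : φ (⟨1, 1, 2⟩ : H3) = s * a * s⁻¹ := by
      show a ^ (1 : ZMod 3).val * b ^ (1 : ZMod 3).val * c ^ (2 : ZMod 3).val = a1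
      rw [show (2 : ZMod 3).val = 2 from rfl, ZMod.val_one, pow_one, pow_one, hb, mul_assoc,
        mul_assoc b0, ← pow_succ', hc3, mul_one, hb0, mul_inv_cancel_left]
    have e2 : φ (⟨0, 0, 2⟩ : H3) = s * c * s⁻¹ := by
      rw [hscc, hφ_apply]
      show a ^ (0 : ZMod 3).val * b ^ (0 : ZMod 3).val * c ^ (2 : ZMod 3).val = c ^ 2
      rw [show (2 : ZMod 3).val = 2 from rfl]; simp
    simp only [endo, map_mul, map_pow, e1, e2, hq, conj_pow, hφ_apply g]
    simp [mul_assoc]
  have hφZ : ∀ g : H3, φ g ∈ Z ↔ g.a = 0 ∧ g.b = 0 := by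
    intro g
    constructor
    · intro hg
      have hz : ∀ h : H3, g * h = h * g := fun h => hφinj (by
        rw [map_mul, map_mul]; exact hZc _ hg _ (hrange ▸ ⟨h, rfl⟩))
      exact center_coords g (hz _) (hz _)
    · rintro ⟨ga, gb⟩
      rw [hφ_apply, ga, gb, ZMod.val_zero, pow_zero, pow_zero, one_mul, one_mul]
      exact pow_mem hcZ _
  have hgood : GoodEndo q := by
    refine ⟨hφinj ?_, fun g hg => ⟨?_, ?_⟩⟩
    · rw [map_mul, ← he, ← he, ← he, map_mul]
      simp [mul_assoc]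
    all_goals
      rw [← not_and_or, ← hφZ, map_mul, map_inv]
      have hgP : φ g ∈ (P : Subgroup G) := hrange ▸ ⟨g, rfl⟩
      have hgZ : φ g ∉ Z := by rw [hφZ]; exact not_and_or.2 hg
    · rw [← he]
      exact hcoset s hsN hs1 hs8 _ hgP hgZ
    · rw [← he, ← he, show s * (s * φ g * s⁻¹) * s⁻¹ = s ^ 2 * φ g * (s ^ 2)⁻¹ by simp [pow_two, mul_assoc]]
      exact hcoset (s ^ 2) (pow_mem hsN 2) hs2 (by rw [← pow_mul, mul_comm, pow_mul, hs8, one_pow]) _ hgP hgZ
  have hs4 : s ^ 4 ≠ 1 := fun e => endo_four q hgood (hφinj (by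
    rw [← iterate_conj he 4, e]; simp))
  have hord : orderOf s = 8 := orderOf_eq_prime_pow (p := 2) (n := 2) hs4 hs8
  have hr : (changePow q).Coprime 8 := by
    unfold changePow
    split_ifs <;> norm_num
  let ψ : H3 →* G := φ.comp (MonoidHom.mk' (change q) (change_mul q hgood))
  have hψinj : Function.Injective ψ :=
    hφinj.comp ((injective_iff_map_eq_one (MonoidHom.mk' (change q) (change_mul q hgood))).2
      (change_inj q hgood))
  exact ⟨{
    φ := ψ
    φ_inj := hψinj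
    φ_range := eq_of_le_of_card_ge (by rintro _ ⟨g, rfl⟩; exact hrange ▸ ⟨_, rfl⟩)
      (by rw [hP, ← Nat.card_congr (MonoidHom.ofInjective hψinj).toEquiv, H3.card_eq])
    s := s ^ changePow q
    s_mem := pow_mem hsN _
    ord_s := by rw [Nat.Coprime.orderOf_pow (by rwa [hord, Nat.coprime_comm])]; exact hord
    s_conj := fun h => by
      show s ^ changePow q * φ (change q h) * (s ^ changePow q)⁻¹ = φ (change q (H3.act 1 h))
      rw [iterate_conj he, change_spec q hgood] }⟩

end CfsgLib.Recog.U33Unique
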