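import Cfsg.Agent.Lib.Recog.U33Unique.Tools

/-!
The character values on an element of order 7 with centraliser of order 7 that is conjugate to its
square but not to its inverse.
-/

set_option autoImplicit false

noncomputable section

namespace CfsgLib.Recog.U33Unique

open Cfsg CfsgLib.Characters
open scoped ComplexConjugate

/-- A primitive seventh root of unity. -/
def zeta7 : ℂ := Complex.exp (2 * Real.pi * Complex.I / (7 : ℕ))

/-- The Gaussian period `(-1 + √-7)/2`. -/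
def eta : ℂ := zeta7 + zeta7 ^ 2 + zeta7 ^ 4

theorem zeta7_prim : IsPrimitiveRoot zeta7 7 := Complex.isPrimitiveRoot_exp 7 (by norm_num)

theorem zeta7_pow : zeta7 ^ 7 = 1 := zeta7_prim.pow_eq_one

theorem zeta7_sum : 1 + zeta7 + zeta7 ^ 2 + zeta7 ^ 3 + zeta7 ^ 4 + zeta7 ^ 5 + zeta7 ^ 6 = 0 := by
  have h := zeta7_prim.geom_sum_eq_zero (by norm_num)
  simpa [Finset.sum_range_succ] using h

theorem conj_zeta7 : conj zeta7 = zeta7 ^ 6 := by
  have h1 : ‖zeta7‖ = 1 := Complex.norm_eq_one_of_pow_eq_one zeta7_pow (by norm_num)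
  have h2 : zeta7 * conj zeta7 = 1 := by
    rw [Complex.mul_conj']
    simp [h1]
  have h3 : zeta7 * zeta7 ^ 6 = 1 := by rw [← pow_succ', zeta7_pow]
  exact mul_left_cancel₀ (zeta7_prim.ne_zero (by norm_num)) (h2.trans h3.symm)

theorem conj_eta : conj eta = zeta7 ^ 3 + zeta7 ^ 5 + zeta7 ^ 6 := by
  have h := zeta7_pow
  simp only [eta, map_add, map_pow, conj_zeta7]
  linear_combination (zeta7 ^ 5 + (zeta7 ^ 17 + zeta7 ^ 10 + zeta7 ^ 3)) * h

theorem eta_add : eta + conj eta = -1 := by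
  rw [conj_eta, eta]
  linear_combination zeta7_sum

theorem eta_sq : eta ^ 2 = -eta - 2 := by
  rw [eta]
  linear_combination zeta7 * zeta7_pow + 2 * zeta7_sum

theorem eta_indep {a b : ℤ} (h : (a : ℂ) + b * eta = 0) : a = 0 ∧ b = 0 := by
  have h1 : ((a ^ 2 - a * b + 2 * b ^ 2 : ℤ) : ℂ) = 0 := by
    push_cast
    linear_combination ((a : ℂ) - b * eta - b) * h + (b : ℂ) ^ 2 * eta_sq
  have h2 : a ^ 2 - a * b + 2 * b ^ 2 = 0 := by exact_mod_cast h1
  have hb : b = 0 := by nlinarith [sq_nonneg (2 * a - b)]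
  subst hb
  exact ⟨by nlinarith, rfl⟩

theorem eta_sub_ne : eta - conj eta ≠ 0 := by
  intro h
  have := eta_indep (a := 1) (b := 2) (by push_cast; linear_combination h + eta_add)
  exact one_ne_zero this.1

universe u

variable {G : Type u} [Group G] [Fintype G]

/-- The values on `x`: principal, two rational characters, and one conjugate pair. -/
structure SevenColumn (x : G) where
  cA : IrrCharacter G
  cB : IrrCharacter G
  cC : IrrCharacter G
  cD : IrrCharacter G
  α : ℤ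
  β : ℤ
  s : ℤ
  hα : α = 1 ∨ α = -1
  hβ : β = 1 ∨ β = -1
  hs : s = 1 ∨ s = -1
  nA : cA ≠ principalIrr G
  nB : cB ≠ principalIrr G
  nC : cC ≠ principalIrr G
  nAB : cA ≠ cB
  vA : (cA : G → ℂ) x = α
  vB : (cB : G → ℂ) x = β
  vC : (cC : G → ℂ) x = s * eta
  vD : (cD : G → ℂ) x = s * conj eta
  degD : charDegree (cD : G → ℂ) = charDegree (cC : G → ℂ)
  mA : (7 : ℤ) ∣ (charDegree (cA : G → ℂ) : ℤ) - α
  mB : (7 : ℤ) ∣ (charDegree (cB : G → ℂ) : ℤ) - β
  mC : (7 : ℤ) ∣ (charDegree (cC : G → ℂ) : ℤ) - 3 * s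
  sum_val : ∀ F : IrrCharacter G → ℂ, (∑ χ, F χ * (χ : G → ℂ) x) =
    F (principalIrr G) + α * F cA + β * F cB + s * eta * F cC + s * conj eta * F cD
  hsq : ∃ k : ℕ, Nat.card G = 1 + charDegree (cA : G → ℂ) ^ 2 + charDegree (cB : G → ℂ) ^ 2 +
    2 * charDegree (cC : G → ℂ) ^ 2 + 49 * k
  hnorm : ∀ g : G, 1 + ‖(cA : G → ℂ) g‖ ^ 2 + ‖(cB : G → ℂ) g‖ ^ 2 + ‖(cC : G → ℂ) g‖ ^ 2 +
    ‖(cD : G → ℂ) g‖ ^ 2 ≤ (Nat.card (Subgroup.centralizer ({g} : Set G)) : ℝ)

variable {x : G}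

theorem value_data (hx : orderOf x = 7) (h2 : IsConj x (x ^ 2)) (χ : IrrCharacter G) :
    ∃ P Q : ℤ, (χ : G → ℂ) x = P + Q * eta ∧ (7 : ℤ) ∣ (charDegree (χ : G → ℂ) : ℤ) - P - 3 * Q := by
  have hcl := irr_isClassFunction χ
  have hsq : ∀ k : ℕ, (χ : G → ℂ) (x ^ k) = (χ : G → ℂ) (x ^ ((2 * k) % 7)) := by
    intro k
    obtain ⟨g, hg⟩ := isConj_iff.1 h2
    rw [← hx, pow_mod_orderOf, pow_mul, ← hg, conj_pow]
    exact classFunction_eq_of_isConj hcl (isConj_iff.2 ⟨g, rfl⟩)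
  set u := (χ : G → ℂ) x
  have e2 : (χ : G → ℂ) (x ^ 2) = u := by
    have := hsq 1
    rw [pow_one] at this
    exact this.symm
  have e4 : (χ : G → ℂ) (x ^ 4) = u := (hsq 2).symm.trans e2
  have e6 : (χ : G → ℂ) (x ^ 6) = conj u := by
    rw [← irr_apply_inv, inv_eq_of_mul_eq_one_right (show x * x ^ 6 = 1 by
      rw [← pow_succ', show 6 + 1 = orderOf x from hx.symm, pow_orderOf_eq_one])]
  have e5 : (χ : G → ℂ) (x ^ 5) = conj u := (hsq 6).symm.trans e6
  have e3 : (χ : G → ℂ) (x ^ 3) = conj u := (hsq 3).trans e6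
  have hd := (ClassCount.degree_eq χ).1
  have key : ∀ ω : ℂ, ω ^ 7 = 1 → ∃ m : ℕ, (charDegree (χ : G → ℂ) : ℂ) +
      u * (ω + ω ^ 2 + ω ^ 4) + conj u * (ω ^ 3 + ω ^ 5 + ω ^ 6) = 7 * m := by
    intro ω hω
    obtain ⟨m, hm⟩ := root_mult χ x (ω := ω) (by rw [hx, hω])
    refine ⟨m, ?_⟩
    rw [hx] at hm
    simp only [Finset.sum_range_succ, Finset.sum_range_zero, zero_add, pow_zero, pow_one, mul_one,
      e2, e3, e4, e5, e6, hd] at hm
    push_cast at hm
    linear_combination hm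
  obtain ⟨m0, h0⟩ := key 1 (one_pow _)
  obtain ⟨m1, h1⟩ := key zeta7 zeta7_pow
  obtain ⟨m2, hm2⟩ := key (zeta7 ^ 3) (by rw [← pow_mul, mul_comm, pow_mul, zeta7_pow, one_pow])
  rw [← conj_eta, show zeta7 + zeta7 ^ 2 + zeta7 ^ 4 = eta from rfl] at h1
  rw [show zeta7 ^ 3 + (zeta7 ^ 3) ^ 2 + (zeta7 ^ 3) ^ 4 = conj eta by
      rw [conj_eta]; linear_combination zeta7 ^ 5 * zeta7_pow,
    show (zeta7 ^ 3) ^ 3 + (zeta7 ^ 3) ^ 5 + (zeta7 ^ 3) ^ 6 = eta by
      rw [eta]
      linear_combination (zeta7 ^ 2 + zeta7 * (zeta7 ^ 7 + 1) + zeta7 ^ 4 * (zeta7 ^ 7 + 1)) *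
        zeta7_pow] at hm2
  norm_num at h0
  have he := eta_add
  have hp : eta * conj eta = 2 := by linear_combination eta * he - eta_sq
  have hu : u = ((m0 : ℤ) - m1 : ℤ) + ((m2 : ℤ) - m1 : ℤ) * eta := by
    push_cast
    have h7 : (7 : ℂ) * u = (7 : ℂ) * ((m0 : ℂ) + m1 * conj eta + m2 * eta) := by
      linear_combination h0 + conj eta * h1 + eta * hm2 - ((charDegree (χ : G → ℂ) : ℂ)) * he -
        (2 * u) * hp - conj u * ((eta + conj eta - 1) * he - 2 * hp)
    linear_combination (mul_left_cancel₀ (by norm_num : (7 : ℂ) ≠ 0) h7) + (m1 : ℂ) * he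
  refine ⟨_, _, hu, (m1 : ℤ), ?_⟩
  have hc : conj u = ((m0 : ℤ) - m1 : ℤ) + ((m2 : ℤ) - m1 : ℤ) * conj eta := by
    rw [hu, map_add, map_mul, map_intCast, map_intCast]
  have h := h0
  rw [hc, hu] at h
  push_cast at h
  have : ((charDegree (χ : G → ℂ) : ℤ) : ℂ) =
      ((((m0 : ℤ) - m1) + 3 * ((m2 : ℤ) - m1) + 7 * m1 : ℤ) : ℂ) := by
    push_cast
    linear_combination h - 3 * ((m2 : ℂ) - m1) * he
  have := (Int.cast_injective this : (charDegree (χ : G → ℂ) : ℤ) = _)
  linarith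

theorem exists_sevenColumn (hx : orderOf x = 7)
    (hC : Nat.card (Subgroup.centralizer ({x} : Set G)) = 7) (h2 : IsConj x (x ^ 2))
    (h3 : ¬ IsConj x x⁻¹) : Nonempty (SevenColumn x) := by
  classical
  choose P Q hPQ hmod using value_data hx h2
  set d := fun χ : IrrCharacter G => (charDegree (χ : G → ℂ) : ℤ) with hd
  have hu : ∀ χ : IrrCharacter G, conj ((χ : G → ℂ) x) = P χ + Q χ * conj eta := fun χ => by
    rw [hPQ, map_add, map_mul, map_intCast, map_intCast]
  have he := eta_add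
  have hp : eta * conj eta = 2 := by linear_combination eta * he - eta_sq
  -- the three moments
  have o1 := column_orth x x
  rw [if_pos (IsConj.refl x), hC] at o1
  simp only [hPQ, hu, map_add, map_mul, map_intCast] at o1
  have o2 := column_orth x x⁻¹
  rw [if_neg h3] at o2
  simp only [irr_apply_inv, Complex.conj_conj, hPQ] at o2
  have o3 := column_orth (1 : G) x⁻¹
  rw [if_neg fun hc => by
    rw [isConj_one_right] at hc
    rw [inv_eq_one] at hc
    rw [hc, orderOf_one] at hx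
    norm_num at hx] at o3
  simp only [irr_apply_inv, Complex.conj_conj, hPQ, (ClassCount.degree_eq _).1] at o3
  have i1 : ∑ χ, (P χ ^ 2 - P χ * Q χ + 2 * Q χ ^ 2) = 7 := by
    have h : (((∑ χ, (P χ ^ 2 - P χ * Q χ + 2 * Q χ ^ 2) : ℤ)) : ℂ) = ((7 : ℤ) : ℂ) := by
      rw [show ((7 : ℤ) : ℂ) = ((7 : ℕ) : ℂ) by norm_num, ← o1]
      push_cast
      refine Finset.sum_congr rfl fun χ _ => ?_
      linear_combination (-((P χ : ℂ) * Q χ)) * he - (Q χ : ℂ) ^ 2 * hp
    exact Int.cast_injective h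
  obtain ⟨i2, i3⟩ : ∑ χ, (P χ ^ 2 - 2 * Q χ ^ 2) = 0 ∧ ∑ χ, (2 * P χ * Q χ - Q χ ^ 2) = 0 := by
    refine eta_indep ?_
    rw [← o2]
    push_cast
    rw [Finset.sum_mul, ← Finset.sum_add_distrib]
    refine Finset.sum_congr rfl fun χ _ => ?_
    linear_combination -(Q χ : ℂ) ^ 2 * eta_sq
  obtain ⟨-, i5⟩ : ∑ χ, d χ * P χ = 0 ∧ ∑ χ, d χ * Q χ = 0 := by
    refine eta_indep ?_
    rw [← o3]
    push_cast [hd]
    rw [Finset.sum_mul, ← Finset.sum_add_distrib]
    exact Finset.sum_congr rfl fun χ _ => by push_cast; ring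
  simp only [Finset.sum_add_distrib, Finset.sum_sub_distrib, ← Finset.mul_sum, mul_assoc] at i1 i2 i3
  have hQ : ∑ χ, Q χ ^ 2 = 2 := by linarith
  have hP : ∑ χ, P χ ^ 2 = 4 := by linarith
  have hPQ1 : ∑ χ, P χ * Q χ = 1 := by linarith
  have h1v : P (principalIrr G) = 1 ∧ Q (principalIrr G) = 0 := by
    have h := hPQ (principalIrr G)
    rw [principalIrr_apply] at h
    obtain ⟨h1, h2⟩ := eta_indep (a := P (principalIrr G) - 1) (b := Q (principalIrr G))
      (by push_cast; linear_combination -h)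
    exact ⟨by omega, h2⟩
  obtain ⟨a, -, b, -, hab, hQa, hQb, hQ0⟩ := two_of_sq _ _ hQ
  have hdpos : ∀ χ, 0 < d χ := fun χ => by
    have := (ClassCount.degree_eq χ).2.2
    simp only [hd]
    exact_mod_cast this
  have hs2 : ∀ F : IrrCharacter G → ℤ, ∑ χ, F χ * Q χ = F a * Q a + F b * Q b := fun F =>
    Fintype.sum_eq_add a b hab fun i hi => by rw [hQ0 i (Finset.mem_univ _) hi.1 hi.2, mul_zero]
  rw [hs2] at hPQ1 i5
  have hopp : Q b = -Q a ∧ d b = d a := by
    have := hdpos a; have := hdpos b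
    rcases hQa with e | e <;> rcases hQb with e' | e' <;> rw [e, e'] at i5 <;>
      exact ⟨by omega, by omega⟩
  -- choose the representative with `P = 0`
  have key : ∀ a b : IrrCharacter G, a ≠ b → (Q a = 1 ∨ Q a = -1) → Q b = -Q a → d b = d a →
      P a = 0 → P b = -Q a → (∀ i, i ≠ a → i ≠ b → Q i = 0) → Nonempty (SevenColumn x) := by
    intro a b hab hQa hQb hdb hPa hPb hQ0
    have hne : ∀ c : IrrCharacter G, Q c ≠ 0 → c ≠ principalIrr G := fun c hc e => hc (e ▸ h1v.2)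
    have ha0 : Q a ≠ 0 := by omega
    have hb0 : Q b ≠ 0 := by omega
    set S := (Finset.univ.erase (principalIrr G)).erase b with hS
    have hbmem : b ∈ Finset.univ.erase (principalIrr G) :=
      Finset.mem_erase.2 ⟨hne b hb0, Finset.mem_univ _⟩
    have hsplit : ∀ {M : Type} [AddCommMonoid M] (F : IrrCharacter G → M),
        ∑ χ, F χ = F (principalIrr G) + (F b + ∑ χ ∈ S, F χ) := fun F => by
      rw [hS, Finset.add_sum_erase _ _ hbmem, Finset.add_sum_erase _ _ (Finset.mem_univ _)]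
    have hPS : ∑ χ ∈ S, P χ ^ 2 = 2 := by
      have h := hsplit (fun χ => P χ ^ 2)
      rw [hP, h1v.1, hPb, neg_sq] at h
      rcases hQa with e | e <;> rw [e] at h <;> linarith
    obtain ⟨A, hA, B, hB, hAB, hPA, hPB, hP0⟩ := two_of_sq _ _ hPS
    have hnA : A ≠ a ∧ A ≠ b ∧ A ≠ principalIrr G := by
      obtain ⟨h1, h2⟩ := Finset.mem_erase.1 hA
      exact ⟨fun e => by rw [e, hPa] at hPA; omega, h1, (Finset.mem_erase.1 h2).1⟩
    have hnB : B ≠ a ∧ B ≠ b ∧ B ≠ principalIrr G := by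
      obtain ⟨h1, h2⟩ := Finset.mem_erase.1 hB
      exact ⟨fun e => by rw [e, hPa] at hPB; omega, h1, (Finset.mem_erase.1 h2).1⟩
    have hQA := hQ0 A hnA.1 hnA.2.1
    have hQB := hQ0 B hnB.1 hnB.2.1
    have hna := hne a ha0
    have hnb := hne b hb0
    have hzero : ∀ χ, χ ≠ principalIrr G → χ ≠ A → χ ≠ B → χ ≠ a → χ ≠ b → P χ = 0 ∧ Q χ = 0 :=
      fun χ h1 h2 h3 h4 h5 => ⟨hP0 χ (Finset.mem_erase.2 ⟨h5, Finset.mem_erase.2
        ⟨h1, Finset.mem_univ _⟩⟩) h2 h3, hQ0 χ h4 h5⟩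
    set five : Finset (IrrCharacter G) := {principalIrr G, A, B, a, b} with hfive
    have hfive_sum : ∀ {M : Type} [AddCommMonoid M] (F : IrrCharacter G → M),
        ∑ χ ∈ five, F χ = F (principalIrr G) + (F A + (F B + (F a + F b))) := by
      intro M _ F
      rw [hfive, Finset.sum_insert (by simp [hna.symm, hnb.symm, hnA.2.2.symm, hnB.2.2.symm]),
        Finset.sum_insert (by simp [hnA.1, hnA.2.1, hAB]),
        Finset.sum_insert (by simp [hnB.1, hnB.2.1]), Finset.sum_pair hab]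
    have hmemfive : ∀ χ, χ ∉ five → P χ = 0 ∧ Q χ = 0 := fun χ hχ => by
      simp only [hfive, Finset.mem_insert, Finset.mem_singleton, not_or] at hχ
      exact hzero χ hχ.1 hχ.2.1 hχ.2.2.1 hχ.2.2.2.1 hχ.2.2.2.2
    have hva : (a : G → ℂ) x = Q a * eta := by rw [hPQ, hPa]; simp
    have hvb : (b : G → ℂ) x = Q a * conj eta := by
      rw [hPQ, hPb, hQb]; push_cast; linear_combination -(Q a : ℂ) * he
    refine ⟨{
      cA := A, cB := B, cC := a, cD := b, α := P A, β := P B, s := Q a, hα := hPA, hβ := hPB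
      hs := hQa, nA := hnA.2.2, nB := hnB.2.2, nC := hna, nAB := hAB
      vA := by rw [hPQ, hQA]; simp
      vB := by rw [hPQ, hQB]; simp
      vC := hva
      vD := hvb
      degD := by have := hdb; simp only [hd] at this; exact_mod_cast this
      mA := by have := hmod A; rw [hQA] at this; simpa using this
      mB := by have := hmod B; rw [hQB] at this; simpa using this
      mC := by have := hmod a; rw [hPa] at this; simpa using this
      sum_val := fun F => ?_
      hsq := ?_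
      hnorm := fun g => ?_ }⟩
    · rw [← Finset.sum_subset (Finset.subset_univ five) fun χ _ hχ => by
        rw [hPQ, (hmemfive χ hχ).1, (hmemfive χ hχ).2]; simp, hfive_sum, principalIrr_apply,
        hPQ A, hPQ B, hQA, hQB, hva, hvb]
      push_cast
      ring
    · have h7 : ∀ χ ∈ fiveᶜ, ∃ k : ℕ, charDegree (χ : G → ℂ) ^ 2 = 49 * k := by
        intro χ hχ
        have := hmod χ
        rw [(hmemfive χ (Finset.mem_compl.1 hχ)).1, (hmemfive χ (Finset.mem_compl.1 hχ)).2] at this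
        obtain ⟨k, hk⟩ := Int.natCast_dvd_natCast.1 (show ((7 : ℕ) : ℤ) ∣ (charDegree (χ : G → ℂ) : ℤ)
          by simpa using this)
        exact ⟨k ^ 2, by rw [hk]; ring⟩
      choose! k hk using h7
      refine ⟨∑ χ ∈ fiveᶜ, k χ, ?_⟩
      have h : ∑ χ : IrrCharacter G, charDegree (χ : G → ℂ) ^ 2 = Nat.card G := by
        have := sum_sq_degrees (G := G)
        simp only [(ClassCount.degree_eq _).1] at this
        exact_mod_cast this
      have h1 : charDegree ((principalIrr G : IrrCharacter G) : G → ℂ) = 1 := by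
        have := (ClassCount.degree_eq (principalIrr G)).1
        rw [principalIrr_apply] at this
        exact_mod_cast this.symm
      have hdb' : charDegree (b : G → ℂ) = charDegree (a : G → ℂ) := by
        have := hdb; simp only [hd] at this; exact_mod_cast this
      rw [← h, ← Finset.sum_add_sum_compl five, hfive_sum, h1, hdb', Finset.mul_sum,
        Finset.sum_congr rfl hk]
      ring
    · have h := column_orth g g
      rw [if_pos (IsConj.refl g)] at h
      simp only [Complex.mul_conj', ← Complex.ofReal_pow, ← Complex.ofReal_sum] at h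
      have h' : ∑ χ : IrrCharacter G, ‖(χ : G → ℂ) g‖ ^ 2 =
          (Nat.card (Subgroup.centralizer ({g} : Set G)) : ℝ) := by
        have e := congrArg Complex.re h
        rwa [Complex.ofReal_re, Complex.natCast_re] at e
      rw [← h', ← Finset.sum_add_sum_compl five (fun χ => ‖(χ : G → ℂ) g‖ ^ 2),
        hfive_sum (fun χ => ‖(χ : G → ℂ) g‖ ^ 2), principalIrr_apply, norm_one, one_pow]
      have := Finset.sum_nonneg (ι := IrrCharacter G) (s := fiveᶜ) (f := fun χ : IrrCharacter G => ‖(χ : G → ℂ) g‖ ^ 2) fun χ _ => sq_nonneg _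
      linarith
  obtain ⟨hQb', hdb⟩ := hopp
  have hPsum : P a ^ 2 + P b ^ 2 ≤ 3 := by
    have hne : ∀ c, (Q c = 1 ∨ Q c = -1) → c ≠ principalIrr G := fun c hc e => by
      rw [e, h1v.2] at hc; omega
    have h : ∑ χ ∈ ({principalIrr G, a, b} : Finset (IrrCharacter G)), P χ ^ 2 ≤ ∑ χ, P χ ^ 2 :=
      Finset.sum_le_sum_of_subset_of_nonneg (Finset.subset_univ _) fun i _ _ => sq_nonneg _
    rw [Finset.sum_insert (by simp [(hne a hQa).symm, (hne b hQb).symm]), Finset.sum_pair hab, hP,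
      h1v.1] at h
    linarith
  have hPab : P a = P b + Q a := by
    rw [hQb'] at hPQ1
    rcases hQa with e | e <;> rw [e] at hPQ1 ⊢ <;> linarith
  have hQ0' : ∀ i, i ≠ a → i ≠ b → Q i = 0 := fun i => hQ0 i (Finset.mem_univ _)
  have hb : P b = 0 ∨ P b = -Q a := by
    have h1 : P b ≤ 1 := by nlinarith
    have h2 : -1 ≤ P b := by nlinarith
    rcases hQa with e | e <;> rw [e] at hPab ⊢ <;> interval_cases P b <;>
      first | omega | (rw [hPab] at hPsum; norm_num at hPsum)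
  rcases hb with hb | hb
  · exact key b a hab.symm (by omega) (by omega) hdb.symm hb (by omega) fun i h1 h2 => hQ0' i h2 h1
  · exact key a b hab hQa hQb' hdb (by omega) hb hQ0'

end CfsgLib.Recog.U33Unique
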