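import Cfsg.Agent.Lib.Recog.U33Unique.Column
import Cfsg.Agent.Lib.Blocks.PrincipalDegree

/-!
A simple group of order 6048 without elements of order 9: the characters of degrees 6, 27, 32, 32
and the relations between their values.
-/

set_option autoImplicit false

noncomputable section

namespace CfsgLib.Recog.U33Unique

open Cfsg CfsgLib.Characters CfsgLib.BrauerPerm CfsgLib.ClassCount
open scoped ComplexConjugate

universe u

variable {G : Type u} [Group G] [Fintype G]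

/-- Neither conjugate to `x` nor to its inverse. -/
def OffClass (x g : G) : Prop := ¬ IsConj g x ∧ ¬ IsConj g x⁻¹

theorem offClass_of_orderOf {x g : G} (hx : orderOf x = 7) (hg : orderOf g ≠ 7) : OffClass x g := by
  constructor <;> intro h <;> obtain ⟨c, hc⟩ := isConj_iff.1 h <;> refine hg ?_
  · rw [← hx, ← hc, ← MulAut.conj_apply, MulEquiv.orderOf_eq]
  · rw [← hx, ← orderOf_inv x, ← hc, ← MulAut.conj_apply, MulEquiv.orderOf_eq]

theorem seven_data [IsSimpleGroup G] (hG : Nat.card G = 6048) :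
    ∃ x : G, orderOf x = 7 ∧ Nat.card (Subgroup.centralizer ({x} : Set G)) = 7 ∧
      IsConj x (x ^ 2) ∧ ¬ IsConj x x⁻¹ := by
  classical
  have : Fact (Nat.Prime 7) := ⟨by norm_num⟩
  have hnc : ¬ IsMulCommutative G := Small.nc_of_not_prime (by rw [hG]; norm_num)
  obtain ⟨P⟩ := (inferInstance : Nonempty (Sylow 7 G))
  have h7 : Nat.card P = 7 := by
    simpa using Small.card_sylow_of_card_eq (k := 1) (m := 864) (by rw [hG]; norm_num) (by norm_num) P
  have hCP : Subgroup.centralizer ((P : Subgroup G) : Set G) = (P : Subgroup G) :=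
    CfsgLib.Blocks.centralizer_sylow_eq (G := G) Nat.prime_two Nat.prime_three (by norm_num)
      (by norm_num) (by norm_num) (a := 5) (b := 3) (by rw [hG]; norm_num) P
  obtain ⟨e, he1, he2, -, hCe, hall⟩ := Small.sylow_prime_order_data hnc P h7
  rw [hCP, h7] at hCe hall
  rw [hG] at hall
  have he : e = 3 := by
    have hmem := Small.card_sylow_mem (p := 7) hnc (k := 1) (m := 864) one_ne_zero
      (by rw [hG]; norm_num) (by norm_num)
    rw [show ((Nat.divisors 864).filter fun n => n % 7 = 1 ∧ 1 < n) = {8, 36, 288} from by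
      decide +kernel] at hmem
    simp only [Finset.mem_insert, Finset.mem_singleton] at hmem
    have hle := Nat.le_of_dvd (by norm_num) he2
    rcases hmem with e' | e' | e' <;> rw [e'] at hall <;> omega
  subst he
  set N := Subgroup.normalizer ((P : Subgroup G) : Set G) with hN
  obtain ⟨⟨x, hxP⟩, hx⟩ := exists_prime_orderOf_dvd_card' (G := (P : Subgroup G)) 7 h7.symm.dvd
  rw [Subgroup.orderOf_mk] at hx
  have hx1 : x ≠ 1 := fun e => by rw [e, orderOf_one] at hx; omega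
  have hPz := Small.eq_zpowers_of_mem h7 hxP hx1
  have hC : Subgroup.centralizer ({x} : Set G) = (P : Subgroup G) := by
    conv_rhs => rw [← hCP, hPz, Subgroup.zpowers_eq_closure, Subgroup.centralizer_closure]
  have hCx : Nat.card (Subgroup.centralizer ({x} : Set G)) = 7 := by rw [hC, h7]
  have hconj : ∀ g : G, g * x * g⁻¹ ∈ (P : Subgroup G) → g ∈ N := by
    intro g hg
    refine Subgroup.mem_normalizer_iff.2 fun y => ?_
    have hgx : g * x * g⁻¹ ≠ 1 := fun e => hx1 (conj_eq_one_iff.1 e)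
    have hm : (P : Subgroup G).map (MulAut.conj g).toMonoidHom = (P : Subgroup G) := by
      rw [hPz, MonoidHom.map_zpowers]
      exact ((Small.eq_zpowers_of_mem h7 hg hgx).symm.trans hPz)
    constructor
    · intro hy
      rw [← hm]
      exact ⟨y, hy, rfl⟩
    · intro hy
      rw [← hm] at hy
      obtain ⟨z, hz, hzy⟩ := hy
      rwa [← (MulAut.conj g).injective hzy]
  haveI : Fact (Nat.Prime 3) := ⟨Nat.prime_three⟩
  obtain ⟨⟨n, hnN⟩, hn⟩ := exists_prime_orderOf_dvd_card' (G := N) 3 (by rw [← hCe]; norm_num)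
  rw [Subgroup.orderOf_mk] at hn
  obtain ⟨k, hk⟩ : ∃ k : ℕ, x ^ k = n * x * n⁻¹ := by
    have := (Subgroup.mem_normalizer_iff.1 hnN x).1 hxP
    rw [hPz] at this
    exact mem_powers_iff_mem_zpowers.2 this
  have hk3 : x ^ (k * k * k) = x := by
    have hit : ∀ i : ℕ, n * x ^ i * n⁻¹ = x ^ (k * i) := fun i => by rw [← conj_pow, ← hk, ← pow_mul]
    have h1 : n ^ 3 * x * (n ^ 3)⁻¹ = x := by
      rw [← hn, pow_orderOf_eq_one]; simp
    calc x ^ (k * k * k) = n * (n * (n * x * n⁻¹) * n⁻¹) * n⁻¹ := by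
          rw [← hk, hit, hit, mul_assoc]
      _ = n ^ 3 * x * (n ^ 3)⁻¹ := by simp [pow_succ, mul_assoc]
      _ = x := h1
  have hk' : k % 7 = 2 ∨ k % 7 = 4 := by
    have h1 : x ^ (k * k * k) = x ^ 1 := by rw [hk3, pow_one]
    rw [pow_eq_pow_iff_modEq, hx, Nat.ModEq, Nat.mul_mod, Nat.mul_mod k k] at h1
    have hk1 : k % 7 ≠ 1 := by
      intro h
      have hh : n * x * n⁻¹ = x := by rw [← hk, ← pow_mod_orderOf, hx, h, pow_one]
      have : n ∈ Subgroup.centralizer ({x} : Set G) :=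
        Subgroup.mem_centralizer_singleton_iff.2 (mul_inv_eq_iff_eq_mul.1 hh)
      rw [hC] at this
      have := orderOf_dvd_natCard (⟨n, this⟩ : (P : Subgroup G))
      rw [Subgroup.orderOf_mk, hn, h7] at this
      norm_num at this
    have := Nat.mod_lt k (show 7 > 0 by norm_num)
    interval_cases k % 7 <;> simp_all
  have h2 : IsConj x (x ^ 2) := by
    rcases hk' with h | h
    · exact isConj_iff.2 ⟨n, by rw [← hk, ← pow_mod_orderOf, hx, h]⟩
    · refine isConj_iff.2 ⟨n * n, ?_⟩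
      calc n * n * x * (n * n)⁻¹ = n * (n * x * n⁻¹) * n⁻¹ := by group
        _ = x ^ (k * k) := by rw [← hk, ← conj_pow, ← hk, ← pow_mul]
        _ = x ^ 2 := by rw [← pow_mod_orderOf, hx, Nat.mul_mod, h]
  refine ⟨x, hx, hCx, h2, fun h => ?_⟩
  obtain ⟨g, hg⟩ := isConj_iff.1 h
  have hgN : g ∈ N := hconj g (by rw [hg]; exact inv_mem hxP)
  have ho : orderOf g ∣ 21 := by
    have := orderOf_dvd_natCard (⟨g, hgN⟩ : N)
    rwa [Subgroup.orderOf_mk, ← hCe] at this
  have hg2 : g ^ 2 * x * (g ^ 2)⁻¹ = x := by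
    rw [show g ^ 2 * x * (g ^ 2)⁻¹ = g * (g * x * g⁻¹) * g⁻¹ by simp [pow_two, mul_assoc], hg, ← conj_inv, hg, inv_inv]
  have hgC : g ^ 2 ∈ Subgroup.centralizer ({x} : Set G) :=
    Subgroup.mem_centralizer_singleton_iff.2 (mul_inv_eq_iff_eq_mul.1 hg2)
  have hgx : g ∈ Subgroup.centralizer ({x} : Set G) := by
    have e : g = (g ^ 2) ^ 11 := by
      rw [← pow_mul, show 2 * 11 = 21 + 1 by norm_num, pow_succ,
        orderOf_dvd_iff_pow_eq_one.1 ho, one_mul]
    rw [e]
    exact pow_mem hgC 11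
  have hxx : x = x⁻¹ := by
    rw [← hg, mul_inv_eq_of_eq_mul (Subgroup.mem_centralizer_singleton_iff.1 hgx)]
  have : x ^ 2 = 1 := by rw [pow_two]; nth_rw 2 [hxx]; rw [mul_inv_cancel]
  have := orderOf_dvd_iff_pow_eq_one.2 this
  rw [hx] at this
  norm_num at this

namespace SevenColumn

variable {x : G} (C : SevenColumn x)

theorem deg_one : charDegree ((principalIrr G : IrrCharacter G) : G → ℂ) = 1 := by
  have := (degree_eq (principalIrr G)).1
  rw [principalIrr_apply] at this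
  exact_mod_cast this.symm

/-- The orthogonality relations against `x` and its inverse. -/
theorem rel {g : G} (hg : OffClass x g) :
    (C.cD : G → ℂ) g = (C.cC : G → ℂ) g ∧
      1 + C.α * (C.cA : G → ℂ) g + C.β * (C.cB : G → ℂ) g - C.s * (C.cC : G → ℂ) g = 0 := by
  classical
  have h1 := column_orth g x
  rw [if_neg hg.1] at h1
  have h2 := column_orth g x⁻¹
  rw [if_neg hg.2] at h2
  simp only [irr_apply_inv, Complex.conj_conj, C.sum_val, principalIrr_apply] at h2
  have h3 : ∑ χ : IrrCharacter G, conj ((χ : G → ℂ) g) * (χ : G → ℂ) x = 0 := by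
    have := congrArg conj h1
    simpa [map_sum, map_mul] using this
  rw [C.sum_val, principalIrr_apply, map_one] at h3
  have h3' := congrArg conj h3
  simp only [map_add, map_mul, map_one, map_intCast, map_zero, Complex.conj_conj] at h3'
  have hs0 : (C.s : ℂ) ≠ 0 := by rcases C.hs with e | e <;> simp [e]
  have hd : ((C.s : ℂ) * (eta - conj eta)) * ((C.cC : G → ℂ) g - (C.cD : G → ℂ) g) = 0 := by
    linear_combination h2 - h3'
  have hcd := sub_eq_zero.1 ((mul_eq_zero.1 hd).resolve_left (mul_ne_zero hs0 eta_sub_ne))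
  refine ⟨hcd.symm, ?_⟩
  rw [← hcd] at h2
  linear_combination h2 - (C.s : ℂ) * (C.cC : G → ℂ) g * eta_add

theorem deg_rel (hx : orderOf x = 7) : 1 + C.α * (charDegree (C.cA : G → ℂ) : ℤ) +
    C.β * (charDegree (C.cB : G → ℂ) : ℤ) - C.s * (charDegree (C.cC : G → ℂ) : ℤ) = 0 := by
  have h := (C.rel (offClass_of_orderOf hx (by rw [orderOf_one]; norm_num))).2
  simp only [(degree_eq _).1] at h
  exact_mod_cast h

theorem real_of_degree (hA1 : charDegree (C.cA : G → ℂ) ≠ 1)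
    (hAB : charDegree (C.cA : G → ℂ) ≠ charDegree (C.cB : G → ℂ))
    (hAC : charDegree (C.cA : G → ℂ) ≠ charDegree (C.cC : G → ℂ)) (g : G) :
    conj ((C.cA : G → ℂ) g) = (C.cA : G → ℂ) g := by
  classical
  have key : ∀ ψ : IrrCharacter G, charDegree (ψ : G → ℂ) = charDegree (C.cA : G → ℂ) →
      (ψ : G → ℂ) x = C.α → ψ = C.cA := by
    intro ψ hd hv
    by_contra hne
    have h := C.sum_val (fun χ => if χ = ψ then 1 else 0)
    simp only [ite_mul, one_mul, zero_mul, Finset.sum_ite_eq', Finset.mem_univ, if_true] at h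
    have n1 : principalIrr G ≠ ψ := fun e => hA1 (by rw [← hd, ← e, deg_one])
    have n2 : C.cB ≠ ψ := fun e => hAB (by rw [← hd, ← e])
    have n3 : C.cC ≠ ψ := fun e => hAC (by rw [← hd, ← e])
    have n4 : C.cD ≠ ψ := fun e => hAC (by rw [← hd, ← e, C.degD])
    rw [hv, if_neg n1, if_neg (Ne.symm hne), if_neg n2, if_neg n3, if_neg n4] at h
    rcases C.hα with e | e <;> rw [e] at h <;> norm_num at h
  have h := key (conjIrr C.cA) (charDegree_conjIrr _) (by rw [conjIrr_apply, C.vA, map_intCast])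
  rw [← conjIrr_apply, h]

theorem dvd_pairs (hx : orderOf x = 7) (hC : Nat.card (Subgroup.centralizer ({x} : Set G)) = 7)
    (h2 : IsConj x (x ^ 2)) {g : G} (hg1 : g ≠ 1) (hg : OffClass x g) (h : G) :
    7 ∣ (pairs g h ({x⁻¹} : Finset G)).card := by
  classical
  have hmem : ∀ a : G × G, a ∈ pairs g h ({x⁻¹} : Finset G) ↔
      IsConj g a.1 ∧ IsConj h a.2 ∧ a.1 * a.2 = x⁻¹ := fun a => by
    simp only [pairs, Finset.mem_filter, Finset.mem_product, mem_cls, Finset.mem_singleton, and_assoc]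
  let f : G × G → G × G := fun a => (x * a.1 * x⁻¹, x * a.2 * x⁻¹)
  have hf : ∀ a, a ∈ pairs g h ({x⁻¹} : Finset G) → f a ∈ pairs g h ({x⁻¹} : Finset G) := by
    intro a ha
    obtain ⟨h1, h2, h3⟩ := (hmem a).1 ha
    refine (hmem _).2 ⟨h1.trans (isConj_iff.2 ⟨x, rfl⟩), h2.trans (isConj_iff.2 ⟨x, rfl⟩), ?_⟩
    calc x * a.1 * x⁻¹ * (x * a.2 * x⁻¹) = x * (a.1 * a.2) * x⁻¹ := by group
      _ = x⁻¹ := by rw [h3]; group
  let g' : G × G → G × G := fun a => (x⁻¹ * a.1 * x, x⁻¹ * a.2 * x)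
  have hg' : ∀ a, a ∈ pairs g h ({x⁻¹} : Finset G) → g' a ∈ pairs g h ({x⁻¹} : Finset G) := by
    intro a ha
    obtain ⟨h1, h2, h3⟩ := (hmem a).1 ha
    refine (hmem _).2 ⟨h1.trans (isConj_iff.2 ⟨x⁻¹, by simp [g']⟩),
      h2.trans (isConj_iff.2 ⟨x⁻¹, by simp [g']⟩), ?_⟩
    calc x⁻¹ * a.1 * x * (x⁻¹ * a.2 * x) = x⁻¹ * (a.1 * a.2) * x := by group
      _ = x⁻¹ := by rw [h3]; group
  let σ : Equiv.Perm {a // a ∈ pairs g h ({x⁻¹} : Finset G)} :=
    { toFun := fun a => ⟨f a, hf a a.2⟩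
      invFun := fun a => ⟨g' a, hg' a a.2⟩
      left_inv := fun a => Subtype.ext (by simp [f, g', mul_assoc])
      right_inv := fun a => Subtype.ext (by simp [f, g', mul_assoc]) }
  have hpow : ∀ (i : ℕ) a, ((σ ^ i) a : G × G) =
      (x ^ i * (a : G × G).1 * (x ^ i)⁻¹, x ^ i * (a : G × G).2 * (x ^ i)⁻¹) := by
    intro i
    induction i with
    | zero => intro a; simp
    | succ i ih =>
      intro a
      rw [pow_succ', Equiv.Perm.mul_apply]
      show f ((σ ^ i) a) = _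
      rw [ih]
      simp only [f, pow_succ', mul_inv_rev, mul_assoc]
  have : Fact (Nat.Prime 7) := ⟨by norm_num⟩
  have hσ : σ ^ 7 ^ 1 = 1 := Equiv.ext fun a => Subtype.ext (by
    rw [pow_one, hpow, ← hx, pow_orderOf_eq_one]; simp)
  have h0 := Equiv.Perm.card_compl_support_modEq hσ
  have hfix : σ.supportᶜ = ∅ := by
    refine Finset.eq_empty_iff_forall_notMem.2 fun a ha => ?_
    rw [Finset.mem_compl, Equiv.Perm.notMem_support] at ha
    obtain ⟨h1, -, -⟩ := (hmem a).1 a.2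
    have e : x * (a : G × G).1 * x⁻¹ = (a : G × G).1 := (congrArg (fun b : {a // a ∈ pairs g h ({x⁻¹} : Finset G)} => (b : G × G).1) ha : _)
    have hc : (a : G × G).1 ∈ Subgroup.centralizer ({x} : Set G) :=
      Subgroup.mem_centralizer_singleton_iff.2 (mul_inv_eq_iff_eq_mul.1 e).symm
    have hz : Subgroup.zpowers x = Subgroup.centralizer ({x} : Set G) :=
      Subgroup.eq_of_le_of_card_ge (Subgroup.zpowers_le.2 (Subgroup.mem_centralizer_singleton_iff.2 rfl))
        (by rw [Nat.card_zpowers, hx, hC])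
    rw [← hz] at hc
    obtain ⟨i, hi⟩ := mem_powers_iff_mem_zpowers.2 hc
    simp only at hi
    rw [← hi, ← pow_mod_orderOf, hx] at h1
    have h4 : IsConj x (x ^ 4) := by
      obtain ⟨c, hc⟩ := isConj_iff.1 h2
      refine isConj_iff.2 ⟨c * c, ?_⟩
      calc c * c * x * (c * c)⁻¹ = c * (c * x * c⁻¹) * c⁻¹ := by group
        _ = x ^ 4 := by rw [hc, ← conj_pow, hc, ← pow_mul]
    have hinv : ∀ k l : ℕ, k + l = 7 → x ^ l = (x ^ k)⁻¹ := fun k l hkl =>
      eq_inv_of_mul_eq_one_right (by rw [← pow_add, hkl, ← hx, pow_orderOf_eq_one])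
    have hI : ∀ k : ℕ, IsConj x (x ^ k) → IsConj x⁻¹ (x ^ k)⁻¹ := fun k hk => by
      obtain ⟨c, hc⟩ := isConj_iff.1 hk
      exact isConj_iff.2 ⟨c, by rw [← conj_inv, hc]⟩
    have := Nat.mod_lt i (show 7 > 0 by norm_num)
    interval_cases i % 7
    · rw [pow_zero] at h1
      exact hg1 (isConj_one_left.1 h1)
    · exact hg.1 (by simpa using h1)
    · exact hg.1 (h1.trans h2.symm)
    · exact hg.2 (h1.trans (by rw [hinv 4 3 rfl]; exact (hI 4 h4).symm))
    · exact hg.1 (h1.trans h4.symm)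
    · exact hg.2 (h1.trans (by rw [hinv 2 5 rfl]; exact (hI 2 h2).symm))
    · exact hg.2 (h1.trans (by rw [hinv 1 6 rfl, pow_one]))
  rw [hfix, Finset.card_empty, Fintype.card_coe] at h0
  exact Nat.modEq_zero_iff_dvd.1 h0.symm

theorem count (g h : G) :
    ((pairs g h ({x⁻¹} : Finset G)).card : ℂ) * Nat.card (Subgroup.centralizer ({g} : Set G)) *
        Nat.card (Subgroup.centralizer ({h} : Set G)) =
      (Nat.card G : ℂ) + C.α * cofDegree C.cA * ((C.cA : G → ℂ) g * (C.cA : G → ℂ) h) +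
        C.β * cofDegree C.cB * ((C.cB : G → ℂ) g * (C.cB : G → ℂ) h) +
        C.s * eta * (cofDegree C.cC * ((C.cC : G → ℂ) g * (C.cC : G → ℂ) h)) +
        C.s * conj eta * (cofDegree C.cC * ((C.cD : G → ℂ) g * (C.cD : G → ℂ) h)) := by
  rw [card_pairs_mul_centralizers]
  simp only [Finset.sum_singleton, inv_inv, ← mul_assoc]
  rw [C.sum_val]
  have h1 : cofDegree (principalIrr G) = Nat.card G := by rw [cofDegree, deg_one, Nat.div_one]
  have h2 : cofDegree C.cD = cofDegree C.cC := by rw [cofDegree, cofDegree, C.degD]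
  rw [h1, h2, principalIrr_apply, principalIrr_apply]
  ring

/-- The column with the two rational characters exchanged. -/
def swap (C : SevenColumn x) : SevenColumn x where
  cA := C.cB
  cB := C.cA
  cC := C.cC
  cD := C.cD
  α := C.β
  β := C.α
  s := C.s
  hα := C.hβ
  hβ := C.hα
  hs := C.hs
  nA := C.nB
  nB := C.nA
  nC := C.nC
  nAB := C.nAB.symm
  vA := C.vB
  vB := C.vA
  vC := C.vC
  vD := C.vD
  degD := C.degD
  mA := C.mB
  mB := C.mA
  mC := C.mC
  sum_val F := by rw [C.sum_val]; ring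
  hsq := by obtain ⟨k, hk⟩ := C.hsq; exact ⟨k, by rw [hk]; ring⟩
  hnorm g := by have := C.hnorm g; linarith

end SevenColumn

theorem degree_cases : ∀ A ∈ (Nat.divisors 6048).filter (fun d => 2 ≤ d ∧ d < 78 ∧ (d % 7 = 1 ∨ d % 7 = 6)),
    ∀ B ∈ (Nat.divisors 6048).filter (fun d => 2 ≤ d ∧ d < 78 ∧ (d % 7 = 1 ∨ d % 7 = 6)),
    ∀ C ∈ (Nat.divisors 6048).filter (fun d => 2 ≤ d ∧ d < 56 ∧ (d % 7 = 3 ∨ d % 7 = 4)),
    1 + A ^ 2 + B ^ 2 + 2 * C ^ 2 ≤ 6048 → (6048 - (1 + A ^ 2 + B ^ 2 + 2 * C ^ 2)) % 49 = 0 →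
    1 + (if A % 7 = 1 then (1 : ℤ) else -1) * A + (if B % 7 = 1 then (1 : ℤ) else -1) * B -
      (if C % 7 = 3 then (1 : ℤ) else -1) * C = 0 →
    ((A = 6 ∧ B = 8) ∨ (A = 8 ∧ B = 6)) ∧ C = 3 ∨ ((A = 6 ∧ B = 27) ∨ (A = 27 ∧ B = 6)) ∧ C = 32 ∨
      ((A = 8 ∧ B = 27) ∨ (A = 27 ∧ B = 8)) ∧ C = 18 := by
  decide +kernel

theorem exponent_three (hno9 : ∀ g : G, orderOf g ≠ 9) {P : Subgroup G} (hP : Nat.card P = 27)
    {g : G} (hg : g ∈ P) (h1 : g ≠ 1) : orderOf g = 3 := by
  have h := orderOf_dvd_natCard (⟨g, hg⟩ : P)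
  rw [Subgroup.orderOf_mk, hP] at h
  obtain ⟨i, hi, e⟩ := (Nat.dvd_prime_pow Nat.prime_three).1 (show orderOf g ∣ 3 ^ 3 by simpa using h)
  interval_cases i
  · exact absurd (orderOf_eq_one_iff.1 (by simpa using e)) h1
  · simpa using e
  · exact absurd (by simpa using e) (hno9 g)
  · refine absurd ?_ (hno9 (g ^ 3))
    rw [orderOf_pow' g (by norm_num), e]; rfl

/-- A character value at an element of order 3 that is real. -/
theorem three_value (χ : IrrCharacter G) {g : G} (hg : orderOf g = 3)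
    (hreal : conj ((χ : G → ℂ) g) = (χ : G → ℂ) g) :
    ∃ (k : ℤ) (m : ℕ), (χ : G → ℂ) g = k ∧ 2 * k + charDegree (χ : G → ℂ) = 3 * m := by
  obtain ⟨m, hm⟩ := triv_mult χ g
  rw [hg] at hm
  simp only [Finset.sum_range_succ, Finset.sum_range_zero, zero_add, pow_zero, pow_one] at hm
  rw [(degree_eq χ).1, show g ^ 2 = g⁻¹ from eq_inv_of_mul_eq_one_right (by
    rw [← pow_succ', show 2 + 1 = orderOf g from hg.symm, pow_orderOf_eq_one]), irr_apply_inv,
    hreal] at hm
  obtain ⟨k, hk, hk2⟩ := exists_int_of_mul_eq (irr_isIntegral χ g) (n := 2) (by norm_num)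
    (a := 3 * (m : ℤ) - charDegree (χ : G → ℂ)) (by push_cast at hm ⊢; linear_combination hm)
  exact ⟨k, m, hk, by push_cast at hk2; linarith⟩

/-- The four characters and their relations. -/
structure Table (x : G) where
  c6 : IrrCharacter G
  c27 : IrrCharacter G
  c32 : IrrCharacter G
  d6 : charDegree (c6 : G → ℂ) = 6
  d27 : charDegree (c27 : G → ℂ) = 27
  n6 : c6 ≠ principalIrr G
  real6 : ∀ g, conj ((c6 : G → ℂ) g) = (c6 : G → ℂ) g
  real27 : ∀ g, conj ((c27 : G → ℂ) g) = (c27 : G → ℂ) g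
  rel : ∀ g, OffClass x g → (c32 : G → ℂ) g = (c6 : G → ℂ) g + (c27 : G → ℂ) g - 1
  count : ∀ g h, g ≠ 1 → OffClass x g → OffClass x h → ∃ k : ℕ,
    (k : ℂ) * Nat.card (Subgroup.centralizer ({g} : Set G)) *
      Nat.card (Subgroup.centralizer ({h} : Set G)) =
    864 - 144 * ((c6 : G → ℂ) g * (c6 : G → ℂ) h) - 32 * ((c27 : G → ℂ) g * (c27 : G → ℂ) h) +
      27 * ((c32 : G → ℂ) g * (c32 : G → ℂ) h)
  norm_le : ∀ g, OffClass x g →
    1 + ‖(c6 : G → ℂ) g‖ ^ 2 + ‖(c27 : G → ℂ) g‖ ^ 2 + 2 * ‖(c32 : G → ℂ) g‖ ^ 2 ≤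
      (Nat.card (Subgroup.centralizer ({g} : Set G)) : ℝ)

set_option maxHeartbeats 800000 in
theorem exists_table [IsSimpleGroup G] (hG : Nat.card G = 6048) (hno9 : ∀ g : G, orderOf g ≠ 9) :
    ∃ x : G, orderOf x = 7 ∧ Nonempty (Table x) := by
  classical
  have hnc : ¬ IsMulCommutative G := Small.nc_of_not_prime (by rw [hG]; norm_num)
  obtain ⟨x, hx, hC, h2, h3⟩ := seven_data hG
  refine ⟨x, hx, ?_⟩
  obtain ⟨C⟩ := exists_sevenColumn hx hC h2 h3
  have hd : ∀ χ : IrrCharacter G, χ ≠ principalIrr G →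
      2 ≤ charDegree (χ : G → ℂ) ∧ charDegree (χ : G → ℂ) ∣ 6048 := fun χ hχ => by
    refine ⟨?_, hG ▸ (degree_eq χ).2.1⟩
    have := (degree_eq χ).2.2
    by_contra hle
    exact hχ (Order7920.eq_principal_of_charDegree_one hnc (by omega))
  have hone : OffClass x (1 : G) := offClass_of_orderOf hx (by rw [orderOf_one]; norm_num)
  have hrel := C.deg_rel hx
  obtain ⟨k, hk⟩ := C.hsq
  rw [hG] at hk
  obtain ⟨hA1, hA2⟩ := hd _ C.nA
  obtain ⟨hB1, hB2⟩ := hd _ C.nB
  obtain ⟨hC1, hC2⟩ := hd _ C.nC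
  have hmA := C.mA; have hmB := C.mB; have hmC := C.mC
  set A := charDegree (C.cA : G → ℂ) with hA
  set B := charDegree (C.cB : G → ℂ) with hB
  set D := charDegree (C.cC : G → ℂ) with hD
  have hcases := degree_cases A (Finset.mem_filter.2 ⟨Nat.mem_divisors.2 ⟨hA2, by norm_num⟩, hA1,
      by nlinarith, by rcases C.hα with e | e <;> rw [e] at hmA <;> omega⟩)
    B (Finset.mem_filter.2 ⟨Nat.mem_divisors.2 ⟨hB2, by norm_num⟩, hB1,
      by nlinarith, by rcases C.hβ with e | e <;> rw [e] at hmB <;> omega⟩)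
    D (Finset.mem_filter.2 ⟨Nat.mem_divisors.2 ⟨hC2, by norm_num⟩, hC1,
      by nlinarith, by rcases C.hs with e | e <;> rw [e] at hmC <;> omega⟩)
    (by omega) (by omega) (by
      rw [show (if A % 7 = 1 then (1 : ℤ) else -1) = C.α by
          rcases C.hα with e | e <;> rw [e] at hmA ⊢ <;> split_ifs <;> omega,
        show (if B % 7 = 1 then (1 : ℤ) else -1) = C.β by
          rcases C.hβ with e | e <;> rw [e] at hmB ⊢ <;> split_ifs <;> omega,
        show (if D % 7 = 3 then (1 : ℤ) else -1) = C.s by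
          rcases C.hs with e | e <;> rw [e] at hmC ⊢ <;> split_ifs <;> omega]
      exact hrel)
  -- reduce to an ordered pair of degrees
  suffices key : ∀ C : SevenColumn x,
      (charDegree (C.cA : G → ℂ) = 6 ∧ charDegree (C.cB : G → ℂ) = 8 ∧ charDegree (C.cC : G → ℂ) = 3) ∨
      (charDegree (C.cA : G → ℂ) = 6 ∧ charDegree (C.cB : G → ℂ) = 27 ∧ charDegree (C.cC : G → ℂ) = 32) ∨
      (charDegree (C.cA : G → ℂ) = 8 ∧ charDegree (C.cB : G → ℂ) = 27 ∧ charDegree (C.cC : G → ℂ) = 18) →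
      Nonempty (Table x) by
    rcases hcases with ⟨⟨a, b⟩ | ⟨a, b⟩, c⟩ | ⟨⟨a, b⟩ | ⟨a, b⟩, c⟩ | ⟨⟨a, b⟩ | ⟨a, b⟩, c⟩
    · exact key C (Or.inl ⟨a, b, c⟩)
    · exact key C.swap (Or.inl ⟨b, a, c⟩)
    · exact key C (Or.inr (Or.inl ⟨a, b, c⟩))
    · exact key C.swap (Or.inr (Or.inl ⟨b, a, c⟩))
    · exact key C (Or.inr (Or.inr ⟨a, b, c⟩))
    · exact key C.swap (Or.inr (Or.inr ⟨b, a, c⟩))
  intro C hcs
  have hmA := C.mA; have hmB := C.mB; have hmC := C.mC
  have hrealA : ∀ g, conj ((C.cA : G → ℂ) g) = (C.cA : G → ℂ) g :=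
    C.real_of_degree (by omega) (by omega) (by omega)
  have hrealB : ∀ g, conj ((C.cB : G → ℂ) g) = (C.cB : G → ℂ) g :=
    C.swap.real_of_degree (show charDegree (C.cB : G → ℂ) ≠ 1 by omega)
      (show charDegree (C.cB : G → ℂ) ≠ charDegree (C.cA : G → ℂ) by omega)
      (show charDegree (C.cB : G → ℂ) ≠ charDegree (C.cC : G → ℂ) by omega)
  rcases hcs with ⟨a, b, c⟩ | ⟨a, b, c⟩ | ⟨a, b, c⟩
  · -- degrees 6, 8, 3
    exfalso
    obtain ⟨hα, hβ, hs⟩ : C.α = -1 ∧ C.β = 1 ∧ C.s = 1 := by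
      rw [a] at hmA; rw [b] at hmB; rw [c] at hmC
      refine ⟨?_, ?_, ?_⟩
      · rcases C.hα with e | e <;> rw [e] at hmA <;> omega
      · rcases C.hβ with e | e <;> rw [e] at hmB <;> omega
      · rcases C.hs with e | e <;> rw [e] at hmC <;> omega
    have : Fact (Nat.Prime 3) := ⟨Nat.prime_three⟩
    obtain ⟨P⟩ := (inferInstance : Nonempty (Sylow 3 G))
    have hP : Nat.card (P : Subgroup G) = 27 := by
      simpa using Small.card_sylow_of_card_eq (k := 3) (m := 224) (by rw [hG]; norm_num) (by norm_num) P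
    have hval : ∀ g ∈ (P : Subgroup G), g ≠ 1 → (C.cC : G → ℂ) g = 0 := by
      intro g hg h1
      have ho := exponent_three hno9 hP hg h1
      have hr := (C.rel (offClass_of_orderOf hx (by rw [ho]; norm_num) : OffClass x g)).2
      rw [hα, hβ, hs] at hr
      have hr' := congrArg conj hr
      simp only [map_add, map_sub, map_mul, map_one, map_intCast, hrealA, hrealB, map_zero] at hr'
      obtain ⟨k, m, hk, hkm⟩ := three_value C.cC ho (by push_cast at hr hr'; linear_combination hr - hr')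
      rw [c] at hkm
      have hle := norm_le_degree_of_isCharacter (irr_isCharacter C.cC) g
      rw [(degree_eq C.cC).1, c, hk, Complex.norm_intCast, Complex.norm_natCast] at hle
      have hle' : |k| ≤ 3 := by exact_mod_cast hle
      rw [abs_le] at hle'
      rcases (show k = 0 ∨ k = 3 ∨ k = -3 by omega) with e | e | e
      · rw [hk, e, Int.cast_zero]
      · refine absurd (Order7920.eq_one_of_apply_eq_one C.nC (v := g) ?_) h1
        rw [(degree_eq C.cC).1, c, hk, e]; norm_num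
      · exfalso
        rw [hk, e] at hr
        have hrA := (hrealA g)
        obtain ⟨k1, m1, hk1, hkm1⟩ := three_value C.cA ho (hrealA g)
        obtain ⟨k2, m2, hk2, hkm2⟩ := three_value C.cB ho (hrealB g)
        omega
    haveI : Fintype (P : Subgroup G) := Fintype.ofFinite _
    obtain ⟨m, hm⟩ := twisted_mult C.cC (P : Subgroup G) 1
    simp only [MonoidHom.one_apply, Units.val_one, mul_one] at hm
    rw [Finset.sum_eq_single (1 : (P : Subgroup G)) (fun g _ hg => hval g g.2 fun e => hg (Subtype.ext e))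
      (by simp), OneMemClass.coe_one, (degree_eq C.cC).1, c, hP] at hm
    have : (3 : ℕ) = 27 * m := by exact_mod_cast hm
    omega
  · -- degrees 6, 27, 32
    obtain ⟨hα, hβ, hs⟩ : C.α = -1 ∧ C.β = -1 ∧ C.s = -1 := by
      rw [a] at hmA; rw [b] at hmB; rw [c] at hmC
      refine ⟨?_, ?_, ?_⟩
      · rcases C.hα with e | e <;> rw [e] at hmA <;> omega
      · rcases C.hβ with e | e <;> rw [e] at hmB <;> omega
      · rcases C.hs with e | e <;> rw [e] at hmC <;> omega
    refine ⟨{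
      c6 := C.cA, c27 := C.cB, c32 := C.cC, d6 := a, d27 := b, n6 := C.nA
      real6 := hrealA, real27 := hrealB
      rel := fun g hg => ?_
      count := fun g h hg1 hg hh => ?_
      norm_le := fun g hg => ?_ }⟩
    · have hr := (C.rel hg).2
      rw [hα, hβ, hs] at hr
      push_cast at hr
      linear_combination hr
    · obtain ⟨k, hk⟩ := SevenColumn.dvd_pairs hx hC h2 hg1 hg h
      refine ⟨k, ?_⟩
      have hcnt := C.count g h
      rw [hk, (C.rel hg).1, (C.rel hh).1, hα, hβ, hs, hG, cofDegree, cofDegree, cofDegree, a, b, c,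
        hG] at hcnt
      norm_num at hcnt
      simp only [← Nat.card_eq_fintype_card] at hcnt
      linear_combination (1 / 7 : ℂ) * hcnt -
        (1 / 7 : ℂ) * 189 * ((C.cC : G → ℂ) g * (C.cC : G → ℂ) h) * eta_add
    · have h := C.hnorm g
      rw [(C.rel hg).1] at h
      linarith
  · -- degrees 8, 27, 18
    exfalso
    obtain ⟨hα, hβ, hs⟩ : C.α = 1 ∧ C.β = -1 ∧ C.s = -1 := by
      rw [a] at hmA; rw [b] at hmB; rw [c] at hmC
      refine ⟨?_, ?_, ?_⟩
      · rcases C.hα with e | e <;> rw [e] at hmA <;> omega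
      · rcases C.hβ with e | e <;> rw [e] at hmB <;> omega
      · rcases C.hs with e | e <;> rw [e] at hmC <;> omega
    have : Fact (Nat.Prime 2) := ⟨Nat.prime_two⟩
    obtain ⟨t, ht⟩ := exists_prime_orderOf_dvd_card' (G := G) 2 (by rw [hG]; norm_num)
    have ht1 : t ≠ 1 := fun e => by rw [e, orderOf_one] at ht; omega
    have hoff : OffClass x t := offClass_of_orderOf hx (by rw [ht]; norm_num)
    have hempty : (pairs t t ({x⁻¹} : Finset G)).card = 0 := by
      rw [Finset.card_eq_zero, Finset.eq_empty_iff_forall_notMem]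
      intro z hz
      obtain ⟨hz1, hz2⟩ := Finset.mem_filter.1 hz
      obtain ⟨hu, hv⟩ := Finset.mem_product.1 hz1
      rw [Finset.mem_singleton] at hz2
      have hinv : ∀ v, IsConj t v → v⁻¹ = v := by
        intro v hv
        obtain ⟨c, rfl⟩ := isConj_iff.1 hv
        rw [conj_inv, inv_eq_of_mul_eq_one_right (show t * t = 1 by
          rw [← pow_two, ← ht, pow_orderOf_eq_one])]
      refine h3 (IsConj.symm (isConj_iff.2 ⟨z.1, ?_⟩))
      rw [hinv _ (mem_cls.1 hu), ← hz2]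
      calc z.1 * (z.1 * z.2) * z.1 = (z.1 * z.1) * (z.2 * z.1) := by group
        _ = (z.1 * z.2)⁻¹⁻¹⁻¹ := by
          conv_lhs => rw [show z.1 * z.1 = 1 by nth_rw 1 [← hinv _ (mem_cls.1 hu)]; rw [inv_mul_cancel]]
          rw [one_mul, inv_inv, mul_inv_rev, hinv _ (mem_cls.1 hu), hinv _ (mem_cls.1 hv)]
        _ = x := by rw [hz2]; simp
    have hreal : ∀ χ : IrrCharacter G, ∃ r : ℝ, (χ : G → ℂ) t = r := fun χ =>
      ⟨_, (Complex.conj_eq_iff_re.1 (conj_involution χ (by rw [← ht, pow_orderOf_eq_one]))).symm⟩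
    obtain ⟨av, hav⟩ := hreal C.cA
    obtain ⟨bv, hbv⟩ := hreal C.cB
    obtain ⟨hcd, hr⟩ := C.rel hoff
    have hcnt := C.count t t
    rw [hcd, hempty, hα, hβ, hs, cofDegree, cofDegree, cofDegree, a, b, c, hG, hav, hbv] at hcnt
    rw [hα, hβ, hs, hav, hbv] at hr
    norm_num at hcnt
    push_cast at hr
    have hc : (C.cC : G → ℂ) t = (bv : ℂ) - av - 1 := by linear_combination hr
    rw [hc] at hcnt
    have e : ((4 * (bv - 3 * (av + 1)) ^ 2 + 3 * (av - 8) ^ 2 : ℝ) : ℂ) = ((0 : ℝ) : ℂ) := by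
      push_cast
      linear_combination (-(1 / 28 : ℂ)) * hcnt + 12 * ((bv : ℂ) - av - 1) ^ 2 * eta_add
    have e' := Complex.ofReal_inj.1 e
    have ha8 : av = 8 := by nlinarith [sq_nonneg (bv - 3 * (av + 1)), sq_nonneg (av - 8)]
    refine ht1 (Order7920.eq_one_of_apply_eq_one C.nA ?_)
    rw [(degree_eq C.cA).1, a, hav, ha8]; norm_num

end CfsgLib.Recog.U33Unique
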