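import Cfsg.Agent.S1057
import Cfsg.Agent.Lib.Recog.SpectrumSU3
import Cfsg.Agent.Lib.Recog.U33Unique.Degrees

/-!
Element orders excluded in `G₂(2)`.
-/

set_option autoImplicit false

noncomputable section

namespace CfsgLib.Recog.U33Unique

open Cfsg Cfsg.Lie Matrix CfsgLib.GTwoTwo

/-- Indices of vectors summing to a coordinate vector. -/
def unitSupport : Fin 14 → List (Fin 63) :=
  ![[1, 2, 7, 9, 18, 26], [1, 2, 4, 9, 11, 12, 18, 26], [0, 1, 4, 12, 22, 26], [0, 1, 4, 12, 26],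
    [0, 1, 2, 11, 13, 18, 26, 29], [0, 2, 9, 11, 18, 22, 26, 29], [2, 4, 13, 17, 18, 22, 26, 29],
    [0, 1, 4, 12, 13, 22, 26], [11, 17], [4, 7, 9, 11, 12, 18, 26, 29],
    [1, 2, 4, 7, 9, 11, 17, 18], [0, 1, 7, 9, 11, 13, 17, 18, 22, 26, 29], [1, 7, 26], [17]]

/-- The number of a coordinate. -/
def coordNum : chevG2.Idx → Fin 14
  | Sum.inl i => ⟨i.val, lt_of_lt_of_le i.2 (by decide)⟩
  | Sum.inr u => ⟨2 + u.val, by have : u.val < 12 := u.2; omega⟩

theorem unitSupport_spec : ∀ j : chevG2.Idx,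
    ((unitSupport (coordNum j)).map GTwoTwo.vec).sum = Pi.single j 1 := by
  decide +kernel

/-- A faithful action of `G₂(2)` on sixty-three vectors. -/
theorem exists_faithful : ∃ α : chevG2.group (ZMod 2) →* Equiv.Perm (Fin 63),
    Function.Injective α ∧ ∀ r, rootPerm r ∈ α.range := by
  obtain ⟨α₀, hα₀⟩ := Cfsg.Agent.S1057.exists_alpha
  let M : Subgroup (GL chevG2.Idx (ZMod 2)) :=
    { carrier := {g | ∃ σ : Equiv.Perm (Fin 63), ∀ i, Matrix.vecMul (GTwoTwo.vec (σ i)) (g : Matrix _ _ _) = GTwoTwo.vec i}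
      one_mem' := ⟨1, fun i => by simp⟩
      mul_mem' := by
        rintro g k ⟨σ, hσ⟩ ⟨τ, hτ⟩
        exact ⟨σ * τ, fun i => by
          rw [Units.val_mul, ← Matrix.vecMul_vecMul, Equiv.Perm.mul_apply, hσ, hτ]⟩
      inv_mem' := by
        rintro g ⟨σ, hσ⟩
        refine ⟨σ⁻¹, fun i => ?_⟩
        conv_lhs => rw [← hσ (σ⁻¹ i)]
        simp only [Matrix.vecMul_vecMul, ← Units.val_mul, mul_inv_cancel, Units.val_one,
          Matrix.vecMul_one]
        simp }
  have hu : ∀ r : Fin 12, IsUnit (chevG2.xMat (ZMod 2) (r : Fin 12) 1) := fun r => by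
    have := CfsgLib.Chev.isUnit_x (D := chevG2) (by simp [CfsgLib.Chev.tabulated]) r.val (1 : ZMod 2)
    rw [ChevalleyDatum.x, dif_pos (show r.val < chevG2.nroots from r.isLt)] at this
    exact this
  have hle : chevG2.group (ZMod 2) ≤ M := by
    refine (Subgroup.closure_le _).2 fun g ⟨r, t, hg⟩ => ?_
    rcases ((by decide : ∀ u : ZMod 2, u = 0 ∨ u = 1) t) with rfl | rfl
    · exact ⟨1, fun i => by rw [hg, show chevG2.xMat (ZMod 2) r 0 = 1 from Cfsg.Agent.S1057.xMat_zero r]; simp⟩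
    · exact ⟨rootPerm r, fun i => by rw [hg]; exact Cfsg.Agent.S1057.rootPerm_spec r i⟩
  choose σ hσ using fun g : chevG2.group (ZMod 2) => hle g.2
  have huniq : ∀ (g : chevG2.group (ZMod 2)) (π : Equiv.Perm (Fin 63)),
      (∀ i, Matrix.vecMul (GTwoTwo.vec (π i)) ((g : GL chevG2.Idx (ZMod 2)) : Matrix _ _ _) = GTwoTwo.vec i) →
        σ g = π := by
    intro g π hπ
    refine Equiv.ext fun i => vec_injective ?_
    exact Matrix.vecMul_injective_of_isUnit (Units.isUnit _) ((hσ g i).trans (hπ i).symm)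
  refine ⟨MonoidHom.mk' σ fun g k => huniq _ _ fun i => by
    simp only [Subgroup.coe_mul, Units.val_mul, ← Matrix.vecMul_vecMul, Equiv.Perm.mul_apply, hσ],
    ?_, fun r => ?_⟩
  · rw [injective_iff_map_eq_one]
    intro g hg
    have hfix : ∀ i, Matrix.vecMul (GTwoTwo.vec i) ((g : GL chevG2.Idx (ZMod 2)) : Matrix _ _ _) =
        GTwoTwo.vec i := fun i => by
      have h1 : σ g = 1 := hg
      have h := hσ g i
      rwa [h1, Equiv.Perm.one_apply] at h
    refine Subtype.ext (Units.ext (Matrix.ext fun j k => ?_))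
    have hl : ∀ l : List (Fin 63),
        Matrix.vecMul (l.map GTwoTwo.vec).sum ((g : GL chevG2.Idx (ZMod 2)) : Matrix _ _ _) =
          (l.map GTwoTwo.vec).sum := by
      intro l
      induction l with
      | nil => simp
      | cons a l ih => rw [List.map_cons, List.sum_cons, Matrix.add_vecMul, ih, hfix]
    have h := congrFun (hl (unitSupport (coordNum j))) k
    rw [unitSupport_spec, Matrix.single_one_vecMul] at h
    rw [show ((1 : chevG2.group (ZMod 2)) : GL chevG2.Idx (ZMod 2)) = 1 from rfl, Units.val_one,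
      Matrix.one_apply, ← Pi.single_apply]
    rw [Pi.single_comm]
    exact h
  · exact ⟨⟨(hu r).unit, Subgroup.subset_closure ⟨r, 1, (hu r).unit_spec⟩⟩, huniq _ _ fun i => by
      show Matrix.vecMul _ (((hu r).unit : GL chevG2.Idx (ZMod 2)) : Matrix chevG2.Idx chevG2.Idx (ZMod 2)) = _
      rw [(hu r).unit_spec]
      exact Cfsg.Agent.S1057.rootPerm_spec r i⟩

theorem inverting_pair :
    (perm0 * perm4 * perm9) ^ 7 = 1 ∧ perm0 * perm4 * perm9 ≠ 1 ∧
      perm9 * (perm0 * perm4 * perm9) = (perm0 * perm4 * perm9) ^ 6 * perm9 := by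
  decide +kernel

theorem centralizer_seven_gTwo : ∀ g : chevG2.group (ZMod 2), orderOf g ≠ 9 ∧ orderOf g ≠ 14 ∧ orderOf g ≠ 21 := by
  classical
  haveI : Fact (Nat.Prime 7) := ⟨by norm_num⟩
  haveI : Fact (Nat.Prime 3) := ⟨Nat.prime_three⟩
  have hGc : Nat.card (chevG2.group (ZMod 2)) = 12096 := by
    rw [Cfsg.Agent.S1059.result (F := ZMod 2) (ZMod.card 2)]; norm_num
  haveI : Finite (chevG2.group (ZMod 2)) := Nat.finite_of_card_ne_zero (by rw [hGc]; norm_num)
  haveI := Fintype.ofFinite (GaloisField 3 2)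
  have hK : Fintype.card (GaloisField 3 2) = 9 := by
    rw [← Nat.card_eq_fintype_card, GaloisField.card 3 2 (by norm_num)]; norm_num
  obtain ⟨e⟩ := Cfsg.Agent.S1057.result (F := ZMod 2) (K := GaloisField 3 2) (ZMod.card 2) hK
  set M' := commutator (chevG2.group (ZMod 2)) with hM'
  haveI : CharP (GaloisField 3 2) 3 := inferInstance
  obtain ⟨φ, hφ⟩ := Recog.SU33.exists_hom hK
  have hcP : Nat.card (Cfsg.PSU 3 (GaloisField 3 2) 3) = 6048 := by
    rw [Nat.card_congr (Recognition.PSU33.psuEquivSU φ).toEquiv, Recognition.PSU33.card_SU33 hK]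
  have hc : Nat.card M' = 6048 := (Nat.card_congr e.toEquiv).trans hcP
  have hidx : M'.index = 2 := by
    have := M'.card_mul_index
    rw [hc, hGc] at this
    omega
  have hord : ∀ h : M', orderOf h ∈ Recog.SU33.ords := fun h => by
    have hmem : orderOf (e h) ∈ Set.range (orderOf : Cfsg.PSU 3 (GaloisField 3 2) 3 → ℕ) := ⟨_, rfl⟩
    rw [Recog.SU33.range_orderOf_psu33 hK] at hmem
    rwa [MulEquiv.orderOf_eq] at hmem
  have hsq : ∀ g : chevG2.group (ZMod 2), g ^ 2 ∈ M' := fun g => by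
    have := Subgroup.pow_index_mem M' g
    rwa [hidx] at this
  have hodd : ∀ g : chevG2.group (ZMod 2), orderOf g ≠ 9 ∧ orderOf g ≠ 21 := by
    intro g
    have h := hord ⟨g ^ 2, hsq g⟩
    rw [Subgroup.orderOf_mk, orderOf_pow' g (by norm_num)] at h
    constructor <;> intro e' <;> rw [e'] at h <;> revert h <;> decide
  intro g
  refine ⟨(hodd g).1, fun hg => ?_, (hodd g).2⟩
  -- the centraliser of an element of order seven of `M'` in `M'`
  haveI := Fintype.ofFinite M'
  haveI : IsSimpleGroup M' := by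
    haveI : IsSimpleGroup (Cfsg.PSU 3 (GaloisField 3 2) 3) :=
      Cfsg.Agent.S0283.result (q := 3) (by rw [hK]; norm_num) 3 le_rfl (by norm_num)
    exact e.isSimpleGroup
  obtain ⟨α, hα, hroot⟩ := exists_faithful
  obtain ⟨X, hX⟩ : perm0 * perm4 * perm9 ∈ α.range := mul_mem (mul_mem (hroot 0) (hroot 4)) (hroot 9)
  obtain ⟨Y, hY⟩ : perm9 ∈ α.range := hroot 9
  have hX7 : X ^ 7 = 1 := hα (by rw [map_pow, hX, inverting_pair.1, map_one])
  have hX1 : X ≠ 1 := fun e' => inverting_pair.2.1 (by rw [← hX, e', map_one])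
  have hXY : Y * X = X ^ 6 * Y := hα (by
    rw [map_mul, map_mul, map_pow, hX, hY, inverting_pair.2.2])
  have hoX : orderOf X = 7 := orderOf_eq_prime hX7 hX1
  have hXm : X ∈ M' := by
    have h2 := pow_mem (hsq X) 4
    rwa [← pow_mul, show 2 * 4 = 7 + 1 from rfl, pow_succ, hX7, one_mul] at h2
  set P := Subgroup.zpowers X with hP
  set N := Subgroup.normalizer (P : Set (chevG2.group (ZMod 2))) with hN
  -- Sylow subgroups for the prime seven
  have hP7 : Nat.card P = 7 := by rw [hP, Nat.card_zpowers, hoX]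
  let Q : Sylow 7 (chevG2.group (ZMod 2)) := Sylow.ofCard P (by
    rw [hP7, hGc, show (12096 : ℕ) = 7 ^ 1 * 1728 from rfl,
      Nat.factorization_mul (by norm_num) (by norm_num), Finsupp.add_apply, Nat.factorization_pow,
      Finsupp.smul_apply, Nat.Prime.factorization_self (by norm_num),
      Nat.factorization_eq_zero_of_not_dvd (show ¬ 7 ∣ 1728 by norm_num)]
    norm_num)
  obtain ⟨x0, hx0, hC0, -, hno⟩ := seven_data hc
  -- the centraliser of `X` has odd order
  set C := Subgroup.centralizer ({X} : Set (chevG2.group (ZMod 2))) with hC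
  have hg7 : ∃ c : C, orderOf c = 2 := by
    -- move the square of `g` to a power of `X`
    let R : Sylow 7 (chevG2.group (ZMod 2)) := Sylow.ofCard (Subgroup.zpowers (g ^ 2)) (by
      rw [Nat.card_zpowers, orderOf_pow' g (by norm_num), hg, hGc,
        show (12096 : ℕ) = 7 ^ 1 * 1728 from rfl,
        Nat.factorization_mul (by norm_num) (by norm_num), Finsupp.add_apply, Nat.factorization_pow,
        Finsupp.smul_apply, Nat.Prime.factorization_self (by norm_num),
        Nat.factorization_eq_zero_of_not_dvd (show ¬ 7 ∣ 1728 by norm_num)]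
      norm_num)
    obtain ⟨d, hd⟩ := MulAction.exists_smul_eq (chevG2.group (ZMod 2)) R Q
    have hmap : (R : Subgroup (chevG2.group (ZMod 2))).map (MulAut.conj d).toMonoidHom = P := by
      have h := congrArg (fun S : Sylow 7 (chevG2.group (ZMod 2)) => (S : Subgroup (chevG2.group (ZMod 2)))) hd
      simp only [Sylow.coe_subgroup_smul] at h
      exact h
    change (Subgroup.zpowers (g ^ 2)).map (MulAut.conj d).toMonoidHom = P at hmap
    rw [MonoidHom.map_zpowers] at hmap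
    set u := d * g ^ 7 * d⁻¹ with hu
    have hu2 : orderOf u = 2 := by
      rw [hu, ← MulAut.conj_apply, MulEquiv.orderOf_eq, orderOf_pow' g (by norm_num), hg]
      norm_num
    have hmem : X ∈ Subgroup.zpowers (d * g ^ 2 * d⁻¹) := by
      rw [show d * g ^ 2 * d⁻¹ = (MulAut.conj d).toMonoidHom (g ^ 2) from rfl, hmap]
      exact Subgroup.mem_zpowers X
    obtain ⟨i, hi⟩ := Subgroup.mem_zpowers_iff.1 hmem
    refine ⟨⟨u, ?_⟩, by rw [Subgroup.orderOf_mk, hu2]⟩
    rw [hC, Subgroup.mem_centralizer_singleton_iff, ← hi]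
    have hc' : Commute u (d * g ^ 2 * d⁻¹) := by
      rw [hu, Commute, SemiconjBy]
      simp only [mul_assoc, inv_mul_cancel_left]
      rw [← mul_assoc (g ^ 7), ← mul_assoc (g ^ 2), ← pow_add, ← pow_add, add_comm]
    exact (hc'.zpow_right i).eq
  obtain ⟨⟨u, huC⟩, hu⟩ := hg7
  rw [Subgroup.orderOf_mk] at hu
  have huX : u * X = X * u := Subgroup.mem_centralizer_singleton_iff.1 huC
  -- in `M'` the element `X` is not conjugate to its inverse
  have hnoX : ¬ IsConj (⟨X, hXm⟩ : M') (⟨X, hXm⟩ : M')⁻¹ := by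
    intro hh
    have hcx0 : orderOf (⟨X, hXm⟩ : M') = 7 := by rw [Subgroup.orderOf_mk, hoX]
    have : Nat.card (Subgroup.zpowers x0) = 7 := by rw [Nat.card_zpowers, hx0]
    let S0 : Sylow 7 M' := Sylow.ofCard (Subgroup.zpowers x0) (by
      rw [this, hc, show (6048 : ℕ) = 7 ^ 1 * 864 from rfl,
        Nat.factorization_mul (by norm_num) (by norm_num), Finsupp.add_apply, Nat.factorization_pow,
        Finsupp.smul_apply, Nat.Prime.factorization_self (by norm_num),
        Nat.factorization_eq_zero_of_not_dvd (show ¬ 7 ∣ 864 by norm_num)]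
      norm_num)
    have hp : IsPGroup 7 (Subgroup.zpowers (⟨X, hXm⟩ : M')) :=
      IsPGroup.of_card (n := 1) (by rw [Nat.card_zpowers, hcx0, pow_one])
    obtain ⟨S, hS⟩ := hp.exists_le_sylow
    obtain ⟨d, hd⟩ := MulAction.exists_smul_eq M' S S0
    have hmem : d * (⟨X, hXm⟩ : M') * d⁻¹ ∈ Subgroup.zpowers x0 := by
      have h := congrArg (fun S : Sylow 7 M' => (S : Subgroup M')) hd
      simp only [Sylow.coe_subgroup_smul] at h
      show _ ∈ ((S0 : Subgroup M'))
      rw [← h]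
      exact ⟨⟨X, hXm⟩, hS (Subgroup.mem_zpowers _), rfl⟩
    obtain ⟨i, hi⟩ := mem_powers_iff_mem_zpowers.2 hmem
    simp only at hi
    have hi0 : i % 7 ≠ 0 := fun h0 => by
      rw [← pow_mod_orderOf, hx0, h0, pow_zero] at hi
      have := congrArg Subtype.val (conj_eq_one_iff.1 hi.symm)
      exact hX1 this
    obtain ⟨j, hj⟩ : ∃ j, (x0 ^ i) ^ j = x0 := by
      have hk : ∀ k < 7, k ≠ 0 → ∃ j < 7, k * j % 7 = 1 := by decide
      obtain ⟨j, -, hj⟩ := hk (i % 7) (Nat.mod_lt _ (by norm_num)) hi0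
      refine ⟨j, ?_⟩
      rw [Nat.mul_mod, Nat.mod_mod, ← Nat.mul_mod] at hj
      rw [← pow_mul, ← pow_mod_orderOf, hx0, hj, pow_one]
    refine hno ?_
    have h1 : IsConj (x0 ^ i) (x0 ^ i)⁻¹ := by
      rw [hi]
      obtain ⟨c, hc'⟩ := isConj_iff.1 hh
      exact ((IsConj.symm (isConj_iff.2 ⟨d, rfl⟩)).trans hh).trans
        (isConj_iff.2 ⟨d, by rw [conj_inv]⟩)
    obtain ⟨c, hc'⟩ := isConj_iff.1 h1
    refine isConj_iff.2 ⟨c, ?_⟩
    rw [← hj, ← conj_pow, hc', inv_pow]
  -- an element inverting `X` in `M'`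
  by_cases huM : u ∈ M'
  · have h2 := hord (⟨u, huM⟩ * ⟨X, hXm⟩)
    rw [show (⟨u, huM⟩ * ⟨X, hXm⟩ : M') = ⟨u * X, mul_mem huM hXm⟩ from rfl, Subgroup.orderOf_mk,
      (show Commute u X from huX).orderOf_mul_eq_mul_orderOf_of_coprime (by rw [hu, hoX]; norm_num),
      hu, hoX] at h2
    revert h2; decide
  · have hinv : ∀ c : chevG2.group (ZMod 2), c * X * c⁻¹ = X⁻¹ → c ∉ M' := fun c hc' hcm =>
      hnoX (isConj_iff.2 ⟨⟨c, hcm⟩, Subtype.ext hc'⟩)
    have hYinv : Y * X * Y⁻¹ = X⁻¹ := by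
      rw [hXY, mul_inv_cancel_right]
      exact eq_inv_of_mul_eq_one_right (by rw [← pow_succ']; exact hX7)
    refine hinv (Y * u) ?_ (((Subgroup.mul_mem_iff_of_index_two hidx).2
      ⟨fun h => absurd h (hinv Y hYinv), fun h => absurd h huM⟩))
    calc Y * u * X * (Y * u)⁻¹ = Y * (u * X * u⁻¹) * Y⁻¹ := by simp [mul_assoc]
      _ = X⁻¹ := by rw [huX, mul_inv_cancel_right, hYinv]

end CfsgLib.Recog.U33Unique
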