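import Mathlib

/-!
The finite search behind the non-existence of a simple group of order 12096 with a self-centralising
Sylow 7-subgroup.
-/

set_option autoImplicit false

namespace CfsgLib.Recog.U33Unique.Order12096

/-- A degree, the value at an element of order 7 and the value at an inverting involution. -/
abbrev CharType := ℕ × ℤ × ℤ

/-- The possible types. -/
def types : List CharType := [(96, -2, -12), (96, -2, -8), (96, -2, -4), (96, -2, 0), (96, -2, 4), (96, -2, 8), (96, -2, 12), (72, 2, -12), (72, 2, -8), (72, 2, -4), (72, 2, 0), (72, 2, 4), (72, 2, 8), (72, 2, 12), (54, -2, -6), (54, -2, 6), (16, 2, -4), (16, 2, 0), (16, 2, 4), (12, -2, 0), (9, 2, -3), (9, 2, 1), (2, 2, -2), (2, 2, 2), (64, 1, -8), (64, 1, -4), (64, 1, 0), (64, 1, 4), (64, 1, 8), (48, -1, -4), (48, -1, 0), (48, -1, 4), (36, 1, -4), (36, 1, 0), (36, 1, 4), (27, -1, 3), (8, 1, 0)]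

/-- No sums of the shape required by the column relations. -/
def leafOk (q : ℕ) (nd : ℤ) (dd : ℕ) (nv e : ℤ) : Bool :=
  !(nd == -1 && nv == -1 && q == 6 && dd ≤ 12095 && (12095 - dd) % 49 == 0 &&
    (List.range 200).any fun c => (c * c : ℤ) == 1728 + e)

/-- The search over multiplicities. -/
def search : List CharType → ℕ → ℤ → ℕ → ℤ → ℤ → Bool
  | [], q, nd, dd, nv, e => leafOk q nd dd nv e
  | (d, n, v) :: tl, q, nd, dd, nv, e =>
    if q == 6 then leafOk q nd dd nv e else
    (List.range ((6 - q) / n.natAbs ^ 2 + 1)).all fun c =>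
      search tl (q + c * n.natAbs ^ 2) (nd + c * n * d) (dd + c * d * d) (nv + c * n * v)
          (e + c * (n * v * v * (1728 / d : ℕ)))

theorem search_eq : search types 0 0 0 0 0 = true := by decide +kernel

theorem types_ne_zero : ∀ t ∈ types, t.2.1 ≠ 0 := by decide +kernel

theorem mem_types : ∀ d ∈ (Nat.divisors 12096).filter (fun d => 2 ≤ d ∧ d < 110),
    ∀ n ∈ ([1, -1, 2, -2] : List ℤ), ((d : ℤ) - n) % 7 = 0 →
    ∀ v ∈ (List.range 219).map (fun i : ℕ => (i : ℤ) - 109),
      0 ≤ (d : ℤ) + 6 * n + 7 * v → 0 ≤ (d : ℤ) + 6 * n - 7 * v → (v - d) % 4 = 0 →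
      (27 ∣ d → ((d : ℤ) + v) % 6 = 0) → ((d, n, v) : CharType) ∈ types ∧ d ∣ 1728 := by
  decide +kernel

theorem types_bound : ∀ t ∈ types,
    t.2.1 * t.2.2 * t.2.2 * (1728 / t.1 : ℕ) ≤ 1728 * (t.2.1.natAbs ^ 2 : ℕ) := by
  decide +kernel

theorem search_sound {ι : Type*} (f : ι → CharType) : ∀ (L : List CharType) (S : Finset ι)
    (q : ℕ) (nd : ℤ) (dd : ℕ) (nv e : ℤ), (∀ t ∈ L, t.2.1 ≠ 0) → (∀ i ∈ S, f i ∈ L) →
    search L q nd dd nv e = true → q + ∑ i ∈ S, (f i).2.1.natAbs ^ 2 = 6 →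
    leafOk (q + ∑ i ∈ S, (f i).2.1.natAbs ^ 2) (nd + ∑ i ∈ S, (f i).2.1 * (f i).1)
      (dd + ∑ i ∈ S, (f i).1 * (f i).1) (nv + ∑ i ∈ S, (f i).2.1 * (f i).2.2)
      (e + ∑ i ∈ S, (f i).2.1 * (f i).2.2 * (f i).2.2 * (1728 / (f i).1 : ℕ)) = true := by
  classical
  intro L
  induction L with
  | nil =>
    intro S q nd dd nv e _ hS h _
    obtain rfl : S = ∅ := Finset.eq_empty_iff_forall_notMem.2 fun i hi => by simpa using hS i hi
    simpa [search] using h
  | cons hd tl ih =>
    intro S q nd dd nv e hL hS h hq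
    obtain ⟨d, n, v⟩ := hd
    unfold search at h
    split_ifs at h with h6
    · rw [beq_iff_eq] at h6
      obtain rfl : S = ∅ := by
        refine Finset.eq_empty_iff_forall_notMem.2 fun i hi => ?_
        have h0 := Finset.single_le_sum (f := fun i => (f i).2.1.natAbs ^ 2)
          (fun i _ => Nat.zero_le _) hi
        have h1 : 0 < (f i).2.1.natAbs ^ 2 := pow_pos (Int.natAbs_pos.2 (hL _ (hS i hi))) 2
        omega
      simpa using h
    · set A := S.filter fun i => f i = (d, n, v) with hA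
      set B := S.filter fun i => ¬ f i = (d, n, v) with hB
      have hsplit : ∀ {M : Type} [AddCommMonoid M] (g : CharType → M),
          ∑ i ∈ S, g (f i) = A.card • g (d, n, v) + ∑ i ∈ B, g (f i) := by
        intro M _ g
        rw [hA, hB, ← Finset.sum_filter_add_sum_filter_not S (fun i => f i = (d, n, v))]
        congr 1
        rw [Finset.sum_congr rfl (g := fun _ => g (d, n, v)) fun i hi => by
          rw [(Finset.mem_filter.1 hi).2], Finset.sum_const]
      have hn : 0 < n.natAbs ^ 2 := pow_pos (Int.natAbs_pos.2 (hL _ List.mem_cons_self)) 2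
      have e1 := hsplit (fun t => t.2.1.natAbs ^ 2)
      have hc : A.card ∈ List.range ((6 - q) / n.natAbs ^ 2 + 1) := by
        rw [List.mem_range, Nat.lt_succ_iff, Nat.le_div_iff_mul_le hn]
        simp only [smul_eq_mul] at e1
        omega
      have h' := List.all_eq_true.1 h _ hc
      have hB' : ∀ i ∈ B, f i ∈ tl := fun i hi => by
        obtain ⟨hi1, hi2⟩ := Finset.mem_filter.1 hi
        exact (List.mem_cons.1 (hS i hi1)).resolve_left hi2
      have := ih B _ _ _ _ _ (fun t ht => hL t (List.mem_cons_of_mem _ ht)) hB' h' (by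
        rw [← hq, e1, smul_eq_mul, add_assoc])
      rw [e1, hsplit (fun t => t.2.1 * t.1), hsplit (fun t => t.1 * t.1),
        hsplit (fun t => t.2.1 * t.2.2), hsplit (fun t => t.2.1 * t.2.2 * t.2.2 * (1728 / t.1 : ℕ))]
      simpa [nsmul_eq_mul, add_assoc, mul_assoc] using this

/-- The conclusion of the search. -/
theorem no_solution {ι : Type*} (f : ι → CharType) (S : Finset ι) (hS : ∀ i ∈ S, f i ∈ types)
    (h1 : ∑ i ∈ S, (f i).2.1.natAbs ^ 2 = 6) (h2 : ∑ i ∈ S, (f i).2.1 * (f i).1 = -1)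
    (h3 : ∃ k, (∑ i ∈ S, (f i).1 * (f i).1) + 49 * k = 12095)
    (h4 : ∑ i ∈ S, (f i).2.1 * (f i).2.2 = -1) {C : ℕ}
    (h5 : (C * C : ℤ) = 1728 + ∑ i ∈ S, (f i).2.1 * (f i).2.2 * (f i).2.2 * (1728 / (f i).1 : ℕ))
: False := by
  have hC : C < 200 := by
    have h6 := Finset.sum_le_sum (s := S) fun i hi => types_bound (f i) (hS i hi)
    rw [← Finset.mul_sum, ← Nat.cast_sum, h1] at h6
    by_contra hge
    have : (200 : ℤ) ≤ C := by exact_mod_cast not_lt.1 hge
    push_cast at h6 h5
    nlinarith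
  have := search_sound f types S 0 0 0 0 0 types_ne_zero hS search_eq (by rw [zero_add, h1])
  obtain ⟨k, hk⟩ := h3
  simp only [zero_add] at this
  rw [h1, h2, h4, leafOk, ← h5] at this
  have hany : (List.range 200).any (fun c => (c * c : ℤ) == (C * C : ℤ)) = true :=
    List.any_eq_true.2 ⟨C, List.mem_range.2 hC, beq_iff_eq.2 rfl⟩
  rw [hany] at this
  simp at this
  omega

end CfsgLib.Recog.U33Unique.Order12096
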