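import Cfsg.Agent.Lib.Recog.U33Unique.Column
import Cfsg.Agent.Lib.Recog.U33Unique.NoSimpleSearch
import Cfsg.Agent.Lib.Small.Order4320
import Cfsg.Agent.Lib.Blocks.DefectZeroVanish

/-!
No simple group of order 12096 is without elements of orders 14 and 21.
-/

set_option autoImplicit false

noncomputable section

namespace CfsgLib.Recog.U33Unique

open Cfsg CfsgLib.Characters CfsgLib.ClassCount Subgroup
open scoped ComplexConjugate

/-- An element of order 7 of a group of order 12096 without elements of orders 14, 21 generates its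
centraliser. -/
theorem centralizer_seven {G : Type*} [Group G] [Finite G] (hG : Nat.card G = 12096)
    (h14 : ∀ g : G, orderOf g ≠ 14) (h21 : ∀ g : G, orderOf g ≠ 21) {x : G} (hx : orderOf x = 7) :
    centralizer ({x} : Set G) = zpowers x ∧ Nat.card (centralizer ({x} : Set G)) = 7 := by
  set C := centralizer ({x} : Set G) with hC
  have hle : zpowers x ≤ C := zpowers_le.2 (mem_centralizer_singleton_iff.2 rfl)
  have hp : ∀ p : ℕ, p.Prime → p ∣ Nat.card C → p = 7 := by
    intro p hp hdvd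
    haveI := Fact.mk hp
    obtain ⟨⟨y, hyC⟩, hy⟩ := exists_prime_orderOf_dvd_card' (G := C) p hdvd
    rw [Subgroup.orderOf_mk] at hy
    have hp3 : p ∣ 2 ^ 6 * 3 ^ 3 * 7 := by
      have := hy ▸ orderOf_dvd_natCard y
      rwa [hG] at this
    rcases (Nat.Prime.dvd_mul hp).1 hp3 with h | h
    · have hpv : p = 2 ∨ p = 3 := ((Nat.Prime.dvd_mul hp).1 h).imp
        (fun h => (Nat.prime_dvd_prime_iff_eq hp Nat.prime_two).1 (hp.dvd_of_dvd_pow h))
        (fun h => (Nat.prime_dvd_prime_iff_eq hp Nat.prime_three).1 (hp.dvd_of_dvd_pow h))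
      have hc : Commute y x := mem_centralizer_singleton_iff.1 hyC
      have ho := hc.orderOf_mul_eq_mul_orderOf_of_coprime (by
        rcases hpv with e | e <;> rw [hy, hx, e] <;> norm_num)
      rw [hy, hx] at ho
      rcases hpv with e | e <;> subst e
      · exact absurd (by simpa using ho) (h14 (y * x))
      · exact absurd (by simpa using ho) (h21 (y * x))
    · exact (Nat.prime_dvd_prime_iff_eq hp (by norm_num)).1 h
  have h7 : 7 ∣ Nat.card C := by
    have := card_dvd_of_le hle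
    rwa [Nat.card_zpowers, hx] at this
  have hcard : Nat.card C = 7 := by
    have hdvd : Nat.card C ∣ 12096 := hG ▸ card_subgroup_dvd_card C
    obtain ⟨m, hm⟩ := h7
    rw [hm] at hdvd hp ⊢
    by_contra hne
    obtain ⟨p, hp', hpm⟩ := Nat.exists_prime_and_dvd (show m ≠ 1 by omega)
    obtain rfl := hp p hp' (dvd_mul_of_dvd_right hpm 7)
    have : 7 * 7 ∣ 12096 := (Nat.mul_dvd_mul_left 7 hpm).trans hdvd
    norm_num at this
  exact ⟨(eq_of_le_of_card_ge hle (by rw [Nat.card_zpowers, hx, hcard])).symm, hcard⟩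

universe u

variable {G : Type u} [Group G] [Fintype G]

/-- Multiplicities in the restriction to a dihedral subgroup of order 14. -/
theorem dihedral_mult (χ : IrrCharacter G) {x u : G} (hx : x ^ 7 = 1) (hu : u ^ 2 = 1)
    (hux : u * x * u⁻¹ = x⁻¹) :
    ∃ a b : ℕ, (∑ i : ZMod 7, (χ : G → ℂ) (x ^ i.val)) + ∑ i : ZMod 7, (χ : G → ℂ) (u * x ^ i.val) = 14 * a ∧
      (∑ i : ZMod 7, (χ : G → ℂ) (x ^ i.val)) - ∑ i : ZMod 7, (χ : G → ℂ) (u * x ^ i.val) = 14 * b := by
  have hp : ∀ n : ℕ, x ^ (n % 7) = x ^ n := fun n => by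
    conv_rhs => rw [← Nat.mod_add_div n 7, pow_add, pow_mul, hx, one_pow, mul_one]
  have hadd : ∀ i j : ZMod 7, x ^ (i + j).val = x ^ i.val * x ^ j.val := fun i j => by
    rw [ZMod.val_add, hp, pow_add]
  have hui : u⁻¹ = u := inv_eq_of_mul_eq_one_left (by rw [← pow_two, hu])
  have huu : u * u = 1 := by rw [← pow_two, hu]
  have hneg : ∀ i : ZMod 7, x ^ (-i).val = (x ^ i.val)⁻¹ := fun i =>
    eq_inv_of_mul_eq_one_right (by rw [← hadd, add_neg_cancel, ZMod.val_zero, pow_zero])
  have hflip : ∀ i : ZMod 7, x ^ i.val * u = u * x ^ (-i).val := by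
    intro i
    have h1 : u * x ^ i.val * u⁻¹ = (x ^ i.val)⁻¹ := by rw [← conj_pow, hux, inv_pow]
    have h2 : u * (x ^ i.val)⁻¹ * u⁻¹ = x ^ i.val := by rw [← conj_inv, h1, inv_inv]
    rw [hneg]
    nth_rw 1 [← h2]
    rw [inv_mul_cancel_right]
  let ι : DihedralGroup 7 →* G := MonoidHom.mk'
    (fun g => match g with
      | DihedralGroup.r i => x ^ i.val
      | DihedralGroup.sr i => u * x ^ i.val)
    (by
      rintro (i | i) (j | j)
      · simp only [DihedralGroup.r_mul_r]; exact hadd i j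
      · simp only [DihedralGroup.r_mul_sr]
        rw [← mul_assoc, hflip, mul_assoc, ← hadd, sub_eq_add_neg, add_comm]
      · simp only [DihedralGroup.sr_mul_r]
        rw [mul_assoc, ← hadd]
      · simp only [DihedralGroup.sr_mul_sr]
        rw [show u * x ^ i.val * (u * x ^ j.val) = u * (x ^ i.val * u) * x ^ j.val by simp [mul_assoc],
          hflip, ← mul_assoc u u, huu, one_mul, ← hadd, sub_eq_add_neg, add_comm])
  have hχ : IsCharacter (DihedralGroup 7) (fun g => (χ : G → ℂ) (ι g)) := by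
    obtain ⟨c, n, ρ, hρ, rfl⟩ := χ
    exact isCharacter_character (ρ.comp ι)
  let sg : DihedralGroup 7 →* ℂˣ := MonoidHom.mk'
    (fun g => match g with
      | DihedralGroup.r _ => 1
      | DihedralGroup.sr _ => -1)
    (by rintro (i | i) (j | j) <;> simp)
  let e : ZMod 7 ⊕ ZMod 7 ≃ DihedralGroup 7 :=
    { toFun := fun p => p.elim DihedralGroup.r DihedralGroup.sr
      invFun := fun g => match g with
        | DihedralGroup.r i => Sum.inl i
        | DihedralGroup.sr i => Sum.inr i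
      left_inv := by rintro (i | i) <;> rfl
      right_inv := by rintro (i | i) <;> rfl }
  have h14 : (Nat.card (DihedralGroup 7) : ℂ) = 14 := by rw [DihedralGroup.nat_card]; norm_num
  have key : ∀ f : DihedralGroup 7 →* ℂˣ, (∀ g, conj (f g : ℂ) = (f g : ℂ)) → ∃ m : ℕ,
      (∑ i : ZMod 7, (χ : G → ℂ) (x ^ i.val) * (f (DihedralGroup.r i) : ℂ)) +
        ∑ i : ZMod 7, (χ : G → ℂ) (u * x ^ i.val) * (f (DihedralGroup.sr i) : ℂ) = 14 * m := by
    intro f hf
    obtain ⟨m, hm⟩ := classInner_char_nat hχ (isCharacter_of_irr (isIrrCharacter_of_hom f))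
    refine ⟨m, ?_⟩
    rw [← hm, classInner, ← mul_assoc, ← h14, mul_inv_cancel₀ (by rw [h14]; norm_num), one_mul,
      ← Fintype.sum_equiv e (fun p => (χ : G → ℂ) (ι (e p)) * (f (e p) : ℂ)) _ (fun p => by rw [hf]),
      Fintype.sum_sum_type]
    rfl
  obtain ⟨a, ha⟩ := key 1 (fun g => by simp)
  obtain ⟨b, hb⟩ := key sg (fun g => by rcases g with i | i <;> simp [sg])
  refine ⟨a, b, by simpa using ha, ?_⟩
  simpa [sg, Finset.sum_neg_distrib, sub_eq_add_neg] using hb

set_option maxHeartbeats 1600000 in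
theorem not_simple_12096 [IsSimpleGroup G] (hG : Nat.card G = 12096)
    (h14 : ∀ g : G, orderOf g ≠ 14) (h21 : ∀ g : G, orderOf g ≠ 21) : False := by
  classical
  have : Fact (Nat.Prime 7) := ⟨by norm_num⟩
  have hnc : ¬ IsMulCommutative G := Small.nc_of_not_prime (by rw [hG]; norm_num)
  obtain ⟨P⟩ := (inferInstance : Nonempty (Sylow 7 G))
  have h7 : Nat.card P = 7 := by
    simpa using Small.card_sylow_of_card_eq (k := 1) (m := 1728) (by rw [hG]; norm_num) (by norm_num) P
  obtain ⟨⟨x, hxP⟩, hx⟩ := exists_prime_orderOf_dvd_card' (G := (P : Subgroup G)) 7 h7.symm.dvd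
  rw [Subgroup.orderOf_mk] at hx
  have hx1 : x ≠ 1 := fun e => by rw [e, orderOf_one] at hx; omega
  obtain ⟨hCz, hCx⟩ := centralizer_seven hG h14 h21 hx
  have hPz := Small.eq_zpowers_of_mem h7 hxP hx1
  have hCP : centralizer ((P : Subgroup G) : Set G) = (P : Subgroup G) := by
    rw [hPz, zpowers_eq_closure, centralizer_closure, hCz, zpowers_eq_closure]
  obtain ⟨e, he1, he2, -, hCe, hall⟩ := Small.sylow_prime_order_data hnc P h7
  rw [hCP, h7] at hCe hall
  rw [hG] at hall
  have he : e = 6 := by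
    have hmem := Small.card_sylow_mem (p := 7) hnc (k := 1) (m := 1728) one_ne_zero
      (by rw [hG]; norm_num) (by norm_num)
    rw [show ((Nat.divisors 1728).filter fun n => n % 7 = 1 ∧ 1 < n) = {8, 36, 64, 288} from by
      decide +kernel] at hmem
    simp only [Finset.mem_insert, Finset.mem_singleton] at hmem
    have hle := Nat.le_of_dvd (by norm_num) he2
    rcases hmem with e' | e' | e' | e' <;> rw [e'] at hall <;> omega
  subst he
  set N := normalizer ((P : Subgroup G) : Set G) with hNdef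
  -- every power of `x` other than one is a conjugate by the normaliser
  have hsurj : ∀ a ∈ (P : Subgroup G), a ≠ 1 → ∃ m ∈ N, m * x * m⁻¹ = a := by
    haveI : Fintype N := Fintype.ofFinite _
    haveI : Fintype (P : Subgroup G) := Fintype.ofFinite _
    let f : N → (P : Subgroup G) := fun m => ⟨(m : G) * x * (m : G)⁻¹, (mem_normalizer_iff.1 m.2 x).1 hxP⟩
    have h1 := Finset.card_le_mul_card_image (f := f) Finset.univ 7 fun a ha => by
      obtain ⟨m0, -, rfl⟩ := Finset.mem_image.1 ha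
      refine le_of_le_of_eq ?_ hCx
      rw [Nat.card_eq_fintype_card, ← Finset.card_univ]
      have hm : ∀ m ∈ Finset.univ.filter (fun m => f m = f m0),
          (m0 : G)⁻¹ * (m : G) ∈ centralizer ({x} : Set G) := fun m hm => by
        have h : (m : G) * x * (m : G)⁻¹ = m0 * x * (m0 : G)⁻¹ :=
          congrArg Subtype.val (Finset.mem_filter.1 hm).2
        rw [mem_centralizer_singleton_iff]
        calc (m0 : G)⁻¹ * m * x = (m0 : G)⁻¹ * (m * x * (m : G)⁻¹) * m := by group
          _ = x * ((m0 : G)⁻¹ * m) := by rw [h]; group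
      refine Finset.card_le_card_of_injOn
        (fun m => if hm' : (m0 : G)⁻¹ * (m : G) ∈ centralizer ({x} : Set G) then ⟨_, hm'⟩ else 1)
        (fun m _ => Finset.mem_coe.2 (Finset.mem_univ _)) fun a ha b hb e => ?_
      simp only [dif_pos (hm a ha), dif_pos (hm b hb)] at e
      exact Subtype.ext (mul_left_cancel (congrArg Subtype.val e))
    have hsub : Finset.univ.image f ⊆ Finset.univ.erase (1 : (P : Subgroup G)) := by
      intro a ha
      obtain ⟨m, -, rfl⟩ := Finset.mem_image.1 ha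
      exact Finset.mem_erase.2 ⟨fun h => hx1 (conj_eq_one_iff.1 (congrArg Subtype.val h)),
        Finset.mem_univ _⟩
    rw [Finset.card_univ, ← Nat.card_eq_fintype_card, ← hCe] at h1
    have heq := Finset.eq_of_subset_of_card_le hsub (by
      rw [Finset.card_erase_of_mem (Finset.mem_univ _), Finset.card_univ, ← Nat.card_eq_fintype_card, h7]
      omega)
    intro a ha ha1
    obtain ⟨m, -, hm⟩ := Finset.mem_image.1 (heq ▸ Finset.mem_erase.2
      ⟨fun h => ha1 (congrArg Subtype.val h : _), Finset.mem_univ (⟨a, ha⟩ : (P : Subgroup G))⟩)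
    exact ⟨m, m.2, congrArg Subtype.val hm⟩
  have hx7 : x ^ 7 = 1 := by
    have := pow_orderOf_eq_one x
    rwa [hx] at this
  have hxk : ∀ k : ℕ, k % 7 ≠ 0 → x ^ k ≠ 1 := fun k hk h => by
    have := orderOf_dvd_iff_pow_eq_one.2 h
    rw [hx] at this
    omega
  have hconjx : ∀ k : ℕ, k % 7 ≠ 0 → IsConj x (x ^ k) := fun k hk => by
    obtain ⟨m, -, hm⟩ := hsurj (x ^ k) (pow_mem hxP k) (hxk k hk)
    exact isConj_iff.2 ⟨m, hm⟩
  -- an element of order six
  obtain ⟨w, -, hw⟩ := hsurj (x ^ 3) (pow_mem hxP 3) (hxk 3 (by norm_num))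
  have hwi : ∀ i : ℕ, w ^ i * x * (w ^ i)⁻¹ = x ^ (3 ^ i) := by
    intro i
    induction i with
    | zero => simp
    | succ i ih =>
      rw [pow_succ' w, show w * w ^ i * x * (w * w ^ i)⁻¹ = w * (w ^ i * x * (w ^ i)⁻¹) * w⁻¹ by
        simp [mul_assoc], ih, ← conj_pow, hw, ← pow_mul, ← pow_succ']
  have hw6 : w ^ 6 = 1 := by
    have h1 : w ^ 6 ∈ centralizer ({x} : Set G) := by
      have h2 := hwi 6
      have h729 : x ^ (3 ^ 6) = x := by
        rw [← pow_mod_orderOf, hx, show 3 ^ 6 % 7 = 1 from rfl, pow_one]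
      rw [h729] at h2
      exact mem_centralizer_singleton_iff.2 (mul_inv_eq_iff_eq_mul.1 h2)
    rw [hCz] at h1
    obtain ⟨i, hi⟩ := mem_powers_iff_mem_zpowers.2 h1
    simp only at hi
    have h2 : x ^ (3 * i) = x ^ i := by
      rw [pow_mul, ← hw, conj_pow, hi, ← pow_succ', pow_succ, mul_inv_cancel_right]
    have h3 : 3 * i % 7 = i % 7 := by
      rw [pow_eq_pow_iff_modEq, hx] at h2
      exact h2
    rw [← hi, ← pow_mod_orderOf, hx, show i % 7 = 0 by omega, pow_zero]
  set u := w ^ 3 with hu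
  have hu2 : u ^ 2 = 1 := by rw [hu, ← pow_mul]; exact hw6
  have hux : u * x * u⁻¹ = x⁻¹ := by
    rw [hu, hwi 3, ← pow_mod_orderOf, hx, show 3 ^ 3 % 7 = 6 from rfl]
    exact eq_inv_of_mul_eq_one_right (by rw [← pow_succ']; exact hx7)
  have hu1 : u ≠ 1 := fun e => by
    rw [e] at hux
    simp only [one_mul, inv_one, mul_one] at hux
    exact hxk 2 (by norm_num) (by rw [pow_two]; nth_rw 2 [hux]; rw [mul_inv_cancel])
  have hw2 : w ^ 2 ≠ 1 := fun e => by
    have h := hwi 2
    rw [e] at h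
    simp only [one_mul, inv_one, mul_one] at h
    have h' : x ^ 1 = x ^ (3 ^ 2) := by rw [pow_one]; exact h
    rw [pow_eq_pow_iff_modEq, hx] at h'
    norm_num [Nat.ModEq] at h'
  have hou : orderOf u = 2 := by
    have : Fact (Nat.Prime 2) := ⟨Nat.prime_two⟩
    exact orderOf_eq_prime hu2 hu1
  have how : orderOf w = 6 := by
    have hd : orderOf w ∣ 6 := orderOf_dvd_iff_pow_eq_one.2 hw6
    have hle := Nat.le_of_dvd (by norm_num) hd
    have hp := pow_orderOf_eq_one w
    have h0 := orderOf_pos w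
    interval_cases h : orderOf w <;> try omega
    · rw [pow_one] at hp; exact absurd (show w ^ 3 = 1 by rw [hp, one_pow]) hu1
    · exact absurd hp hw2
    · exact absurd hp hu1
  -- the values
  have hxval : ∀ (χ : IrrCharacter G) (k : ℕ), k % 7 ≠ 0 → (χ : G → ℂ) (x ^ k) = (χ : G → ℂ) x :=
    fun χ k hk => (classFunction_eq_of_isConj (irr_isClassFunction χ) (hconjx k hk)).symm
  have hval : ∀ χ : IrrCharacter G, ∃ n : ℤ, (χ : G → ℂ) x = n ∧
      (7 : ℤ) ∣ (charDegree (χ : G → ℂ) : ℤ) - n := by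
    intro χ
    obtain ⟨m, hm⟩ := root_mult χ x (ω := zeta7) (by rw [hx, zeta7_pow])
    rw [hx] at hm
    simp only [Finset.sum_range_succ, Finset.sum_range_zero, zero_add, pow_zero, pow_one, mul_one,
      (degree_eq χ).1, hxval χ 2 (by norm_num), hxval χ 3 (by norm_num), hxval χ 4 (by norm_num),
      hxval χ 5 (by norm_num), hxval χ 6 (by norm_num)] at hm
    refine ⟨(charDegree (χ : G → ℂ) : ℤ) - 7 * m, ?_, ⟨m, by ring⟩⟩
    push_cast at hm ⊢
    linear_combination -hm + (χ : G → ℂ) x * zeta7_sum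
  choose n hn hn7 using hval
  set D := fun χ : IrrCharacter G => charDegree (χ : G → ℂ) with hD
  have hnsq : ∑ χ, n χ ^ 2 = 7 := by
    have h := column_orth x x
    rw [if_pos (IsConj.refl x), hCx] at h
    simp only [hn, map_intCast, ← sq] at h
    exact_mod_cast h
  have hn1 : n (principalIrr G) = 1 := by
    have h := hn (principalIrr G)
    rw [principalIrr_apply] at h
    exact_mod_cast h.symm
  have hD1 : D (principalIrr G) = 1 := by
    have := (degree_eq (principalIrr G)).1
    rw [principalIrr_apply] at this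
    simp only [hD]
    exact_mod_cast this.symm
  set S := (Finset.univ.erase (principalIrr G)).filter fun χ => n χ ≠ 0 with hS
  have hsum : ∀ F : IrrCharacter G → ℤ, (∀ χ, n χ = 0 → F χ = 0) →
      ∑ χ, F χ = F (principalIrr G) + ∑ χ ∈ S, F χ := by
    intro F hF
    rw [← Finset.add_sum_erase _ _ (Finset.mem_univ (principalIrr G)), hS,
      Finset.sum_filter_of_ne (p := fun χ => n χ ≠ 0) fun χ _ h e => h (hF χ e)]
  have hq : ∑ χ ∈ S, n χ ^ 2 = 6 := by
    have := hsum (fun χ => n χ ^ 2) (fun χ h => by rw [h]; rfl)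
    rw [hnsq, hn1] at this
    linarith
  have hnd : ∑ χ ∈ S, n χ * (D χ : ℤ) = -1 := by
    have h := column_orth (1 : G) x
    rw [if_neg fun hc => hx1 (isConj_one_right.1 hc)] at h
    simp only [hn, map_intCast, (degree_eq _).1] at h
    have h' : ∑ χ, n χ * (D χ : ℤ) = 0 := by
      simp only [hD]
      simp only [mul_comm (n _)]
      exact_mod_cast h
    have := hsum (fun χ => n χ * (D χ : ℤ)) (fun χ h => by rw [h, zero_mul])
    rw [h', hn1, hD1] at this
    push_cast at this
    linarith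
  have hdd : ∃ k, ∑ χ ∈ S, D χ * D χ + 49 * k = 12095 := by
    have h : ∑ χ, D χ * D χ = 12096 := by
      have := sum_sq_degrees (G := G)
      simp only [(degree_eq _).1, hG, sq] at this
      exact_mod_cast this
    rw [← Finset.add_sum_erase _ _ (Finset.mem_univ (principalIrr G)), hD1,
      ← Finset.sum_filter_add_sum_filter_not _ (fun χ => n χ ≠ 0)] at h
    have hk : ∀ χ ∈ (Finset.univ.erase (principalIrr G)).filter (fun χ => ¬ n χ ≠ 0),
        ∃ k, D χ * D χ = 49 * k := by
      intro χ hχ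
      have h0 := not_not.1 (Finset.mem_filter.1 hχ).2
      have := hn7 χ
      rw [h0, sub_zero] at this
      obtain ⟨k, hk⟩ := Int.natCast_dvd_natCast.1 (show ((7 : ℕ) : ℤ) ∣ (D χ : ℤ) by simpa [hD] using this)
      exact ⟨k * k, by rw [hk]; ring⟩
    choose! k hk using hk
    refine ⟨∑ χ ∈ (Finset.univ.erase (principalIrr G)).filter (fun χ => ¬ n χ ≠ 0), k χ, ?_⟩
    rw [Finset.sum_congr rfl hk, ← Finset.mul_sum] at h
    simp only [hS]
    omega
  -- the values at the inverting involution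
  have hexv : ∀ χ : IrrCharacter G, ∃ v : ℤ, (χ : G → ℂ) u = v ∧
      (χ ≠ principalIrr G → v % 4 = (D χ : ℤ) % 4 ∧ v ^ 2 < (D χ : ℤ) ^ 2) := by
    intro χ
    by_cases hne : χ = principalIrr G
    · exact ⟨1, by rw [hne, principalIrr_apply]; simp, fun h => absurd hne h⟩
    · obtain ⟨v, hv, h1, h2⟩ := Small.Order4320.value_involution hnc hne hou (degree_eq χ).1
      exact ⟨v, hv, fun _ => ⟨h1, h2⟩⟩
  choose v hv hv' using hexv
  have hv1 : v (principalIrr G) = 1 := by
    have h := hv (principalIrr G)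
    rw [principalIrr_apply] at h
    exact_mod_cast h.symm
  have huk : ∀ k : ℕ, IsConj u (u * x ^ k) := by
    intro k
    refine isConj_iff.2 ⟨x ^ (3 * k), ?_⟩
    have h1 : u * x ^ (3 * k) * u⁻¹ = (x ^ (3 * k))⁻¹ := by rw [← conj_pow, hux, inv_pow]
    have hui : u⁻¹ = u := inv_eq_of_mul_eq_one_left (by rw [← pow_two]; exact hu2)
    have h2 : x ^ (3 * k) * u = u * (x ^ (3 * k))⁻¹ := by
      rw [← h1, ← mul_assoc, ← mul_assoc, show u * u = 1 by rw [← pow_two]; exact hu2, one_mul, hui]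
    rw [h2, mul_assoc, ← mul_inv_rev]
    congr 1
    refine inv_eq_of_mul_eq_one_left ?_
    rw [← pow_add, ← pow_add, show k + (3 * k + 3 * k) = 7 * k by ring, pow_mul, hx7, one_pow]
  have hdih : ∀ χ : IrrCharacter G,
      0 ≤ (D χ : ℤ) + 6 * n χ + 7 * v χ ∧ 0 ≤ (D χ : ℤ) + 6 * n χ - 7 * v χ := by
    intro χ
    obtain ⟨a, b, ha, hb⟩ := dihedral_mult χ hx7 hu2 hux
    have h7' : ∀ f : ZMod 7 → ℂ, ∑ i, f i = f 0 + f 1 + f 2 + f 3 + f 4 + f 5 + f 6 :=
      fun f => Fin.sum_univ_seven f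
    have e1 : ∑ i : ZMod 7, (χ : G → ℂ) (x ^ i.val) = (D χ : ℂ) + 6 * n χ := by
      rw [h7', show (0 : ZMod 7).val = 0 from rfl, show (1 : ZMod 7).val = 1 from rfl,
        show (2 : ZMod 7).val = 2 from rfl, show (3 : ZMod 7).val = 3 from rfl,
        show (4 : ZMod 7).val = 4 from rfl, show (5 : ZMod 7).val = 5 from rfl,
        show (6 : ZMod 7).val = 6 from rfl, pow_zero, pow_one, hxval χ 2 (by norm_num),
        hxval χ 3 (by norm_num), hxval χ 4 (by norm_num), hxval χ 5 (by norm_num),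
        hxval χ 6 (by norm_num), hn, (degree_eq χ).1]
      ring
    have e2 : ∑ i : ZMod 7, (χ : G → ℂ) (u * x ^ i.val) = 7 * (v χ : ℂ) := by
      rw [Finset.sum_congr rfl fun i _ => by
        rw [← classFunction_eq_of_isConj (irr_isClassFunction χ) (huk i.val), hv]]
      rw [Finset.sum_const, Finset.card_univ, ZMod.card, nsmul_eq_mul]
      norm_num
    rw [e1, e2] at ha hb
    have ha' : (D χ : ℤ) + 6 * n χ + 7 * v χ = 14 * (a : ℤ) := by exact_mod_cast ha
    have hb' : (D χ : ℤ) + 6 * n χ - 7 * v χ = 14 * (b : ℤ) := by exact_mod_cast hb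
    omega
  have hvan : ∀ χ : IrrCharacter G, 27 ∣ D χ → ((D χ : ℤ) + v χ) % 6 = 0 := by
    intro χ h27
    have : Fact (Nat.Prime 3) := ⟨Nat.prime_three⟩
    obtain ⟨Q⟩ := (inferInstance : Nonempty (Sylow 3 G))
    have hQ : Nat.card Q = 27 :=
      (Small.card_sylow_of_card_eq (k := 3) (m := 448) (by rw [hG]; norm_num) (by norm_num) Q).trans
        (by norm_num)
    have h0 : ∀ k : ℕ, k ∈ ([1, 2, 4, 5] : List ℕ) → (χ : G → ℂ) (w ^ k) = 0 := by
      intro k hk
      refine DefectZeroVanish.vanish_of_defect_zero (p := 3) χ ?_ ?_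
      · rw [← Q.card_eq_multiplicity, hQ]; exact h27
      · fin_cases hk <;> rw [orderOf_pow, how] <;> norm_num
    obtain ⟨m, hm⟩ := triv_mult χ w
    rw [how] at hm
    simp only [Finset.sum_range_succ, Finset.sum_range_zero, zero_add, pow_zero,
      h0 1 (by simp), h0 2 (by simp), h0 4 (by simp), h0 5 (by simp), ← hu, hv, (degree_eq χ).1,
      add_zero] at hm
    have : (D χ : ℤ) + v χ = 6 * m := by exact_mod_cast hm
    omega
  -- membership in the list of types
  have hT : ∀ χ ∈ S, ((D χ, n χ, v χ) : Order12096.CharType) ∈ Order12096.types ∧ D χ ∣ 1728 := by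
    intro χ hχ
    obtain ⟨hne, hn0⟩ := Finset.mem_filter.1 hχ
    have hne' := (Finset.mem_erase.1 hne).1
    have hle : n χ ^ 2 ≤ 6 := hq ▸ Finset.single_le_sum (fun ψ _ => sq_nonneg (n ψ)) hχ
    have hnb : n χ = 1 ∨ n χ = -1 ∨ n χ = 2 ∨ n χ = -2 := by
      have h1 : n χ ≤ 2 := by nlinarith
      have h2 : -2 ≤ n χ := by nlinarith
      omega
    have hd2 : 2 ≤ D χ := by
      have := (degree_eq χ).2.2
      by_contra hlt
      exact hne' (Order7920.eq_principal_of_charDegree_one hnc (show charDegree (χ : G → ℂ) = 1 by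
        simp only [hD] at hlt; omega))
    have hd110 : D χ < 110 := by
      obtain ⟨k, hk⟩ := hdd
      have h1 := Finset.single_le_sum (f := fun ψ => D ψ * D ψ) (fun ψ _ => Nat.zero_le _) hχ
      nlinarith
    obtain ⟨hv4, hvlt⟩ := hv' χ hne'
    refine Order12096.mem_types (D χ) (Finset.mem_filter.2 ⟨Nat.mem_divisors.2
      ⟨hG ▸ (degree_eq χ).2.1, by norm_num⟩, hd2, hd110⟩) (n χ) (by simpa using hnb)
      (by have := hn7 χ; simp only [hD]; omega) (v χ) ?_ (hdih χ).1 (hdih χ).2 (by omega) (hvan χ)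
    refine List.mem_map.2 ⟨(v χ + 109).toNat, List.mem_range.2 ?_, ?_⟩
    · have : v χ ≤ 109 := by nlinarith
      omega
    · have : -109 ≤ v χ := by nlinarith
      omega
  -- the relations at the involution
  have hnotux : ¬ IsConj u x := fun h => by
    obtain ⟨c, hc⟩ := isConj_iff.1 h
    have := hx
    rw [← hc, ← MulAut.conj_apply, MulEquiv.orderOf_eq, hou] at this
    norm_num at this
  have hnv : ∑ χ ∈ S, n χ * v χ = -1 := by
    have h := column_orth u x
    rw [if_neg hnotux] at h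
    simp only [hn, hv, map_intCast] at h
    have h' : ∑ χ, n χ * v χ = 0 := by
      simp only [mul_comm (n _)]
      exact_mod_cast h
    have := hsum (fun χ => n χ * v χ) (fun χ h => by rw [h, zero_mul])
    rw [h', hn1, hv1] at this
    linarith
  -- the number of pairs of conjugates of `u` with product `x`
  have hcount : (pairs u u ({x} : Finset G)).card = 7 := by
    rw [← ZMod.card 7, ← Finset.card_univ]
    have hui : u⁻¹ = u := inv_eq_of_mul_eq_one_left (by rw [← pow_two]; exact hu2)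
    refine (Finset.card_bij (fun (i : ZMod 7) _ => (u * x ^ i.val, u * x ^ (i.val + 1)))
      (fun i _ => ?_) (fun i _ j _ e => ?_) (fun z hz => ?_)).symm
    · refine Finset.mem_filter.2 ⟨Finset.mem_product.2 ⟨mem_cls.2 (huk _), mem_cls.2 (huk _)⟩,
        Finset.mem_singleton.2 ?_⟩
      have h1 : u * x ^ i.val * u⁻¹ = (x ^ i.val)⁻¹ := by rw [← conj_pow, hux, inv_pow]
      calc u * x ^ i.val * (u * x ^ (i.val + 1)) = (u * x ^ i.val * u⁻¹) * (u * u) * x ^ (i.val + 1) := by
            simp [mul_assoc]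
        _ = x := by rw [h1, ← pow_two, hu2, mul_one, pow_succ, inv_mul_cancel_left]
    · have := mul_left_cancel (congrArg Prod.fst e)
      rw [pow_eq_pow_iff_modEq, hx] at this
      have h1 := ZMod.val_lt i; have h2 := ZMod.val_lt j
      rw [Nat.ModEq, Nat.mod_eq_of_lt h1, Nat.mod_eq_of_lt h2] at this
      exact ZMod.val_injective 7 this
    · obtain ⟨hz1, hz2⟩ := Finset.mem_filter.1 hz
      obtain ⟨ha, hb⟩ := Finset.mem_product.1 hz1
      rw [Finset.mem_singleton] at hz2
      have hinv : ∀ t, IsConj u t → t⁻¹ = t ∧ t * t = 1 := by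
        intro t ht
        obtain ⟨c, rfl⟩ := isConj_iff.1 ht
        have huu : u * u = 1 := by rw [← pow_two]; exact hu2
        exact ⟨by rw [conj_inv, hui], by
          rw [show c * u * c⁻¹ * (c * u * c⁻¹) = c * (u * u) * c⁻¹ by simp [mul_assoc], huu]; simp⟩
      obtain ⟨ha1, ha2⟩ := hinv _ (mem_cls.1 ha)
      obtain ⟨hb1, -⟩ := hinv _ (mem_cls.1 hb)
      have hax : z.1 * x * z.1⁻¹ = x⁻¹ := by
        rw [← hz2, ← mul_assoc, ha2, one_mul, mul_inv_rev, ha1, hb1]
      have hmem : u * z.1 ∈ centralizer ({x} : Set G) := by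
        rw [mem_centralizer_singleton_iff, ← mul_inv_eq_iff_eq_mul]
        calc u * z.1 * x * (u * z.1)⁻¹ = u * (z.1 * x * z.1⁻¹) * u⁻¹ := by simp [mul_assoc]
          _ = x := by rw [hax, ← conj_inv, hux, inv_inv]
      rw [hCz] at hmem
      obtain ⟨i, hi⟩ := mem_powers_iff_mem_zpowers.2 hmem
      simp only at hi
      have hz : z.1 = u * x ^ i := by
        rw [hi, ← mul_assoc, ← pow_two, hu2, one_mul]
      refine ⟨(i : ZMod 7), Finset.mem_univ _, ?_⟩
      rw [ZMod.val_natCast, pow_succ, ← hx, pow_mod_orderOf, ← hz]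
      refine Prod.ext rfl ?_
      show u * (x ^ i * x) = z.2
      rw [← mul_assoc, ← hz]
      nth_rw 1 [← hz2]
      rw [← mul_assoc, ha2, one_mul]
  have h := card_pairs_mul_centralizers u u ({x} : Finset G)
  rw [hcount] at h
  simp only [Finset.sum_singleton, irr_apply_inv, hn, hv, map_intCast] at h
  set C := Nat.card (centralizer ({u} : Set G)) with hC
  have hC2 : ((7 * (C * C) : ℕ) : ℤ) =
      ∑ χ, (cofDegree χ : ℤ) * (v χ * v χ * n χ) := by
    have : (((7 * (C * C) : ℕ) : ℤ) : ℂ) = ((∑ χ, (cofDegree χ : ℤ) * (v χ * v χ * n χ) : ℤ) : ℂ) := by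
      push_cast
      push_cast at h
      rw [← h]; ring
    exact Int.cast_injective this
  rw [hsum _ (fun χ h => by rw [h, mul_zero, mul_zero]), hv1, hn1,
    show cofDegree (principalIrr G) = 12096 by
      rw [cofDegree, show charDegree ((principalIrr G : IrrCharacter G) : G → ℂ) = 1 from hD1, hG]] at hC2
  rw [Finset.sum_congr rfl (g := fun χ => 7 * (n χ * v χ * v χ * ((1728 / D χ : ℕ) : ℤ))) fun χ hχ => by
    obtain ⟨k, hk⟩ := (hT χ hχ).2
    have hpos : 0 < D χ := (degree_eq χ).2.2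
    rw [cofDegree, hG, show charDegree (χ : G → ℂ) = D χ from rfl, hk,
      Nat.mul_div_cancel_left _ hpos, show 12096 / D χ = 7 * k by
        rw [show 12096 = D χ * (7 * k) by rw [show (12096 : ℕ) = 7 * 1728 from rfl, hk]; ring, Nat.mul_div_cancel_left _ hpos]]
    push_cast
    ring, ← Finset.mul_sum] at hC2
  push_cast at hC2
  refine Order12096.no_solution (fun χ => (D χ, n χ, v χ)) S (fun χ hχ => (hT χ hχ).1) ?_ hnd hdd hnv
    (C := C) ?_
  · show ∑ χ ∈ S, (n χ).natAbs ^ 2 = 6
    have : ((∑ χ ∈ S, (n χ).natAbs ^ 2 : ℕ) : ℤ) = ((6 : ℕ) : ℤ) := by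
      push_cast
      simpa [sq_abs] using hq
    exact_mod_cast this
  · show (C * C : ℤ) = 1728 + ∑ χ ∈ S, n χ * v χ * v χ * ((1728 / D χ : ℕ) : ℤ)
    push_cast
    linarith

end CfsgLib.Recog.U33Unique
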