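import Mathlib
import Cfsg.Agent.Lib.Recognition.PSU33.Borel

/-!
The permutation model on `28 = 1 + 27` points of a simple group of order 6048, and the computation
showing that the swapping element is determined by the Borel subgroup.
-/

set_option autoImplicit false

namespace CfsgLib.Recog.U33Unique

open CfsgLib.Recognition.PSU33

/-- The code of an element of `H3`. -/
def enc (g : H3) : ℕ := 9 * g.a.val + 3 * g.b.val + g.c.val

/-- The code of a point; `none` has code 27. -/
def encO : Option H3 → ℕ
  | none => 27
  | some g => enc g

/-- Multiplication of codes. -/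
def mulN (m n : ℕ) : ℕ :=
  9 * ((m / 9 + n / 9) % 3) + 3 * ((m / 3 + n / 3) % 3) + (m + n + m / 3 % 3 * (n / 9)) % 3

/-- The powers of `H3.alphaFun` on codes, five bits each. -/
def actTab : ℕ :=
  7534803114154417440228914112927379963135439377432965224963489253575065843382319393399297047408869058943464714715800993883246503853067296829839522830639631599762626183701651354931168851719376767339377063932882324845472898607286521476426242958219956289509232488816655569157458684646890051102393817044855897470268897827802417184

/-- The action on codes. -/
def actN (k n : ℕ) : ℕ := (actTab >>> (5 * (27 * k + n))) % 32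

/-- The three orbit representatives outside the centre. -/
def rep (i : Fin 3) : H3 := ⟨0, 1, ((i : ℕ) : ZMod 3)⟩

/-- `8 i + t` for the code of `act t (rep i)`, five bits each. -/
def dlogTab : ℕ :=
  10197215799647594817772330281194871612184

/-- The logarithm of a noncentral code. -/
def dlogN (n : ℕ) : ℕ := (dlogTab >>> (5 * n)) % 32

/-- An equivariant map given by three images `8 o + k`. -/
def mapN (c m0 m1 m2 n : ℕ) : ℕ :=
  if n < 3 then n
  else
    let d := dlogN n
    let m := if d < 8 then m0 else if d < 16 then m1 else m2
    actN ((m % 8 + c * (d % 8)) % 8) (3 + m / 8)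

/-- The swap on codes of points. -/
def swapN (F : ℕ → ℕ) (n : ℕ) : ℕ := if n = 27 then 0 else if n = 0 then 27 else F n

/-- Left translation on codes of points. -/
def leftN (g n : ℕ) : ℕ := if n = 27 then 27 else mulN g n

/-- The closure condition at `v`. -/
def closeN (F : ℕ → ℕ) (v : ℕ) : Bool :=
  (List.range 27).any fun h0 =>
    swapN F (leftN v (swapN F 0)) == leftN (F v) (swapN F h0) &&
    (List.range 8).any fun k => (List.range 27).all fun x =>
    swapN F (leftN v (swapN F x)) == leftN (F v) (swapN F (mulN h0 (actN k x)))

/-- The conjugacy of the solutions to the base solution. -/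
def baseN (F : ℕ → ℕ) : Bool :=
  [0, 2, 4, 6].any fun i => (List.range 26).all fun n =>
    F (n + 1) == mapN 5 3 16 10 (actN i (n + 1))

/-- The square of the map is `act j` at the `i`-th representative, as far as known. -/
def okN (c j : ℕ) (ms : List ℕ) (i : ℕ) : Bool :=
  let o := ms.getD i 0 / 8
  if h : o < ms.length then
    ms[o] / 8 == i && (c * (ms.getD i 0 % 8) + ms[o] % 8) % 8 == j
  else true

/-- The complete computation. -/
def checkN : Bool :=
  [1, 3, 5, 7].all fun c => (List.range 8).all fun j => (List.range 24).all fun m0 =>
    !(okN c j [m0] 0) || (List.range 24).all fun m1 =>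
      !(okN c j [m0, m1] 0 && okN c j [m0, m1] 1) || (List.range 24).all fun m2 =>
        !(okN c j [m0, m1, m2] 0 && okN c j [m0, m1, m2] 1 && okN c j [m0, m1, m2] 2) ||
          (let F := mapN c m0 m1 m2
           !(closeN F 1 && closeN F 3) || baseN F)

theorem checkN_eq : checkN = true := by decide +kernel

end CfsgLib.Recog.U33Unique
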