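import Cfsg.Agent.Lib.Recog.U33Unique.Borel

/-!
Simple groups of order 6048 without elements of order 9 are isomorphic.
-/

set_option autoImplicit false

noncomputable section

namespace CfsgLib.Recog.U33Unique

open CfsgLib.Recognition.PSU33 Subgroup

universe u

theorem act_four_eq : ∀ k : ZMod 8, k.val % 2 = 1 → k * 4 = 4 := by decide

theorem act_z_two : ∀ k : ZMod 8, k.val % 2 = 1 → H3.act k H3.z⁻¹ = H3.z := by decide +kernel

theorem act_one_fix : ∀ h : H3, H3.act 1 h = h → h = 1 := by decide +kernel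

set_option maxHeartbeats 1000000 in
theorem exists_frame {G : Type u} [Group G] [Fintype G] [IsSimpleGroup G] (hG : Nat.card G = 6048)
    (hno9 : ∀ g : G, orderOf g ≠ 9) : Nonempty (Frame G) := by
  classical
  have : Fact (Nat.Prime 3) := ⟨Nat.prime_three⟩
  obtain ⟨P⟩ := (inferInstance : Nonempty (Sylow 3 G))
  obtain ⟨D⟩ := exists_borel hG hno9 P
  have hP := card_sylow_eq hG P
  set N := normalizer ((P : Subgroup G) : Set G) with hNdef
  have hN : Nat.card N = 216 := card_normalizer_three hG hno9 P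
  have hs8 : D.s ^ 8 = 1 := by
    have := pow_orderOf_eq_one D.s
    rwa [D.ord_s] at this
  have hPN : (P : Subgroup G) ≤ N := le_normalizer
  have hφP : ∀ h, D.φ h ∈ (P : Subgroup G) := fun h => D.φ_range ▸ ⟨h, rfl⟩
  -- decomposition of the normaliser
  have hdec : ∀ n ∈ N, ∃ (h : H3) (k : ZMod 8), n = D.φ h * D.s ^ k.val := by
    let f : H3 × ZMod 8 → N := fun p =>
      ⟨D.φ p.1 * D.s ^ p.2.val, mul_mem (hPN (hφP _)) (pow_mem D.s_mem _)⟩
    have hf : Function.Bijective f := by
      refine Function.Injective.bijective_of_nat_card_le ?_ ?_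
      · rintro ⟨h, k⟩ ⟨h', k'⟩ e
        have e' : D.φ h * D.s ^ k.val = D.φ h' * D.s ^ k'.val := congrArg Subtype.val e
        have e2 : D.φ (h'⁻¹ * h) = D.s ^ k'.val * (D.s ^ k.val)⁻¹ := by
          rw [map_mul, map_inv, eq_mul_inv_iff_mul_eq, mul_assoc, e', inv_mul_cancel_left]
        have h1 : h'⁻¹ * h = 1 := by
          apply D.φ_inj
          rw [map_one]
          have hd1 : orderOf (D.φ (h'⁻¹ * h)) ∣ 27 := by
            have := orderOf_dvd_natCard (⟨_, hφP (h'⁻¹ * h)⟩ : (P : Subgroup G))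
            rwa [Subgroup.orderOf_mk, hP] at this
          have hd2 : orderOf (D.φ (h'⁻¹ * h)) ∣ 8 := by
            rw [e2, orderOf_dvd_iff_pow_eq_one, ((Commute.refl D.s).pow_pow _ _).inv_right.mul_pow,
              inv_pow, ← pow_mul, ← pow_mul, mul_comm k'.val, mul_comm k.val, pow_mul, pow_mul,
              hs8]
            simp
          have := Nat.dvd_gcd hd1 hd2
          norm_num at this
          rw [map_mul, map_inv]
          exact this
        obtain rfl : h' = h := inv_mul_eq_one.1 h1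
        have e3 := mul_left_cancel e'
        rw [pow_eq_pow_iff_modEq, D.ord_s] at e3
        have := ZMod.val_lt k; have := ZMod.val_lt k'
        rw [Nat.ModEq, Nat.mod_eq_of_lt ‹k.val < 8›, Nat.mod_eq_of_lt ‹k'.val < 8›] at e3
        exact Prod.ext rfl (ZMod.val_injective 8 e3)
      · rw [hN, Nat.card_prod, H3.card_eq, Nat.card_zmod]
    intro n hn
    obtain ⟨⟨h, k⟩, e⟩ := hf.2 ⟨n, hn⟩
    exact ⟨h, k, (congrArg Subtype.val e).symm⟩
  have hpowP : ∀ y ∈ N, y ^ 27 = 1 → y ∈ (P : Subgroup G) := by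
    intro y hy h27
    have hi : ((P : Subgroup G).subgroupOf N).index = 8 := by
      have := ((P : Subgroup G).subgroupOf N).card_mul_index
      rw [Nat.card_congr (subgroupOfEquivOfLe hPN).toEquiv, hP, hN] at this
      omega
    haveI : ((P : Subgroup G).subgroupOf N).Normal := normal_in_normalizer
    have h8 := pow_index_mem ((P : Subgroup G).subgroupOf N) (⟨y, hy⟩ : N)
    rw [hi, mem_subgroupOf] at h8
    have h8' : y ^ 8 ∈ (P : Subgroup G) := h8
    have := pow_mem h8' 17
    rwa [← pow_mul, show 8 * 17 = 27 * 5 + 1 by norm_num, pow_succ, pow_mul, h27, one_pow, one_mul] at this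
  -- the action on the 28 cosets
  let o : G ⧸ N := ((1 : G) : G ⧸ N)
  have hstab : ∀ g : G, g • o = o ↔ g ∈ N := fun g => by
    show ((g * 1 : G) : G ⧸ N) = ((1 : G) : G ⧸ N) ↔ _
    rw [QuotientGroup.eq, mul_one, mul_one, inv_mem_iff]
  have hreg : ∀ (h : H3) (p : G ⧸ N), p ≠ o → D.φ h • p = p → h = 1 := by
    intro h p hp he
    obtain ⟨g, rfl⟩ := QuotientGroup.mk_surjective p
    have e : (D.φ h • (g : G ⧸ N) : G ⧸ N) = ((D.φ h * g : G) : G ⧸ N) := rfl
    rw [e, QuotientGroup.eq] at he
    have hy : g⁻¹ * D.φ h * g ∈ N := by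
      have := inv_mem he
      simpa [mul_assoc] using this
    by_contra h1
    have hφ1 : D.φ h ≠ 1 := fun e => h1 (D.φ_inj (by rw [e, map_one]))
    have h27 : (g⁻¹ * D.φ h * g) ^ 27 = 1 := by
      have := conj_pow (a := g⁻¹) (b := D.φ h) (i := 27)
      rw [inv_inv] at this
      rw [this, orderOf_dvd_iff_pow_eq_one.1 (by
        have := orderOf_dvd_natCard (⟨_, hφP h⟩ : (P : Subgroup G))
        rwa [Subgroup.orderOf_mk, hP] at this)]
      simp
    have hyP := hpowP _ hy h27
    set Q := (P : Subgroup G).map (MulAut.conj g).toMonoidHom with hQ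
    have hQ27 : Nat.card Q = 27 :=
      (Nat.card_congr ((P : Subgroup G).equivMapOfInjective _ (MulAut.conj g).injective).toEquiv).symm.trans hP
    have hQmem : D.φ h ∈ Q := ⟨_, hyP, by simp [MulAut.conj_apply, mul_assoc]⟩
    have hQP := trivial_intersection hG hno9 hP hQ27 (hφP h) hQmem hφ1
    refine hp ?_
    rw [← mul_one g]
    refine (hstab g).2 (mem_normalizer_iff.2 fun y => ⟨fun hy => ?_, fun hy => ?_⟩)
    · rw [← hQP]; exact ⟨y, hy, rfl⟩
    · rw [← hQP] at hy
      obtain ⟨v, hv, hve⟩ := hy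
      rwa [← (MulAut.conj g).injective hve]
  have hfixo : ∀ h, D.φ h • o = o := fun h => (hstab _).2 (hPN (hφP h))
  have hindex : Nat.card (G ⧸ N) = 28 := by
    have := N.card_mul_index
    rw [hN, hG] at this
    rw [← index_eq_card]; omega
  have hneq : ∀ (h : H3) (p : G ⧸ N), p ≠ o → D.φ h • p ≠ o := fun h p hp e =>
    hp (MulAction.injective (D.φ h) (e.trans (hfixo h).symm))
  obtain ⟨p1, hp1⟩ : ∃ p : G ⧸ N, p ≠ o := by
    haveI : Nontrivial (G ⧸ N) := Finite.one_lt_card_iff_nontrivial.1 (by rw [hindex]; norm_num)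
    exact exists_ne o
  have hbij : ∀ p : G ⧸ N, p ≠ o →
      Function.Bijective (fun x : Pt => x.elim o fun h => D.φ h • p) := by
    intro p hp
    refine Function.Injective.bijective_of_nat_card_le ?_ ?_
    · rintro (_ | h) (_ | h') e <;> simp only [Option.elim] at e
      · rfl
      · exact absurd e.symm (hneq h' p hp)
      · exact absurd e (hneq h p hp)
      · have : D.φ (h'⁻¹ * h) • p = p := by
          rw [map_mul, map_inv, mul_smul, e, inv_smul_smul]
        exact congrArg some (inv_mul_eq_one.1 (hreg _ p hp this)).symm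
    · rw [hindex, Finite.card_option, H3.card_eq]
  -- the point fixed by the torus
  obtain ⟨p0, hp0, hsp0⟩ : ∃ p0 : G ⧸ N, p0 ≠ o ∧ D.s • p0 = p0 := by
    obtain ⟨x, hx⟩ := (hbij p1 hp1).2 (D.s • p1)
    rcases x with _ | h0
    · exfalso
      refine hp1 (MulAction.injective D.s ?_)
      show D.s • p1 = D.s • o
      rw [(hstab _).2 D.s_mem]
      exact hx.symm
    · obtain ⟨h, hh⟩ := fix_surj h0
      refine ⟨D.φ h • p1, hneq h p1 hp1, ?_⟩
      simp only [Option.elim] at hx
      calc D.s • D.φ h • p1 = (D.s * D.φ h * D.s⁻¹) • D.s • p1 := by simp [← mul_smul, mul_assoc]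
        _ = D.φ (H3.act 1 h) • D.φ h0 • p1 := by rw [D.s_conj, hx]
        _ = D.φ h • p1 := by rw [← mul_smul, ← map_mul, hh]
  let e : Pt ≃ G ⧸ N := Equiv.ofBijective _ (hbij p0 hp0)
  have he_none : e none = o := rfl
  have he_some : ∀ h, e (some h) = D.φ h • p0 := fun h => rfl
  have he_one : e (some 1) = p0 := by rw [he_some, map_one, one_smul]
  let θ : G →* Equiv.Perm Pt :=
    (e.symm.permCongrHom).toMonoidHom.comp (MulAction.toPermHom G (G ⧸ N))
  have hθ : ∀ g x, e (θ g x) = g • e x := fun g x => by simp [θ]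
  have hθu : ∀ h, θ (D.φ h) = leftPerm h := fun h => Equiv.ext fun x => e.injective (by
    rw [hθ]
    rcases x with _ | v
    · rw [leftPerm_none, he_none, hfixo]
    · rw [leftPerm_some, he_some, he_some, ← mul_smul, ← map_mul])
  have hsk : ∀ k : ℕ, D.s ^ k • p0 = p0 := by
    intro k
    induction k with
    | zero => simp
    | succ k ih => rw [pow_succ', mul_smul, ih, hsp0]
  have hθs : θ D.s = alphaPerm 1 := Equiv.ext fun x => e.injective (by
    rw [hθ]
    rcases x with _ | v
    · rw [alphaPerm_none, he_none, (hstab _).2 D.s_mem]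
    · rw [alphaPerm_some, he_some, he_some]
      calc D.s • D.φ v • p0 = (D.s * D.φ v * D.s⁻¹) • D.s • p0 := by simp [← mul_smul, mul_assoc]
        _ = _ := by rw [D.s_conj, hsp0])
  have hθsk : ∀ k : ZMod 8, θ (D.s ^ k.val) = alphaPerm k := fun k => by
    rw [map_pow, hθs, alphaPerm_pow, ZMod.natCast_zmod_val]
  -- elements fixing both points are powers of `s`
  have htwo : ∀ g : G, g • o = o → g • p0 = p0 → ∃ k : ZMod 8, g = D.s ^ k.val := by
    intro g hgo hgp
    obtain ⟨h, k, rfl⟩ := hdec g ((hstab g).1 hgo)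
    rw [mul_smul, hsk] at hgp
    exact ⟨k, by rw [hreg h p0 hp0 hgp, map_one, one_mul]⟩
  -- swapping elements
  obtain ⟨w1, hw1o, hw1p⟩ : ∃ w : G, w • o = p0 ∧ w • p0 = o := by
    obtain ⟨g, rfl⟩ := QuotientGroup.mk_surjective p0
    have hgo : g • o = (g : G ⧸ N) := by show ((g * 1 : G) : G ⧸ N) = _; rw [mul_one]
    have hq : g⁻¹ • o ≠ o := by
      intro h
      refine hp0 ?_
      rw [← hgo, (hstab g).2 (by simpa using (hstab g⁻¹).1 h)]
    obtain ⟨x, hx⟩ := (hbij _ hp0).2 (g⁻¹ • o)
    rcases x with _ | h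
    · exact absurd hx.symm hq
    · simp only [Option.elim] at hx
      refine ⟨g * D.φ h, by rw [mul_smul, hfixo, hgo], by rw [mul_smul, hx, smul_inv_smul]⟩
  have hswap : ∀ w : G, w • o = p0 → w • p0 = o → ∃ c : ZMod 8, c.val % 2 = 1 ∧
      ∀ x, θ w (alphaPerm 1 x) = alphaPerm c (θ w x) := by
    intro w h1 h2
    have e1 : w⁻¹ • o = p0 := inv_smul_eq_iff.2 h2.symm
    have e2 : w⁻¹ • p0 = o := inv_smul_eq_iff.2 h1.symm
    obtain ⟨c, hc⟩ := htwo (w * D.s * w⁻¹)
      (by rw [mul_smul, mul_smul, e1, hsp0, h2])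
      (by rw [mul_smul, mul_smul, e2, (hstab _).2 D.s_mem, h1])
    refine ⟨c, ?_, fun x => ?_⟩
    · by_contra hodd
      have h4 : (w * D.s * w⁻¹) ^ 4 = 1 := by
        rw [hc, ← pow_mul, show c.val * 4 = 8 * (c.val / 2) by omega, pow_mul, hs8,
          one_pow]
      rw [conj_pow, conj_eq_one_iff] at h4
      have := orderOf_dvd_iff_pow_eq_one.2 h4
      rw [D.ord_s] at this
      norm_num at this
    · rw [← hθsk c, ← hc, ← hθs, ← Equiv.Perm.mul_apply, ← Equiv.Perm.mul_apply, ← map_mul, ← map_mul,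
        inv_mul_cancel_right]
  have hwz : ∀ w : G, w • o = p0 → w • p0 = o →
      θ w (some H3.z) = some H3.z ∨ θ w (some H3.z) = some H3.z⁻¹ := by
    intro w h1 h2
    obtain ⟨c, hc, hcx⟩ := hswap w h1 h2
    have hw_one : θ w (some 1) = none := e.injective (by rw [hθ, he_one, he_none, h2])
    have hit : ∀ (i : ℕ) (x : Pt), θ w (alphaPerm (i : ZMod 8) x) = alphaPerm (c * i) (θ w x) := by
      intro i
      induction i with
      | zero =>
        intro x
        rw [Nat.cast_zero, mul_zero, show (alphaPerm 0 : Equiv.Perm Pt) = 1 from by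
          have := alphaPerm_pow 0
          simpa using this.symm]
        simp
      | succ i ih =>
        intro x
        have hadd : ∀ (a b : ZMod 8) (y : Pt), alphaPerm (a + b) y = alphaPerm a (alphaPerm b y) := by
          rintro a b (_ | y)
          · rfl
          · simp only [alphaPerm_some, H3.act_add]
        rw [Nat.cast_succ, mul_add, mul_one, hadd, hadd, ih, hcx]
    have hz4 : H3.act 4 H3.z = H3.z := by decide +kernel
    have h := hit 4 (some H3.z)
    rw [alphaPerm_some, show ((4 : ℕ) : ZMod 8) = 4 from rfl, hz4, act_four_eq c hc] at h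
    cases hv : θ w (some H3.z) with
    | none =>
      rw [← hw_one] at hv
      exact absurd (Option.some_injective _ ((θ w).injective hv)) (by decide)
    | some v =>
      rw [hv, alphaPerm_some] at h
      rcases act_four_fixed v (Option.some_injective _ h).symm with e1 | e1 | e1
      · exfalso
        have hwn : θ w none = some 1 := e.injective (by rw [hθ, he_one, he_none, h1])
        rw [e1, ← hwn] at hv
        exact Option.some_ne_none _ ((θ w).injective hv)
      · exact Or.inl (by rw [e1])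
      · exact Or.inr (by rw [e1])
  obtain ⟨w, hwo, hwp, hwz'⟩ : ∃ w : G, w • o = p0 ∧ w • p0 = o ∧ θ w (some H3.z) = some H3.z := by
    rcases hwz w1 hw1o hw1p with h | h
    · exact ⟨w1, hw1o, hw1p, h⟩
    · obtain ⟨c, hc, hcx⟩ := hswap w1 hw1o hw1p
      refine ⟨w1 * D.s, by rw [mul_smul, (hstab _).2 D.s_mem, hw1o], by rw [mul_smul, hsp0, hw1p], ?_⟩
      rw [map_mul, Equiv.Perm.mul_apply, hθs, hcx, h, alphaPerm_some, act_z_two c hc]
  obtain ⟨c, hc, hcx⟩ := hswap w hwo hwp
  obtain ⟨j, hj⟩ := htwo (w * w) (by rw [mul_smul, hwo, hwp]) (by rw [mul_smul, hwp, hwo])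
  have hw_none : θ w none = some 1 := e.injective (by rw [hθ, he_one, he_none, hwo])
  refine ⟨{
    θ := θ
    θ_inj := ?_
    u := D.φ
    θ_u := hθu
    s := D.s
    θ_s := hθs
    w := w
    w_none := hw_none
    w_one := e.injective (by rw [hθ, he_one, he_none, hwp])
    w_z := hwz'
    c := c
    c_odd := hc
    w_alpha := hcx
    j := j
    w_sq := fun x => by rw [← Equiv.Perm.mul_apply, ← map_mul, hj, hθsk]
    close := fun v v' hv => ?_
    gen := ?_ }⟩
  · rw [← MonoidHom.ker_eq_bot_iff]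
    rcases θ.normal_ker.eq_bot_or_eq_top with h | h
    · exact h
    · exfalso
      have hw : w ∈ θ.ker := by rw [h]; exact mem_top w
      rw [MonoidHom.mem_ker] at hw
      rw [hw, Equiv.Perm.one_apply] at hw_none
      exact Option.some_ne_none _ hw_none.symm
  · have hv' := congrArg e hv
    rw [hθ, he_some, he_some] at hv'
    set u := w⁻¹ * (D.φ v')⁻¹ * w * D.φ v * w with hu
    have huo : u • o = o := by
      simp only [hu, mul_smul, hwo, hv', inv_smul_smul, inv_smul_eq_iff.2 hwo.symm]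
    obtain ⟨h0, k, hk⟩ := hdec u ((hstab u).1 huo)
    refine ⟨h0, k, fun x => ?_⟩
    have key : w * D.φ v * w = D.φ v' * w * (D.φ h0 * D.s ^ k.val) := by
      rw [← hk, hu]; simp [mul_assoc]
    have h' := congrArg (fun g => θ g (some x)) key
    simp only [map_mul, Equiv.Perm.mul_apply, hθu, hθsk, alphaPerm_some, leftPerm_some] at h'
    exact h'
  · set K := closure (Set.range D.φ ∪ {D.s, w}) with hK
    have hKφ : ∀ h, D.φ h ∈ K := fun h => subset_closure (Or.inl ⟨h, rfl⟩)
    have hKs : D.s ∈ K := subset_closure (Or.inr (Or.inl rfl))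
    have hKw : w ∈ K := subset_closure (Or.inr (Or.inr rfl))
    have hKN : ∀ n ∈ N, n ∈ K := fun n hn => by
      obtain ⟨h, k, rfl⟩ := hdec n hn
      exact mul_mem (hKφ h) (pow_mem hKs _)
    rw [eq_top_iff]
    intro g _
    obtain ⟨x, hx⟩ := e.surjective (g • o)
    rcases x with _ | h
    · rw [he_none] at hx
      exact hKN g ((hstab g).1 hx.symm)
    · rw [he_some, ← hwo, ← mul_smul] at hx
      have : (D.φ h * w)⁻¹ * g ∈ N := (hstab _).1 (by rw [mul_smul, ← hx, inv_smul_smul])
      have := mul_mem (mul_mem (hKφ h) hKw) (hKN _ this)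
      rwa [mul_inv_cancel_left] at this

/-- A simple group of order 6048 without elements of order 9 is the model. -/
theorem nonempty_equiv_model {G : Type u} [Group G] [Finite G] [IsSimpleGroup G]
    (hG : Nat.card G = 6048) (hno9 : ∀ g : G, orderOf g ≠ 9) : Nonempty (G ≃* model) := by
  haveI := Fintype.ofFinite G
  obtain ⟨D⟩ := exists_frame hG hno9
  exact ⟨D.equivModel⟩

end CfsgLib.Recog.U33Unique
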