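import Cfsg.Agent.Lib.Recog.U33Unique.NoSimple12096
import Cfsg.Agent.Lib.Recog.U33Unique.Unique
import Cfsg.Agent.Lib.Recog.SpectrumSU3
import Cfsg.Agent.Lib.Recognition.PSU33.Instance
import Cfsg.Agent.Lib.Structure.MinimalNormal
import Cfsg.Agent.Lib.Hall.Solvable
import Cfsg.Agent.Lib.Small.Order2016
import Cfsg.Agent.Lib.AutPSU.Card
import Cfsg.Agent.Lib.AutPSL.FieldGalois
import Cfsg.Agent.Lib.TransLinear.Twist
import Cfsg.Agent.S0144
import Cfsg.Agent.S0976
import Cfsg.Agent.S0283

/-!
A group of order 12096 without elements of orders 9, 14 and 21 is the automorphism group of `PSU₃(3)`.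
-/

set_option autoImplicit false
set_option linter.style.haveILetI false

noncomputable section

namespace CfsgLib.Recog.U33Unique

open Cfsg Subgroup CfsgLib.Structure

universe u

variable {G : Type u} [Group G] [Finite G]

/-- The normaliser of a subgroup of order 7 has order dividing 42. -/
theorem card_normalizer_seven (hG : Nat.card G = 12096) (h14 : ∀ g : G, orderOf g ≠ 14)
    (h21 : ∀ g : G, orderOf g ≠ 21) {x : G} (hx : orderOf x = 7) :
    Nat.card (normalizer (zpowers x : Set G)) ∣ 42 := by
  set P := zpowers x with hP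
  have hPC : centralizer (P : Set G) = centralizer ({x} : Set G) := by
    rw [hP, zpowers_eq_closure, centralizer_closure]
  have hker : Nat.card P.normalizerMonoidHom.ker ∣ 7 := by
    rw [normalizerMonoidHom_ker, hPC]
    refine (Nat.card_congr (subgroupOfEquivOfLe ?_).toEquiv).dvd.trans
      (centralizer_seven hG h14 h21 hx).2.dvd
    intro g hg
    rw [(centralizer_seven hG h14 h21 hx).1] at hg
    exact le_normalizer hg
  have hran : Nat.card P.normalizerMonoidHom.range ∣ 6 := by
    have h := card_subgroup_dvd_card P.normalizerMonoidHom.range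
    rwa [IsCyclic.card_mulAut, hP, Nat.card_zpowers, hx,
      Nat.totient_prime (by norm_num : Nat.Prime 7)] at h
  rw [← card_mul_index P.normalizerMonoidHom.ker, index_ker]
  exact Nat.mul_dvd_mul hker hran

/-- A normal subgroup of order prime to 7 has order congruent to 1 modulo 7. -/
theorem card_normal_mod_seven (hG : Nat.card G = 12096) (h14 : ∀ g : G, orderOf g ≠ 14)
    (h21 : ∀ g : G, orderOf g ≠ 21) (N : Subgroup G) [N.Normal] (h7 : ¬ 7 ∣ Nat.card N) :
    Nat.card N % 7 = 1 := by
  haveI : Fact (Nat.Prime 7) := ⟨by norm_num⟩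
  obtain ⟨x, hx⟩ := exists_prime_orderOf_dvd_card' (G := G) 7 (by rw [hG]; norm_num)
  letI := MulAction.compHom N ((MulAut.conjNormal : G →* MulAut N).comp (zpowers x).subtype)
  have hp : IsPGroup 7 (zpowers x) := IsPGroup.of_card (n := 1) (by rw [Nat.card_zpowers, hx, pow_one])
  have h := hp.card_modEq_card_fixedPoints N
  have hone : MulAction.fixedPoints (zpowers x) N = {1} := by
    ext a
    constructor
    · intro ha
      have h1 : x * (a : G) * x⁻¹ = (a : G) := by
        have h2 := congrArg Subtype.val (ha ⟨x, mem_zpowers x⟩)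
        rwa [← MulAut.conjNormal_apply (H := N) x a]
      have hC : (a : G) ∈ centralizer ({x} : Set G) :=
        mem_centralizer_singleton_iff.2 (mul_inv_eq_iff_eq_mul.1 h1).symm
      rw [(centralizer_seven hG h14 h21 hx).1] at hC
      have h3 : orderOf (a : G) ∣ 7 := hx ▸ orderOf_dvd_of_mem_zpowers hC
      rcases (Nat.dvd_prime (by norm_num)).1 h3 with e | e
      · exact Subtype.ext (orderOf_eq_one_iff.1 e)
      · exact absurd ((e ▸ orderOf_coe a ▸ orderOf_dvd_natCard a : 7 ∣ Nat.card N)) h7
    · rintro rfl g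
      exact map_one (MulAut.conjNormal (g : G) : MulAut N)
  rw [hone, Nat.card_coe_set_eq, Set.ncard_singleton] at h
  exact h

/-- Such a group is not solvable. -/
theorem not_isSolvable (hG : Nat.card G = 12096) (h14 : ∀ g : G, orderOf g ≠ 14)
    (h21 : ∀ g : G, orderOf g ≠ 21) : ¬ Group.IsSolvable G := by
  intro hs
  haveI : Fact (Nat.Prime 7) := ⟨by norm_num⟩
  obtain ⟨H, hH⟩ := CfsgLib.Hall.exists_subgroup_card (G := G) (m := 189) (k := 64)
    (by rw [hG]) (by norm_num)
  obtain ⟨⟨x, hxH⟩, hx⟩ := exists_prime_orderOf_dvd_card' (G := H) 7 (by rw [hH]; norm_num)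
  rw [Subgroup.orderOf_mk] at hx
  have hp : IsPGroup 7 (zpowers (⟨x, hxH⟩ : H)) :=
    IsPGroup.of_card (n := 1) (by rw [Nat.card_zpowers, Subgroup.orderOf_mk, hx, pow_one])
  obtain ⟨P, hP⟩ := hp.exists_le_sylow
  have hPc : Nat.card P = 7 := by
    rw [Sylow.card_eq_multiplicity, hH, show (189 : ℕ) = 7 ^ 1 * 27 from rfl,
      Nat.factorization_mul (by norm_num) (by norm_num), Finsupp.add_apply, Nat.factorization_pow,
      Finsupp.smul_apply, Nat.Prime.factorization_self (by norm_num),
      Nat.factorization_eq_zero_of_not_dvd (show ¬ 7 ∣ 27 by norm_num)]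
    norm_num
  have hPx : zpowers (⟨x, hxH⟩ : H) = P :=
    eq_of_le_of_card_ge hP (by rw [Nat.card_zpowers, Subgroup.orderOf_mk, hx, hPc])
  have hn : Nat.card (Sylow 7 H) = 1 := by
    have h1 := card_sylow_modEq_one 7 H
    have h2 := P.card_dvd_index
    have h3 : (P : Subgroup H).index = 27 := by
      have := (P : Subgroup H).card_mul_index
      rw [hPc, hH] at this
      omega
    rw [h3] at h2
    have h4 : ∀ k ≤ 27, k ∣ 27 → k % 7 = 1 → k = 1 := by decide
    exact h4 _ (Nat.le_of_dvd (by norm_num) h2) h2 h1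
  haveI : (P : Subgroup H).Normal := by
    rw [← normalizer_eq_top_iff, ← index_eq_one, ← hn]; exact P.card_eq_index_normalizer.symm
  have hle : H ≤ normalizer (zpowers x : Set G) := by
    have : (zpowers x).subgroupOf H = (P : Subgroup H) := by
      rw [← hPx]
      apply map_injective H.subtype_injective
      rw [subgroupOf_map_subtype, MonoidHom.map_zpowers,
        inf_eq_left.2 (zpowers_le.2 hxH)]
      rfl
    rw [← normal_subgroupOf_iff_le_normalizer (zpowers_le.2 hxH), this]
    infer_instance
  have := (card_dvd_of_le hle).trans (card_normalizer_seven hG h14 h21 hx)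
  rw [hH] at this
  norm_num at this

theorem solvable_two_three {Q : Type*} [Group Q] [Finite Q] {a b : ℕ}
    (h : Nat.card Q = 2 ^ a * 3 ^ b) : Group.IsSolvable Q :=
  Cfsg.Agent.S0144.result 2 3 a b Nat.prime_two Nat.prime_three h

theorem solvable_three_seven {Q : Type*} [Group Q] [Finite Q] {a b : ℕ}
    (h : Nat.card Q = 3 ^ a * 7 ^ b) : Group.IsSolvable Q :=
  Cfsg.Agent.S0144.result 3 7 a b Nat.prime_three (by norm_num) h

theorem solvable_forty_two {Q : Type*} [Group Q] [Finite Q] (h : Nat.card Q = 42) :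
    Group.IsSolvable Q := by
  haveI : Fact (Nat.Prime 7) := ⟨by norm_num⟩
  let P : Sylow 7 Q := default
  have hPc : Nat.card P = 7 := by
    rw [Sylow.card_eq_multiplicity, h, show (42 : ℕ) = 7 ^ 1 * 6 from rfl,
      Nat.factorization_mul (by norm_num) (by norm_num), Finsupp.add_apply, Nat.factorization_pow,
      Finsupp.smul_apply, Nat.Prime.factorization_self (by norm_num),
      Nat.factorization_eq_zero_of_not_dvd (show ¬ 7 ∣ 6 by norm_num)]
    norm_num
  have hi : (P : Subgroup Q).index = 6 := by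
    have := (P : Subgroup Q).card_mul_index
    rw [hPc, h] at this
    omega
  have hn : Nat.card (Sylow 7 Q) = 1 := by
    have h2 := P.card_dvd_index
    rw [hi] at h2
    have h4 : ∀ k ≤ 6, k % 7 = 1 → k = 1 := by decide
    exact h4 _ (Nat.le_of_dvd (by norm_num) h2) (card_sylow_modEq_one 7 Q)
  haveI : (P : Subgroup Q).Normal := by
    rw [← normalizer_eq_top_iff, ← index_eq_one, ← hn]; exact P.card_eq_index_normalizer.symm
  rw [Group.isSolvable_iff_subgroup_quotient (P : Subgroup Q)]
  exact ⟨solvable_three_seven (a := 0) (b := 1) (by rw [hPc]; norm_num),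
    solvable_two_three (a := 1) (b := 1) (by rw [← index_eq_card, hi]; norm_num)⟩

/-- A minimal normal subgroup is not commutative. -/
theorem not_isMulCommutative (hG : Nat.card G = 12096) (h14 : ∀ g : G, orderOf g ≠ 14)
    (h21 : ∀ g : G, orderOf g ≠ 21) {T : Subgroup G} (hT : IsMinNormal T) :
    ¬ IsMulCommutative T := by
  intro hab
  haveI := hT.normal
  obtain ⟨p, hp, -, hpow⟩ := hT.exponent_prime hab
  haveI := Fact.mk hp
  have hpg : IsPGroup p T := fun a => ⟨1, Subtype.ext (by rw [pow_one]; simpa using hpow a a.2)⟩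
  obtain ⟨k, hk⟩ := IsPGroup.iff_card.1 hpg
  have hdvd : p ^ k ∣ 12096 := by
    rw [← hk, ← hG]
    exact card_subgroup_dvd_card T
  have hk0 : k ≠ 0 := fun e => hT.ne_bot (eq_bot_of_card_eq T (by rw [hk, e, pow_zero]))
  have hp237 : p = 2 ∨ p = 3 ∨ p = 7 := by
    have hd : p ∣ 2 ^ 6 * 3 ^ 3 * 7 := (dvd_pow_self p hk0).trans hdvd
    rcases (Nat.Prime.dvd_mul hp).1 hd with h | h
    · rcases (Nat.Prime.dvd_mul hp).1 h with h | h
      · exact Or.inl ((Nat.prime_dvd_prime_iff_eq hp Nat.prime_two).1 (hp.dvd_of_dvd_pow h))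
      · exact Or.inr (Or.inl ((Nat.prime_dvd_prime_iff_eq hp Nat.prime_three).1 (hp.dvd_of_dvd_pow h)))
    · exact Or.inr (Or.inr ((Nat.prime_dvd_prime_iff_eq hp (by norm_num)).1 h))
  have hk7 : k < 7 := by
    by_contra hlt
    have h128 : p ^ 7 ∣ 12096 := (pow_dvd_pow p (not_lt.1 hlt)).trans hdvd
    rcases hp237 with e | e | e <;> rw [e] at h128 <;> norm_num at h128
  rcases hp237 with e | e | e <;> subst e
  · -- elementary abelian 2-groups
    have hmod : Nat.card T % 7 = 1 := card_normal_mod_seven hG h14 h21 T (fun h => by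
      rw [hk] at h
      exact absurd ((Nat.prime_dvd_prime_iff_eq (by norm_num) hp).1
        ((by norm_num : Nat.Prime 7).dvd_of_dvd_pow h)) (by norm_num))
    rw [hk] at hmod
    obtain rfl | rfl : k = 3 ∨ k = 6 := by interval_cases k <;> simp_all
    · set C := centralizer (T : Set G) with hC
      have h7C : ¬ 7 ∣ Nat.card C := by
        intro hd
        haveI : Fact (Nat.Prime 7) := ⟨by norm_num⟩
        obtain ⟨⟨x, hxC⟩, hx⟩ := exists_prime_orderOf_dvd_card' (G := C) 7 hd
        rw [Subgroup.orderOf_mk] at hx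
        have hle : T ≤ centralizer ({x} : Set G) := fun t ht =>
          mem_centralizer_singleton_iff.2 (mem_centralizer_iff.1 hxC t ht)
        have := card_dvd_of_le hle
        rw [hk, (centralizer_seven hG h14 h21 hx).2] at this
        norm_num at this
      have hCmod := card_normal_mod_seven hG h14 h21 C h7C
      have hTC : T ≤ C := fun t ht => mem_centralizer_iff.2 fun s hs =>
        congrArg Subtype.val (hab.is_comm.comm ⟨s, hs⟩ ⟨t, ht⟩)
      have h8 : 8 ∣ Nat.card C := by
        have := card_dvd_of_le hTC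
        rwa [hk] at this
      have hind : C.index ∣ 168 := by
        letI : CommGroup T := { (inferInstance : Group T) with mul_comm := hab.is_comm.comm }
        have hA : Nat.card (MulAut T) = 168 := by
          rw [CfsgLib.TransLinear.card_mulAut_elementary hk (fun a => by
            rw [← pow_two]; exact Subtype.ext (by simpa using hpow a a.2))]
          rfl
        have hker : (MulAut.conjNormal : G →* MulAut T).ker = C := by
          ext g
          rw [MonoidHom.mem_ker, hC, mem_centralizer_iff]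
          constructor
          · intro hg t ht
            have h1 := congrArg (fun f : MulAut T => ((f ⟨t, ht⟩ : T) : G)) hg
            simp only [MulAut.conjNormal_apply, MulAut.one_apply] at h1
            exact (mul_inv_eq_iff_eq_mul.1 h1).symm
          · intro hg
            refine MulEquiv.ext fun t => Subtype.ext ?_
            rw [MulAut.conjNormal_apply, MulAut.one_apply, ← hg t t.2, mul_inv_cancel_right]
        rw [← hker, index_ker, ← hA]
        exact card_subgroup_dvd_card _
      have hmul := C.card_mul_index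
      rw [hG] at hmul
      have h42 : C.index = 42 := by
        have key : ∀ i ≤ 168, i ∣ 168 → 12096 / i % 7 = 1 → i = 42 := by decide +kernel
        refine key _ (Nat.le_of_dvd (by norm_num) hind) hind ?_
        rw [← hmul, Nat.mul_div_cancel _ (Nat.pos_of_ne_zero index_ne_zero_of_finite)]
        exact hCmod
      rw [h42] at hmul
      haveI : C.Normal := inferInstance
      refine not_isSolvable hG h14 h21 ((Group.isSolvable_iff_subgroup_quotient C).2 ⟨?_, ?_⟩)
      · exact solvable_two_three (a := 5) (b := 2) (by norm_num; omega)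
      · exact solvable_forty_two (by rw [← index_eq_card, h42])
    · have hidx : T.index = 189 := by
        have := T.card_mul_index
        rw [hk, hG] at this
        omega
      refine not_isSolvable hG h14 h21 ((Group.isSolvable_iff_subgroup_quotient T).2 ⟨?_, ?_⟩)
      · exact Group.isSolvable_of_comm hab.is_comm.comm
      · exact solvable_three_seven (a := 3) (b := 1) (by rw [← index_eq_card, hidx]; norm_num)
  · -- elementary abelian 3-groups
    have hk4 : k < 4 := by
      by_contra hlt
      have : 3 ^ 4 ∣ 12096 := (pow_dvd_pow 3 (not_lt.1 hlt)).trans hdvd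
      norm_num at this
    have hmod : Nat.card T % 7 = 1 := card_normal_mod_seven hG h14 h21 T (fun h => by
      rw [hk] at h
      exact absurd ((Nat.prime_dvd_prime_iff_eq (by norm_num) hp).1
        ((by norm_num : Nat.Prime 7).dvd_of_dvd_pow h)) (by norm_num))
    rw [hk] at hmod
    interval_cases k <;> simp_all
  · -- order seven
    have hk1 : k = 1 := by
      by_contra hne
      have : 7 ^ 2 ∣ 12096 := (pow_dvd_pow 7 (by omega)).trans hdvd
      norm_num at this
    subst hk1
    obtain ⟨⟨x, hxT⟩, hx⟩ := exists_prime_orderOf_dvd_card' (G := T) 7 (by rw [hk]; norm_num)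
    rw [Subgroup.orderOf_mk] at hx
    have hTx : zpowers x = T := eq_of_le_of_card_ge (zpowers_le.2 hxT)
      (by rw [Nat.card_zpowers, hx, hk]; norm_num)
    have := card_normalizer_seven hG h14 h21 hx
    rw [hTx, normalizer_eq_top_iff.2 hT.normal, card_top, hG] at this
    norm_num at this

/-- A minimal normal subgroup is simple, of order divisible by 7. -/
theorem isSimpleGroup_minNormal (hG : Nat.card G = 12096) (h14 : ∀ g : G, orderOf g ≠ 14)
    (h21 : ∀ g : G, orderOf g ≠ 21) {T : Subgroup G} (hT : IsMinNormal T) :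
    IsSimpleGroup T ∧ 7 ∣ Nat.card T := by
  haveI : Fact (Nat.Prime 7) := ⟨by norm_num⟩
  haveI := hT.normal
  haveI : Nontrivial T := (nontrivial_iff_ne_bot T).mpr hT.ne_bot
  obtain ⟨S, hS⟩ := exists_isMinNormal (G := T)
  have hseven : ∀ R : Subgroup T, IsMinNormal R → 7 ∣ Nat.card R := by
    intro R hR
    by_contra h7
    haveI : IsSimpleGroup R := hT.isSimpleGroup_minNormal hR
    have hd : Nat.card R ∣ 2 ^ 6 * 3 ^ 3 * 7 := by
      have h := (card_subgroup_dvd_card R).trans (card_subgroup_dvd_card T)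
      rwa [hG] at h
    obtain ⟨a, b, ha, hb, hab⟩ := Nat.dvd_mul.1
      ((Nat.Coprime.dvd_of_dvd_mul_right ((Nat.Prime.coprime_iff_not_dvd (by norm_num)).2 h7).symm hd))
    obtain ⟨i, -, rfl⟩ := (Nat.dvd_prime_pow Nat.prime_two).1 ha
    obtain ⟨j, -, rfl⟩ := (Nat.dvd_prime_pow Nat.prime_three).1 hb
    have hsol := solvable_two_three hab.symm
    have hc : IsMulCommutative R := ⟨⟨IsSimpleGroup.comm_iff_isSolvable.2 hsol⟩⟩
    exact not_isMulCommutative hG h14 h21 hT (hT.eq_center_of_isMulCommutative_sub hR hc)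
  have huniq : ∀ R : Subgroup T, IsMinNormal R → R = S := by
    intro R hR
    by_contra hne
    obtain ⟨a, ha⟩ := exists_prime_orderOf_dvd_card' (G := R) 7 (hseven R hR)
    obtain ⟨b, hb⟩ := exists_prime_orderOf_dvd_card' (G := S) 7 (hseven S hS)
    rw [← orderOf_coe, ← orderOf_coe] at ha hb
    have hcomm : Commute ((b : T) : G) ((a : T) : G) :=
      ((hR.commute hS hne a a.2 b b.2).map T.subtype).symm
    have hmem : ((b : T) : G) ∈ centralizer ({((a : T) : G)} : Set G) :=
      mem_centralizer_singleton_iff.2 hcomm.eq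
    rw [(centralizer_seven hG h14 h21 ha).1] at hmem
    obtain ⟨i, hi⟩ := mem_zpowers_iff.1 hmem
    have hbR : (b : T) ∈ R := by
      have : (b : T) = (a : T) ^ i := Subtype.ext (by rw [← hi]; simp)
      rw [this]
      exact zpow_mem a.2 i
    have h1 : (b : T) ∈ R ⊓ S := ⟨hbR, b.2⟩
    rw [hR.inf_eq_bot hS hne, mem_bot] at h1
    rw [h1, Subgroup.coe_one, orderOf_one] at hb
    norm_num at hb
  have hStop : S = ⊤ := by
    rw [← top_le_iff, ← hT.socle_eq_top]
    exact sSup_le fun R hR => (huniq R hR).le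
  subst hStop
  haveI := hT.isSimpleGroup_minNormal hS
  exact ⟨(Subgroup.topEquiv (G := T)).symm.isSimpleGroup, by
    have := hseven _ hS
    rwa [card_top] at this⟩

/-- There is a normal simple subgroup of index 2 with trivial centraliser. -/
theorem exists_simple_normal (hG : Nat.card G = 12096) (h14 : ∀ g : G, orderOf g ≠ 14)
    (h21 : ∀ g : G, orderOf g ≠ 21) :
    ∃ T : Subgroup G, ∃ _ : T.Normal,
      IsSimpleGroup T ∧ Nat.card T = 6048 ∧ centralizer (T : Set G) = ⊥ := by
  haveI : Fact (Nat.Prime 7) := ⟨by norm_num⟩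
  haveI : Nontrivial G := Finite.one_lt_card_iff_nontrivial.1 (by rw [hG]; norm_num)
  obtain ⟨T, hT⟩ := exists_isMinNormal (G := G)
  haveI := hT.normal
  obtain ⟨hs, h7⟩ := isSimpleGroup_minNormal hG h14 h21 hT
  haveI := hs
  have hmul := T.card_mul_index
  rw [hG] at hmul
  -- the Frattini argument
  let P : Sylow 7 T := default
  obtain ⟨y, hy⟩ := exists_prime_orderOf_dvd_card' (G := (P : Subgroup T)) 7 (by
    rw [Sylow.card_eq_multiplicity]
    refine dvd_pow_self 7 (Nat.pos_iff_ne_zero.1 ?_)
    exact Nat.Prime.factorization_pos_of_dvd (by norm_num) Nat.card_pos.ne' h7)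
  rw [← orderOf_coe, ← orderOf_coe] at hy
  set x : G := ((y : T) : G) with hx
  have hPx : (P : Subgroup T).map T.subtype = zpowers x := by
    refine (eq_of_le_of_card_ge (zpowers_le.2 (mem_map_of_mem T.subtype y.2) :
      zpowers x ≤ (P : Subgroup T).map T.subtype) ?_).symm
    rw [Nat.card_zpowers, hy, card_subtype]
    obtain ⟨n, hn⟩ := IsPGroup.iff_card.1 P.isPGroup'
    have hd : 7 ^ n ∣ 12096 := hn ▸ (card_subgroup_dvd_card (P : Subgroup T)).trans
      (hG ▸ card_subgroup_dvd_card T)
    rw [hn]
    rcases n with - | - | n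
    · norm_num
    · norm_num
    · have : 7 ^ 2 ∣ 12096 := (pow_dvd_pow 7 (by omega)).trans hd
      norm_num at this
  have hsup := Sylow.normalizer_sup_eq_top P
  rw [hPx] at hsup
  set N := normalizer (zpowers x : Set G) with hN
  have hidx : T.index ∣ 42 := by
    have h1 : T.relIndex (N ⊔ T) = T.relIndex N := relIndex_sup_right N T
    rw [hsup, relIndex_top_right] at h1
    rw [h1]
    exact (relIndex_dvd_card T N).trans (card_normalizer_seven hG h14 h21 hy)
  have hcardT : Nat.card T = 6048 := by
    have key : ∀ i ≤ 42, i ∣ 42 → 7 ∣ 12096 / i → i = 1 ∨ i = 2 ∨ i = 3 ∨ i = 6 := by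
      decide +kernel
    have h3 : 12096 / T.index = Nat.card T := by
      rw [← hmul, Nat.mul_div_cancel _ (Nat.pos_of_ne_zero index_ne_zero_of_finite)]
    rcases key _ (Nat.le_of_dvd (by norm_num) hidx) hidx (h3 ▸ h7) with e | e | e | e <;>
      rw [e] at h3 hmul
    · exfalso
      have hTop : T = ⊤ := index_eq_one.1 e
      subst hTop
      haveI : IsSimpleGroup G := (Subgroup.topEquiv (G := G)).isSimpleGroup_congr.1 hs
      haveI := Fintype.ofFinite G
      exact not_simple_12096 hG h14 h21
    · omega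
    · exfalso
      exact Cfsg.Agent.S0976.result (G := T) (by omega)
    · exfalso
      exact CfsgLib.Small.Order2016.card_ne (G := T) (by omega)
  refine ⟨T, hT.normal, hs, hcardT, ?_⟩
  set C := centralizer (T : Set G) with hC
  have hinf : C ⊓ T = ⊥ := by
    rcases hT.2.2 (C ⊓ T) inferInstance inf_le_right with h | h
    · exact h
    · exfalso
      have hle : T ≤ C := inf_eq_right.1 h
      exact not_isMulCommutative hG h14 h21 hT ⟨⟨fun a b =>
        Subtype.ext (mem_centralizer_iff.1 (hle b.2) a a.2)⟩⟩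
  have hC2 : Nat.card C ∣ 2 := by
    have h1 : T.relIndex C ∣ T.index := relIndex_dvd_index_of_normal T C
    rw [← inf_relIndex_left, hinf, relIndex_bot_left] at h1
    have h2 : T.index = 2 := by rw [hcardT] at hmul; omega
    rwa [h2] at h1
  have hC7 : ¬ 7 ∣ Nat.card C := fun h => by
    have := h.trans hC2
    norm_num at this
  have hmod := card_normal_mod_seven hG h14 h21 C hC7
  rcases (Nat.dvd_prime Nat.prime_two).1 hC2 with e | e
  · exact eq_bot_of_card_eq C e
  · rw [e] at hmod
    norm_num at hmod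

/-- A group of order 12096 without elements of orders 9, 14, 21 is `Aut(PSU₃(3))`. -/
theorem nonempty_equiv_mulAut {K : Type} [Field K] [Fintype K] (hK : Fintype.card K = 9)
    (hG : Nat.card G = 12096) (h9 : ∀ g : G, orderOf g ≠ 9) (h14 : ∀ g : G, orderOf g ≠ 14)
    (h21 : ∀ g : G, orderOf g ≠ 21) : Nonempty (G ≃* MulAut (Cfsg.PSU 3 K 3)) := by
  haveI : Fact (Nat.Prime 3) := ⟨Nat.prime_three⟩
  haveI : CharP K 3 := charP_of_card_eq_prime_pow (f := 2) (by rw [hK]; norm_num)
  obtain ⟨φ, hφ⟩ := Recog.SU33.exists_hom hK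
  have hcP : Nat.card (Cfsg.PSU 3 K 3) = 6048 := by
    rw [Nat.card_congr (CfsgLib.Recognition.PSU33.psuEquivSU φ).toEquiv, CfsgLib.Recognition.PSU33.card_SU33 hK]
  haveI : Finite (Cfsg.PSU 3 K 3) := Nat.finite_of_card_ne_zero (by rw [hcP]; norm_num)
  haveI : IsSimpleGroup (Cfsg.PSU 3 K 3) :=
    Cfsg.Agent.S0283.result (q := 3) (by rw [hK]; norm_num) 3 le_rfl (by norm_num)
  have hP9 : ∀ g : Cfsg.PSU 3 K 3, orderOf g ≠ 9 := fun g hg => by
    have hmem : orderOf g ∈ Set.range (orderOf : Cfsg.PSU 3 K 3 → ℕ) := ⟨_, rfl⟩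
    rw [Recog.SU33.range_orderOf_psu33 hK, hg] at hmem
    revert hmem
    decide
  obtain ⟨T, hTn, hs, hT, hC⟩ := exists_simple_normal hG h14 h21
  haveI := hs
  obtain ⟨e₁⟩ := nonempty_equiv_model hT (fun g => by rw [← orderOf_coe]; exact h9 g)
  obtain ⟨e₂⟩ := nonempty_equiv_model hcP hP9
  let e : T ≃* Cfsg.PSU 3 K 3 := e₁.trans e₂.symm
  let f : G →* MulAut (Cfsg.PSU 3 K 3) := (MulAut.congr e).toMonoidHom.comp MulAut.conjNormal
  have hf : Function.Injective f := by
    rw [injective_iff_map_eq_one]
    intro g hg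
    have hg1 : (MulAut.conjNormal g : MulAut T) = 1 :=
      (MulAut.congr e).injective (hg.trans (map_one _).symm)
    rw [← mem_bot, ← hC, mem_centralizer_iff]
    intro t ht
    have h1 := congrArg (fun f : MulAut T => ((f ⟨t, ht⟩ : T) : G)) hg1
    simp only [MulAut.conjNormal_apply, MulAut.one_apply] at h1
    exact (mul_inv_eq_iff_eq_mul.1 h1).symm
  have hA : Nat.card (MulAut (Cfsg.PSU 3 K 3)) = 12096 := by
    have h := CfsgLib.AutPSU.card_mulAut (F := K) (q := 3) (m := 1) (by rw [hK]; norm_num) le_rfl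
      (fun _ => le_rfl)
    rw [CfsgLib.FieldGalois.card_ringAut (p := 3) (f := 2) (by rw [hK]; norm_num)] at h
    rw [show (1 + 2 : ℕ) = 3 from rfl] at h
    rw [h, hcP]
    norm_num
  haveI : Finite (MulAut (Cfsg.PSU 3 K 3)) := Nat.finite_of_card_ne_zero (by rw [hA]; norm_num)
  exact ⟨MulEquiv.ofBijective f
    ((Nat.bijective_iff_injective_and_card f).2 ⟨hf, hG.trans hA.symm⟩)⟩

end CfsgLib.Recog.U33Unique
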