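import Cfsg.Agent.Lib.Recog.U33Unique.Degrees
import Cfsg.Agent.Lib.Blocks.DefectZeroVanish
import Cfsg.Agent.S0985

/-!
The Sylow 3-subgroups of a simple group of order 6048 without elements of order 9 are trivial
intersection subgroups of index 224 with normaliser of order 216.
-/

set_option autoImplicit false

noncomputable section

namespace CfsgLib.Recog.U33Unique

open Cfsg CfsgLib.Characters CfsgLib.ClassCount Subgroup
open scoped ComplexConjugate

universe u

variable {G : Type u} [Group G] [Fintype G] [IsSimpleGroup G]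

/-- The local structure at a subgroup of order 27. -/
structure ThreeLocal (P : Subgroup G) where
  z : G
  z_mem : z ∈ P
  ord_z : orderOf z = 3
  z_comm : ∀ q ∈ P, z * q = q * z
  cz : Nat.card (centralizer ({z} : Set G)) ∣ 108
  cz_unique : ∀ Q : Subgroup G, Nat.card Q = 27 → Q ≤ centralizer ({z} : Set G) → Q = P
  noncentral : ∀ y ∈ P, y ∉ zpowers z →
    centralizer ({y} : Set G) ≤ P ∧ Nat.card (centralizer ({y} : Set G)) = 9

theorem values_three (hG : Nat.card G = 6048) {x : G} (hx : orderOf x = 7) (T : Table x) {g : G}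
    (hg : orderOf g = 3) :
    (T.c27 : G → ℂ) g = 0 ∧
      (((T.c6 : G → ℂ) g = 0 ∧ (T.c32 : G → ℂ) g = -1 ∧ ¬ 27 ∣ Nat.card (centralizer ({g} : Set G)) ∧
          Nat.card (centralizer ({g} : Set G)) ∣ 9) ∨
        ((T.c6 : G → ℂ) g = -3 ∧ (T.c32 : G → ℂ) g = -4)) := by
  have hoff : OffClass x g := offClass_of_orderOf hx (by rw [hg]; norm_num)
  have hb : (T.c27 : G → ℂ) g = 0 := by
    have : Fact (Nat.Prime 3) := ⟨Nat.prime_three⟩
    refine DefectZeroVanish.vanish_of_defect_zero T.c27 ?_ (by rw [hg])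
    obtain ⟨S⟩ := (inferInstance : Nonempty (Sylow 3 G))
    rw [← S.card_eq_multiplicity, T.d27, Small.card_sylow_of_card_eq (k := 3) (m := 224)
      (by rw [hG]; norm_num) (by norm_num) S]
    norm_num
  refine ⟨hb, ?_⟩
  obtain ⟨k, m, hk, hkm⟩ := three_value T.c6 hg (T.real6 g)
  rw [T.d6] at hkm
  have hc : (T.c32 : G → ℂ) g = (k : ℂ) - 1 := by rw [T.rel g hoff, hk, hb, add_zero]
  have hg1 : g ≠ 1 := fun e => by rw [e, orderOf_one] at hg; omega
  obtain ⟨j, hj⟩ := T.count g g hg1 hoff hoff
  rw [hk, hb, hc] at hj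
  set C := Nat.card (centralizer ({g} : Set G)) with hC
  have hj' : ((j * C * C : ℕ) : ℤ) = 891 - 54 * k - 117 * k ^ 2 := by
    have : (((j * C * C : ℕ) : ℤ) : ℂ) = ((891 - 54 * k - 117 * k ^ 2 : ℤ) : ℂ) := by
      push_cast
      linear_combination hj
    exact_mod_cast this
  have hk3 : k ≤ 2 := by
    by_contra h
    have h3 : 3 ≤ k := by omega
    have : (0 : ℤ) ≤ ((j * C * C : ℕ) : ℤ) := Int.natCast_nonneg _
    nlinarith
  rcases (show k = 0 ∨ k = -3 by omega) with e | e
  · left
    subst e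
    norm_num at hj'
    have hn : j * C * C = 891 := by exact_mod_cast hj'
    have h3 : 3 ∣ C := hg ▸ (by
      have := orderOf_dvd_natCard (⟨g, mem_centralizer_singleton_iff.2 rfl⟩ : centralizer ({g} : Set G))
      rwa [Subgroup.orderOf_mk] at this)
    have hdvd : C * C ∣ 891 := ⟨j, by rw [← hn]; ring⟩
    have hle : C ≤ 29 := by
      by_contra h
      have := Nat.le_of_dvd (by norm_num) hdvd
      nlinarith
    refine ⟨by rw [hk]; simp, by rw [hc]; simp, ?_, ?_⟩ <;>
      interval_cases C <;> first | omega | (norm_num at hdvd; done) | norm_num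
  · right
    subst e
    exact ⟨by rw [hk]; simp, by rw [hc]; norm_num⟩

/-- Two different conjugates of a subgroup of order 27 inside a group of order dividing 108. -/
theorem eq_of_le_cz {P Q C : Subgroup G} (hP : Nat.card P = 27) (hQ : Nat.card Q = 27)
    (hPC : P ≤ C) (hQC : Q ≤ C) (hC : Nat.card C ∣ 108) {z : G} (hz : orderOf z = 3)
    (hy : ∀ y ∈ P, y ∉ zpowers z → Nat.card (centralizer ({y} : Set G)) = 9)
    (hzQ : z ∈ Q) (hzP : z ∈ P) (hCz : C ≤ centralizer ({z} : Set G)) : Q = P := by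
  classical
  by_contra hne
  have hPQ : ¬ P ≤ Q := fun h => hne (eq_of_le_of_card_ge h (by rw [hP, hQ])).symm
  set D := P ⊓ Q with hD
  have hDP : D ≤ P := inf_le_left
  have hDQ : D ≤ Q := inf_le_right
  -- `D` has order 9
  have hmul : Nat.card D * D.relIndex P = 27 := by
    rw [← relIndex_bot_left, relIndex_mul_relIndex ⊥ D P bot_le hDP, relIndex_bot_left, hP]
  have hr : D.relIndex P ≤ 4 := by
    rw [hD, inf_comm, inf_relIndex_right]
    refine le_trans (relIndex_le_of_le_right hPC ?_) ?_
    · exact fun h => absurd h (ne_of_gt (Nat.pos_of_ne_zero fun e => by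
        have := relIndex_bot_left C ▸ relIndex_mul_relIndex ⊥ Q C bot_le hQC
        rw [e, mul_zero] at this
        exact Nat.card_pos.ne' this.symm))
    · have := relIndex_bot_left C ▸ relIndex_mul_relIndex ⊥ Q C bot_le hQC
      rw [relIndex_bot_left, hQ] at this
      have := Nat.le_of_dvd (by norm_num) hC
      omega
  have hD9 : Nat.card D = 9 := by
    have hd : Nat.card D ∣ 27 := Dvd.intro _ hmul
    obtain ⟨i, hi, e⟩ := (Nat.dvd_prime_pow Nat.prime_three).1 (show Nat.card D ∣ 3 ^ 3 by simpa using hd)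
    have hne27 : Nat.card D ≠ 27 := fun h =>
      hPQ (by rw [← eq_of_le_of_card_ge hDP (by rw [h, hP])]; exact hDQ)
    rw [e] at hmul hne27 ⊢
    interval_cases i <;> omega
  have hnorm : ∀ R : Subgroup G, Nat.card R = 27 → D ≤ R → R ≤ normalizer (D : Set G) := by
    intro R hR hDR
    have hi : (D.subgroupOf R).index = 3 := by
      have := (D.subgroupOf R).card_mul_index
      rw [Nat.card_congr (subgroupOfEquivOfLe hDR).toEquiv, hD9, hR] at this
      omega
    have : (D.subgroupOf R).Normal := normal_of_index_eq_minFac_card (by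
      rw [hi, hR, show (27 : ℕ) = 3 ^ 3 from rfl, Nat.Prime.pow_minFac Nat.prime_three (by norm_num)])
    exact (normal_subgroupOf_iff_le_normalizer hDR).1 this
  set M := C ⊓ normalizer (D : Set G) with hM
  have hPM : P ≤ M := le_inf hPC (hnorm P hP hDP)
  have hQM : Q ≤ M := le_inf hQC (hnorm Q hQ hDQ)
  -- the orbit of a noncentral element of `D`
  have hzD : zpowers z ≤ D := zpowers_le.2 ⟨hzP, hzQ⟩
  obtain ⟨y, hyD, hyz⟩ : ∃ y ∈ D, y ∉ zpowers z := by
    by_contra h
    push Not at h
    have := card_le_of_le (show D ≤ zpowers z from h)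
    rw [hD9, Nat.card_zpowers, hz] at this
    omega
  haveI : Fintype M := Fintype.ofFinite _
  have hcard : Nat.card M ≤ 9 * 6 := by
    let f : M → G := fun m => (m : G) * y * (m : G)⁻¹
    have h1 := Finset.card_le_mul_card_image (f := f) Finset.univ 9 fun a ha => by
      obtain ⟨m0, -, rfl⟩ := Finset.mem_image.1 ha
      rw [← hy y (hDP hyD) hyz, Nat.card_eq_fintype_card, ← Finset.card_univ]
      have hm : ∀ m ∈ Finset.univ.filter (fun m => f m = f m0),
          (m0 : G)⁻¹ * (m : G) ∈ centralizer ({y} : Set G) := fun m hm => by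
        have h : (m : G) * y * (m : G)⁻¹ = m0 * y * (m0 : G)⁻¹ := (Finset.mem_filter.1 hm).2
        rw [mem_centralizer_singleton_iff]
        calc (m0 : G)⁻¹ * m * y = (m0 : G)⁻¹ * (m * y * (m : G)⁻¹) * m := by group
          _ = y * ((m0 : G)⁻¹ * m) := by rw [h]; group
      refine Finset.card_le_card_of_injOn
        (fun m => if hm' : (m0 : G)⁻¹ * (m : G) ∈ centralizer ({y} : Set G) then ⟨_, hm'⟩ else 1)
        (fun m _ => Finset.mem_coe.2 (Finset.mem_univ _)) fun a ha b hb e => ?_
      simp only [dif_pos (hm a ha), dif_pos (hm b hb)] at e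
      exact Subtype.ext (mul_left_cancel (congrArg Subtype.val e))
    have hsub : Finset.univ.image f ⊆ (Finset.univ.filter (· ∈ D)) \ (Finset.univ.filter (· ∈ zpowers z)) := by
      intro a ha
      obtain ⟨m, -, rfl⟩ := Finset.mem_image.1 ha
      simp only [Finset.mem_sdiff, Finset.mem_filter, Finset.mem_univ, true_and]
      refine ⟨(mem_normalizer_iff.1 m.2.2 y).1 hyD, fun hmem => hyz ?_⟩
      have hzm : ∀ w ∈ zpowers z, (m : G) * w = w * m := by
        intro w hw
        obtain ⟨i, rfl⟩ := mem_zpowers_iff.1 hw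
        exact ((show Commute (m : G) z from mem_centralizer_singleton_iff.1 (hCz m.2.1)).zpow_right i).eq
      have h := hzm _ hmem
      have e : (m : G) * y * (m : G)⁻¹ = y := by
        calc (m : G) * y * (m : G)⁻¹ = (m : G)⁻¹ * (f m * (m : G)) := by
              rw [← h, inv_mul_cancel_left]
          _ = y := by simp [f, mul_assoc]
      simpa [f, e] using hmem
    have h2 := Finset.card_le_card hsub
    rw [Finset.card_sdiff_of_subset (by intro a ha; simpa using hzD (Finset.mem_filter.1 ha).2)] at h2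
    rw [← Fintype.card_subtype, ← Fintype.card_subtype, ← Nat.card_eq_fintype_card,
      ← Nat.card_eq_fintype_card] at h2
    rw [show Nat.card {a // a ∈ D} = 9 from hD9,
      show Nat.card {a // a ∈ zpowers z} = 3 from (Nat.card_zpowers z).trans hz] at h2
    rw [Finset.card_univ, ← Nat.card_eq_fintype_card] at h1
    calc Nat.card M ≤ _ := h1
      _ ≤ 9 * 6 := Nat.mul_le_mul_left 9 h2
  -- but `M` contains two subgroups of order 27
  have h27 : 27 ∣ Nat.card M := hP ▸ card_dvd_of_le hPM
  have hM108 : Nat.card M ∣ 108 := (card_dvd_of_le inf_le_left).trans hC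
  have hM27 : Nat.card M ≠ 27 := fun h =>
    hne ((eq_of_le_of_card_ge hQM (by rw [h, hQ])).trans (eq_of_le_of_card_ge hPM (by rw [h, hP])).symm)
  obtain ⟨i, hi⟩ := h27
  have hM54 : Nat.card M = 54 := by
    rw [hi] at hcard hM27 ⊢
    have : 0 < i := by
      rcases Nat.eq_zero_or_pos i with e | e
      · rw [e, mul_zero] at hi; exact absurd hi Nat.card_pos.ne'
      · exact e
    omega
  have hi2 : (P.subgroupOf M).index = 2 := by
    have := (P.subgroupOf M).card_mul_index
    rw [Nat.card_congr (subgroupOfEquivOfLe hPM).toEquiv, hP, hM54] at this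
    omega
  have : (P.subgroupOf M).Normal := normal_of_index_eq_two hi2
  have hsq : ∀ q ∈ Q, q ^ 2 ∈ P := fun q hq => by
    have h := pow_index_mem (P.subgroupOf M) (⟨q, hQM hq⟩ : M)
    rwa [hi2] at h
  refine hne (eq_of_le_of_card_ge (fun q hq => ?_) (by rw [hP, hQ]))
  have h27q : q ^ 27 = 1 := by
    have := orderOf_dvd_natCard (⟨q, hq⟩ : Q)
    rw [Subgroup.orderOf_mk, hQ] at this
    exact orderOf_dvd_iff_pow_eq_one.1 this
  have : q = (q ^ 2) ^ 14 := by rw [← pow_mul, show 2 * 14 = 27 + 1 from rfl, pow_succ, h27q, one_mul]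
  rw [this]
  exact pow_mem (hsq q hq) 14

set_option maxHeartbeats 1000000 in
theorem exists_local (hG : Nat.card G = 6048) (hno9 : ∀ g : G, orderOf g ≠ 9) (P : Subgroup G)
    (hP : Nat.card P = 27) : Nonempty (ThreeLocal P) := by
  classical
  have : Fact (Nat.Prime 3) := ⟨Nat.prime_three⟩
  obtain ⟨x, hx, ⟨T⟩⟩ := exists_table hG hno9
  have hord : ∀ g ∈ P, g ≠ 1 → orderOf g = 3 := fun g hg h1 => exponent_three hno9 hP hg h1
  -- the sum of `c6` over `P`
  set S := (Finset.univ.filter fun g : G => g ∈ P ∧ g ≠ 1 ∧ (T.c6 : G → ℂ) g = -3) with hS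
  have hS2 : S.card = 2 := by
    haveI : Fintype P := Fintype.ofFinite _
    obtain ⟨m, hm⟩ := twisted_mult T.c6 P 1
    simp only [MonoidHom.one_apply, Units.val_one, mul_one] at hm
    rw [← Finset.add_sum_erase _ _ (Finset.mem_univ (1 : P)), OneMemClass.coe_one, (degree_eq T.c6).1,
      T.d6, hP] at hm
    rw [Finset.sum_congr rfl (g := fun g : P => if (T.c6 : G → ℂ) g = -3 then (-3 : ℂ) else 0)
      (fun g hg => by
        have h1 : (g : G) ≠ 1 := fun e => (Finset.mem_erase.1 hg).1 (Subtype.ext e)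
        rcases (values_three hG hx T (hord g g.2 h1)).2 with ⟨h, -⟩ | ⟨h, -⟩
        · rw [h, if_neg (by norm_num)]
        · rw [h, if_pos rfl]), ← Finset.sum_filter, Finset.sum_const, nsmul_eq_mul] at hm
    have hn : ((Finset.univ.erase (1 : P)).filter fun g : P => (T.c6 : G → ℂ) g = -3).card = S.card := by
      refine Finset.card_bij (fun g _ => (g : G)) (fun g hg => ?_) (fun a _ b _ e => by exact Subtype.ext e)
        fun g hg => ?_
      · obtain ⟨h1, h2⟩ := Finset.mem_filter.1 hg
        exact Finset.mem_filter.2 ⟨Finset.mem_univ _, g.2,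
          fun e => (Finset.mem_erase.1 h1).1 (Subtype.ext e), h2⟩
      · obtain ⟨-, h1, h2, h3⟩ := Finset.mem_filter.1 hg
        exact ⟨⟨g, h1⟩, Finset.mem_filter.2 ⟨Finset.mem_erase.2
          ⟨fun e => h2 (congrArg Subtype.val e), Finset.mem_univ _⟩, h3⟩, rfl⟩
    rw [hn] at hm
    have : (((6 : ℤ) - 3 * S.card : ℤ) : ℂ) = ((27 * m : ℕ) : ℤ) := by
      push_cast at hm ⊢
      linear_combination hm
    have := Int.cast_injective this
    omega
  -- the centre
  haveI : Nontrivial P := Finite.one_lt_card_iff_nontrivial.1 (by rw [hP]; norm_num)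
  have hPp : IsPGroup 3 P := IsPGroup.of_card (n := 3) (by rw [hP]; norm_num)
  have hZ := hPp.center_nontrivial
  obtain ⟨⟨⟨z, hzP⟩, hzZ⟩, hz⟩ := exists_prime_orderOf_dvd_card' (G := center P) 3 (by
    obtain ⟨i, hi⟩ := IsPGroup.iff_card.1 (hPp.to_subgroup (center P))
    rw [hi]
    refine dvd_pow_self 3 fun e0 => ?_
    rw [e0, pow_zero] at hi
    exact absurd hi (Finite.one_lt_card_iff_nontrivial.2 hZ).ne')
  rw [Subgroup.orderOf_mk, Subgroup.orderOf_mk] at hz
  have hzc : ∀ q ∈ P, z * q = q * z := fun q hq =>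
    (congrArg Subtype.val (Subgroup.mem_center_iff.1 hzZ ⟨q, hq⟩)).symm
  have hPC : P ≤ centralizer ({z} : Set G) := fun q hq => mem_centralizer_singleton_iff.2 (hzc q hq).symm
  have h27 : 27 ∣ Nat.card (centralizer ({z} : Set G)) := hP ▸ card_dvd_of_le hPC
  have hz1 : z ≠ 1 := fun e => by rw [e, orderOf_one] at hz; omega
  obtain ⟨hzb, hza | ⟨hza, hzcv⟩⟩ := values_three hG hx T hz
  · exact absurd h27 hza.2.2.1
  have hzz : z⁻¹ ≠ z := fun e => by
    have : z ^ 2 = 1 := by rw [pow_two]; nth_rw 1 [← e]; rw [inv_mul_cancel]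
    have := orderOf_dvd_iff_pow_eq_one.2 this
    rw [hz] at this
    norm_num at this
  have hSeq : S = {z, z⁻¹} := by
    refine (Finset.eq_of_subset_of_card_le ?_ (by rw [hS2, Finset.card_pair hzz.symm])).symm
    intro g hg
    rcases Finset.mem_insert.1 hg with rfl | hg
    · exact Finset.mem_filter.2 ⟨Finset.mem_univ _, hzP, hz1, hza⟩
    · rw [Finset.mem_singleton] at hg
      subst hg
      refine Finset.mem_filter.2 ⟨Finset.mem_univ _, inv_mem hzP, inv_ne_one.2 hz1, ?_⟩
      rw [irr_apply_inv, hza, show (-3 : ℂ) = ((-3 : ℤ) : ℂ) by norm_num, map_intCast]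
  have hnon : ∀ y ∈ P, y ∉ zpowers z →
      centralizer ({y} : Set G) ≤ P ∧ Nat.card (centralizer ({y} : Set G)) = 9 ∧
        (T.c6 : G → ℂ) y = 0 := by
    intro y hy hyz
    have hy1 : y ≠ 1 := fun e => hyz (e ▸ one_mem _)
    rcases (values_three hG hx T (hord y hy hy1)).2 with ⟨ha, -, -, hC⟩ | ⟨ha, -⟩
    · set C := centralizer ({y} : Set G) with hCdef
      have h1 : zpowers z ≤ C ⊓ P := zpowers_le.2 ⟨mem_centralizer_singleton_iff.2 (hzc y hy), hzP⟩
      have h2 : y ∈ C ⊓ P := ⟨mem_centralizer_singleton_iff.2 rfl, hy⟩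
      have h9 : Nat.card (C ⊓ P : Subgroup G) = 9 := by
        have hd : Nat.card (C ⊓ P : Subgroup G) ∣ 9 := (card_dvd_of_le inf_le_left).trans hC
        obtain ⟨i, hi, e⟩ := (Nat.dvd_prime_pow Nat.prime_three).1
          (show Nat.card (C ⊓ P : Subgroup G) ∣ 3 ^ 2 by simpa using hd)
        have h3 : 3 < Nat.card (C ⊓ P : Subgroup G) := by
          by_contra h
          have := eq_of_le_of_card_ge h1 (by rw [Nat.card_zpowers, hz]; omega)
          exact hyz (this ▸ h2)
        rw [e] at h3 ⊢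
        interval_cases i <;> omega
      have hle : Nat.card C ≤ 9 := Nat.le_of_dvd (by norm_num) hC
      have he := eq_of_le_of_card_ge (inf_le_left : C ⊓ P ≤ C) (by omega)
      exact ⟨he ▸ inf_le_right, by rw [← he, h9], ha⟩
    · have : y ∈ S := Finset.mem_filter.2 ⟨Finset.mem_univ _, hy, hy1, ha⟩
      rw [hSeq] at this
      rcases Finset.mem_insert.1 this with e | e
      · exact absurd (e ▸ mem_zpowers z) hyz
      · exact absurd ((Finset.mem_singleton.1 e) ▸ inv_mem (mem_zpowers z)) hyz
  -- the order of the centraliser of `z`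
  obtain ⟨y, hy, hyz⟩ : ∃ y ∈ P, y ∉ zpowers z := by
    by_contra h
    push Not at h
    have := card_le_of_le (show P ≤ zpowers z from h)
    rw [hP, Nat.card_zpowers, hz] at this
    omega
  obtain ⟨-, hy9, hya⟩ := hnon y hy hyz
  have hoz : OffClass x z := offClass_of_orderOf hx (by rw [hz]; norm_num)
  have hy1 : y ≠ 1 := fun e => hyz (e ▸ one_mem _)
  have hoy : OffClass x y := offClass_of_orderOf hx (by rw [hord y hy hy1]; norm_num)
  obtain ⟨k, hk⟩ := T.count z y hz1 hoz hoy
  have hyc : (T.c32 : G → ℂ) y = -1 := by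
    rw [T.rel y hoy, hya, (values_three hG hx T (hord y hy hy1)).1]; norm_num
  rw [hza, hzb, hzcv, hya, hyc, (values_three hG hx T (hord y hy hy1)).1, hy9] at hk
  have hk' : k * Nat.card (centralizer ({z} : Set G)) * 9 = 972 := by
    have : ((k * Nat.card (centralizer ({z} : Set G)) * 9 : ℕ) : ℂ) = ((972 : ℕ) : ℂ) := by
      push_cast; linear_combination hk
    exact_mod_cast this
  have hcz : Nat.card (centralizer ({z} : Set G)) ∣ 108 := Dvd.intro_left k (by omega)
  refine ⟨⟨z, hzP, hz, hzc, hcz, fun Q hQ hQC => ?_, fun w hw hwz => ⟨(hnon w hw hwz).1, (hnon w hw hwz).2.1⟩⟩⟩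
  have hzQ : z ∈ Q := by
    by_contra hzQ
    -- otherwise `Q` and `⟨z⟩` generate a subgroup of order 81
    let f : Q × zpowers z → centralizer ({z} : Set G) := fun p =>
      ⟨(p.1 : G) * p.2, mul_mem (hQC p.1.2) (zpowers_le.2 (mem_centralizer_singleton_iff.2 rfl) p.2.2)⟩
    have hinj : Function.Injective f := by
      rintro ⟨a, b⟩ ⟨a', b'⟩ e
      have e' : (a : G) * b = a' * b' := congrArg Subtype.val e
      have hmem : (a' : G)⁻¹ * a ∈ Q ⊓ zpowers z := by
        refine Subgroup.mem_inf.2 ⟨mul_mem (inv_mem a'.2) a.2, ?_⟩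
        show (a' : G)⁻¹ * a ∈ zpowers z
        rw [show (a' : G)⁻¹ * a = b' * (b : G)⁻¹ by
          rw [eq_mul_inv_iff_mul_eq, mul_assoc, e', inv_mul_cancel_left]]
        exact mul_mem b'.2 (inv_mem b.2)
      have hbot : Q ⊓ zpowers z = ⊥ := by
        have hd : Nat.card (Q ⊓ zpowers z : Subgroup G) ∣ 3 := by
          have := card_dvd_of_le (inf_le_right : Q ⊓ zpowers z ≤ zpowers z)
          rwa [Nat.card_zpowers, hz] at this
        rcases (Nat.dvd_prime Nat.prime_three).1 hd with h | h
        · exact Subgroup.eq_bot_of_card_eq _ h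
        · have := eq_of_le_of_card_ge (inf_le_right : Q ⊓ zpowers z ≤ zpowers z)
            (by rw [Nat.card_zpowers, hz, h])
          have hz' : z ∈ Q ⊓ zpowers z := by rw [this]; exact mem_zpowers z
          exact absurd hz'.1 hzQ
      rw [hbot, mem_bot, inv_mul_eq_one] at hmem
      obtain rfl : a' = a := Subtype.ext hmem
      exact Prod.ext rfl (Subtype.ext (mul_left_cancel e'))
    have hle := Nat.card_le_card_of_injective f hinj
    rw [Nat.card_prod, hQ, Nat.card_zpowers, hz] at hle
    have h81 : Nat.card (centralizer ({z} : Set G)) = 108 := by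
      obtain ⟨i, hi⟩ := h27
      have := Nat.le_of_dvd (by norm_num) hcz
      rw [hi] at hle this hcz ⊢
      have : i ≤ 4 := by omega
      interval_cases i <;> omega
    -- a Sylow subgroup of the centraliser containing `Q`
    have hQP : IsPGroup 3 (Q.subgroupOf (centralizer ({z} : Set G))) :=
      IsPGroup.of_card (n := 3) (by rw [Nat.card_congr (subgroupOfEquivOfLe hQC).toEquiv, hQ]; norm_num)
    obtain ⟨R, hR⟩ := hQP.exists_le_sylow
    have hR27 : Nat.card (R : Subgroup (centralizer ({z} : Set G))) = 27 :=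
      (Small.card_sylow_of_card_eq (k := 3) (m := 4) (by rw [h81]; norm_num) (by norm_num) R).trans (by norm_num)
    have hQR := eq_of_le_of_card_ge hR (by rw [hR27, Nat.card_congr (subgroupOfEquivOfLe hQC).toEquiv, hQ])
    -- a central element of order three lies in every Sylow subgroup
    let zz : centralizer ({z} : Set G) := ⟨z, mem_centralizer_singleton_iff.2 rfl⟩
    have hzz : IsPGroup 3 (zpowers zz) := IsPGroup.of_card (n := 1) (by
      rw [Nat.card_zpowers, Subgroup.orderOf_mk, hz, pow_one])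
    have hn : (zpowers zz).Normal := ⟨fun a ha g => by
      obtain ⟨i, rfl⟩ := mem_zpowers_iff.1 ha
      rw [← conj_zpow]
      have : g * zz * g⁻¹ = zz := Subtype.ext (by
        show (g : G) * z * (g : G)⁻¹ = z
        rw [mem_centralizer_singleton_iff.1 g.2, mul_inv_cancel_right])
      rw [this]
      exact zpow_mem (mem_zpowers zz) i⟩
    have hle' := hzz.le_sylow_of_normal R
    exact hzQ (mem_subgroupOf.1 (hQR ▸ hle' (mem_zpowers zz)))
  exact eq_of_le_cz hP hQ hPC hQC hcz hz (fun w hw hwz => (hnon w hw hwz).2.1) hzQ hzP le_rfl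

theorem trivial_intersection (hG : Nat.card G = 6048) (hno9 : ∀ g : G, orderOf g ≠ 9)
    {P Q : Subgroup G} (hP : Nat.card P = 27) (hQ : Nat.card Q = 27) {y : G} (hyP : y ∈ P)
    (hyQ : y ∈ Q) (hy : y ≠ 1) : Q = P := by
  obtain ⟨L⟩ := exists_local hG hno9 P hP
  obtain ⟨M⟩ := exists_local hG hno9 Q hQ
  have hzp : ∀ w : G, orderOf w = 3 → ∀ v ∈ zpowers w, v ≠ 1 → zpowers v = zpowers w := by
    intro w hw v hv hv1
    have : Fact (Nat.Prime 3) := ⟨Nat.prime_three⟩
    exact (Small.eq_zpowers_of_mem (show Nat.card (zpowers w) = 3 by rw [Nat.card_zpowers, hw]) hv hv1).symm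
  have hsame : ∀ v : G, v ≠ 1 → v ∈ zpowers L.z → (∀ q ∈ Q, q * v = v * q) → Q = P := by
    intro v hv1 hv hcomm
    refine L.cz_unique Q hQ fun q hq => ?_
    rw [mem_centralizer_singleton_iff]
    obtain ⟨i, hi⟩ := mem_zpowers_iff.1
      ((hzp _ L.ord_z v hv hv1).symm ▸ mem_zpowers L.z : L.z ∈ zpowers v)
    rw [← hi]
    exact ((show Commute q v from hcomm q hq).zpow_right i).eq
  have hMc : ∀ v ∈ zpowers M.z, ∀ q ∈ Q, q * v = v * q := by
    intro v hv q hq
    obtain ⟨i, rfl⟩ := mem_zpowers_iff.1 hv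
    exact ((show Commute q M.z from (M.z_comm q hq).symm).zpow_right i).eq
  by_cases hyM : y ∈ zpowers M.z
  · by_cases hyL : y ∈ zpowers L.z
    · exact hsame y hy hyL (hMc y hyM)
    · exfalso
      have hQC : Q ≤ centralizer ({y} : Set G) := fun q hq =>
        mem_centralizer_singleton_iff.2 (hMc y hyM q hq)
      have := card_le_of_le hQC
      rw [(L.noncentral y hyP hyL).2, hQ] at this
      omega
  · by_cases hyL : y ∈ zpowers L.z
    · exfalso
      have hPC : P ≤ centralizer ({y} : Set G) := fun q hq => by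
        obtain ⟨i, rfl⟩ := mem_zpowers_iff.1 hyL
        exact mem_centralizer_singleton_iff.2
          ((show Commute q L.z from (L.z_comm q hq).symm).zpow_right i).eq
      have := card_le_of_le hPC
      rw [(M.noncentral y hyQ hyM).2, hP] at this
      omega
    · have hzP : M.z ∈ P := (L.noncentral y hyP hyL).1
        (mem_centralizer_singleton_iff.2 (M.z_comm y hyQ))
      have hM1 : M.z ≠ 1 := fun e => by have := M.ord_z; rw [e, orderOf_one] at this; omega
      by_cases hML : M.z ∈ zpowers L.z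
      · exact hsame _ hM1 hML (hMc _ (mem_zpowers _))
      · exfalso
        have hQC : Q ≤ centralizer ({M.z} : Set G) := fun q hq =>
          mem_centralizer_singleton_iff.2 (M.z_comm q hq).symm
        have := card_le_of_le hQC
        rw [(L.noncentral _ hzP hML).2, hQ] at this
        omega

theorem card_sylow_three (hG : Nat.card G = 6048) (hno9 : ∀ g : G, orderOf g ≠ 9) :
    Nat.card (Sylow 3 G) = 28 := by
  classical
  have : Fact (Nat.Prime 3) := ⟨Nat.prime_three⟩
  have hP : ∀ P : Sylow 3 G, Nat.card (P : Subgroup G) = 27 := fun P =>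
    (Small.card_sylow_of_card_eq (k := 3) (m := 224) (by rw [hG]; norm_num) (by norm_num) P).trans
      (by norm_num)
  have hmod : Nat.card (Sylow 3 G) ≡ 1 [MOD 3 ^ 3] := by
    by_contra h
    obtain ⟨P, R, hne, hidx⟩ := Cfsg.Agent.S0985.result 3 3 h
    have hm := ((R : Subgroup G).subgroupOf (P : Subgroup G)).card_mul_index
    rw [show Nat.card (P : Subgroup G) = 27 from hP P] at hm
    have h1 : 1 < Nat.card ((R : Subgroup G).subgroupOf (P : Subgroup G)) := by
      norm_num at hidx
      nlinarith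
    have := Finite.one_lt_card_iff_nontrivial.1 h1
    obtain ⟨⟨⟨y, hyP⟩, hyR⟩, hy⟩ := exists_ne (1 : (R : Subgroup G).subgroupOf (P : Subgroup G))
    exact hne (Sylow.ext (trivial_intersection hG hno9 (hP P) (hP R) hyP (mem_subgroupOf.1 hyR)
      fun e => hy (Subtype.ext (Subtype.ext e))).symm)
  have hnc : ¬ IsMulCommutative G := Small.nc_of_not_prime (by rw [hG]; norm_num)
  have hmem := Small.card_sylow_mem (p := 3) hnc (k := 3) (m := 224) (by norm_num)
    (by rw [hG]; norm_num) (by norm_num)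
  rw [Finset.mem_filter, Nat.mem_divisors] at hmem
  have key : ∀ n ∈ Nat.divisors 224, 1 < n → n % 27 = 1 → n = 28 := by decide +kernel
  exact key _ (Nat.mem_divisors.2 hmem.1) hmem.2.2 (by simpa [Nat.ModEq] using hmod)

end CfsgLib.Recog.U33Unique
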