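import Cfsg.Agent.Lib.Blocks.ClassCount
import Cfsg.Agent.Lib.Characters.Values
import Cfsg.Agent.Lib.Characters.BrauerPerm
import Cfsg.Agent.Lib.Characters.LinearTwist
import Cfsg.Agent.Lib.Order7920.PrimeSection

/-!
Multiplicities in restrictions to cyclic subgroups, and small arithmetic facts about character
values.
-/

set_option autoImplicit false

noncomputable section

namespace CfsgLib.Recog.U33Unique

open Cfsg CfsgLib.Characters CfsgLib.BrauerPerm
open scoped ComplexConjugate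

universe u

variable {G : Type u} [Group G] [Fintype G]

/-- The multiplicity of a linear character in a restriction. -/
theorem twisted_mult (χ : IrrCharacter G) (H : Subgroup G) [Fintype H] (ξ : H →* ℂˣ) :
    ∃ m : ℕ, ∑ h : H, (χ : G → ℂ) h * (ξ h⁻¹ : ℂ) = (Nat.card H : ℂ) * m := by
  obtain ⟨m, hm⟩ := classInner_char_nat (G := H)
    (CfsgLib.Clifford.isCharacter_subtype (irr_isCharacter χ) H)
    (isCharacter_of_irr (isIrrCharacter_of_hom ξ))
  refine ⟨m, ?_⟩
  rw [← hm, classInner, ← mul_assoc, mul_inv_cancel₀ (Nat.cast_ne_zero.2 Nat.card_pos.ne'), one_mul]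
  refine Finset.sum_congr rfl fun h _ => ?_
  rw [← irr_apply_inv ⟨_, isIrrCharacter_of_hom ξ⟩]

/-- The multiplicity of an eigenvalue. -/
theorem root_mult (χ : IrrCharacter G) (y : G) {ω : ℂ} (hω : ω ^ orderOf y = 1) :
    ∃ m : ℕ, ∑ k ∈ Finset.range (orderOf y), (χ : G → ℂ) (y ^ k) * ω ^ k = (orderOf y : ℂ) * m := by
  classical
  have hω0 : ω ≠ 0 := fun e => by simp [e, (orderOf_pos y).ne'] at hω
  let u : ℂˣ := (Units.mk0 ω hω0)⁻¹
  have hu : orderOf u ∣ orderOf (⟨y, Subgroup.mem_zpowers y⟩ : Subgroup.zpowers y) := by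
    rw [Subgroup.orderOf_mk, orderOf_inv, orderOf_dvd_iff_pow_eq_one]
    exact Units.ext (by simpa using hω)
  let g : Subgroup.zpowers y := ⟨y, Subgroup.mem_zpowers y⟩
  have hg : ∀ h : Subgroup.zpowers y, h ∈ Subgroup.zpowers g := by
    rintro ⟨h, hh⟩
    obtain ⟨i, rfl⟩ := Subgroup.mem_zpowers_iff.1 hh
    exact Subgroup.mem_zpowers_iff.2 ⟨i, Subtype.ext (by simp [g])⟩
  haveI : Fintype (Subgroup.zpowers y) := Fintype.ofFinite _
  obtain ⟨m, hm⟩ := twisted_mult χ (Subgroup.zpowers y) (monoidHomOfForallMemZpowers hg hu)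
  refine ⟨m, ?_⟩
  rw [Nat.card_zpowers] at hm
  rw [← hm, Finset.sum_range]
  refine Fintype.sum_equiv (finEquivZPowers (isOfFinOrder_of_finite y)) _ _ fun k => ?_
  have he : finEquivZPowers (isOfFinOrder_of_finite y) k = g ^ (k : ℕ) := Subtype.ext (by
    simp only [finEquivZPowers_apply, SubmonoidClass.coe_pow, g])
  rw [he, map_inv, map_pow, monoidHomOfForallMemZpowers_apply_gen, ← inv_pow]
  simp [u, g]

/-- The multiplicity of the trivial character. -/
theorem triv_mult (χ : IrrCharacter G) (y : G) :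
    ∃ m : ℕ, ∑ k ∈ Finset.range (orderOf y), (χ : G → ℂ) (y ^ k) = (orderOf y : ℂ) * m := by
  obtain ⟨m, hm⟩ := root_mult χ y (ω := 1) (one_pow _)
  exact ⟨m, by simpa using hm⟩

/-- An algebraic integer that is rational is an integer. -/
theorem exists_int_of_mul_eq {z : ℂ} (hz : IsIntegral ℤ z) {n : ℕ} (hn : n ≠ 0) {a : ℤ}
    (h : (n : ℂ) * z = a) : ∃ k : ℤ, z = k ∧ (n : ℤ) * k = a := by
  have hq : z = algebraMap ℚ ℂ ((a : ℚ) / n) := by
    rw [map_div₀, map_intCast, map_natCast, eq_div_iff (Nat.cast_ne_zero.2 hn), mul_comm, h]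
  rw [hq, isIntegral_algebraMap_iff (algebraMap ℚ ℂ).injective] at hz
  obtain ⟨k, hk⟩ := IsIntegrallyClosed.isIntegral_iff.1 hz
  have hk' : z = k := by rw [hq, ← hk]; simp
  refine ⟨k, hk', ?_⟩
  rw [hk'] at h
  exact_mod_cast h

/-- An integer squared sum equal to two has two nonzero summands. -/
theorem two_of_sq {ι : Type*} [DecidableEq ι] (S : Finset ι) (F : ι → ℤ)
    (h : ∑ i ∈ S, F i ^ 2 = 2) :
    ∃ a ∈ S, ∃ b ∈ S, a ≠ b ∧ (F a = 1 ∨ F a = -1) ∧ (F b = 1 ∨ F b = -1) ∧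
      ∀ i ∈ S, i ≠ a → i ≠ b → F i = 0 := by
  have hle : ∀ i ∈ S, F i ^ 2 ≤ 2 := fun i hi =>
    h ▸ Finset.single_le_sum (fun j _ => sq_nonneg (F j)) hi
  have hpm : ∀ i ∈ S, F i ≠ 0 → F i = 1 ∨ F i = -1 := fun i hi h0 => by
    have h1 := hle i hi
    have h2 : F i ≤ 1 := by nlinarith
    have h3 : -1 ≤ F i := by nlinarith
    omega
  have hcard : ((S.filter fun i => F i ≠ 0).card : ℤ) = 2 := by
    rw [← h, ← Finset.sum_filter_of_ne (p := fun i => F i ≠ 0) fun i _ h0 e => h0 (by rw [e]; rfl),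
      Finset.sum_congr rfl (g := fun _ => (1 : ℤ)) fun i hi => by
        obtain ⟨hi, h0⟩ := Finset.mem_filter.1 hi
        rcases hpm i hi h0 with e | e <;> rw [e] <;> norm_num]
    simp
  obtain ⟨a, b, hab, he⟩ := Finset.card_eq_two.1 (by exact_mod_cast hcard)
  have hmem : ∀ i, i ∈ S ∧ F i ≠ 0 ↔ i = a ∨ i = b := fun i => by
    have := Finset.ext_iff.1 he i
    simpa using this
  obtain ⟨ha, ha0⟩ := (hmem a).2 (Or.inl rfl)
  obtain ⟨hb, hb0⟩ := (hmem b).2 (Or.inr rfl)
  exact ⟨a, ha, b, hb, hab, hpm a ha ha0, hpm b hb hb0, fun i hi h1 h2 =>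
    by_contra fun h0 => ((hmem i).1 ⟨hi, h0⟩).elim h1 h2⟩

/-- The value of an irreducible character at an involution is real. -/
theorem conj_involution (χ : IrrCharacter G) {t : G} (ht : t ^ 2 = 1) :
    conj ((χ : G → ℂ) t) = (χ : G → ℂ) t := by
  rw [← irr_apply_inv, inv_eq_of_mul_eq_one_right (by rw [← pow_two, ht])]

/-- `charDegree` is invariant under conjugation. -/
theorem charDegree_conjIrr (χ : IrrCharacter G) :
    charDegree (conjIrr χ : G → ℂ) = charDegree (χ : G → ℂ) := by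
  have h := (ClassCount.degree_eq (conjIrr χ)).1
  rw [conjIrr_apply, (ClassCount.degree_eq χ).1, map_natCast] at h
  exact_mod_cast h.symm

end CfsgLib.Recog.U33Unique
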